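import Cfsg.Agent.S3946
import Cfsg.Prelude.Def_Solvable

/-!
# Groups with a partition

A partition is refined to a map `comp` from elements to subgroups which is compatible with conjugation:
`comp x` is the member that contains `x` of the partition formed by all intersections of conjugates of
members.
-/

set_option autoImplicit false
set_option linter.style.haveILetI false

namespace Cfsg.Lib.Partition

open Subgroup
open scoped Pointwise

universe u

/-- A partition which is stable under conjugation, given by the member through each element. -/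
structure Data (G : Type u) [Group G] where
  /-- The member through an element. -/
  comp : G → Subgroup G
  self_mem : ∀ x, x ∈ comp x
  eq_of_mem : ∀ {x y}, x ≠ 1 → y ≠ 1 → y ∈ comp x → comp y = comp x
  ne_top : ∀ {x}, x ≠ 1 → comp x ≠ ⊤
  mem_conj : ∀ {g x y}, y ∈ comp (g * x * g⁻¹) ↔ g⁻¹ * y * g ∈ comp x

/-- A partition gives such data. -/
theorem exists_data {G : Type u} [Group G] (S : Set (Subgroup G)) (hS2 : ∃ H ∈ S, ∃ K ∈ S, H ≠ K)
    (hS1 : ∀ H ∈ S, H ≠ ⊥) (hpart : ∀ g : G, g ≠ 1 → ∃! H : Subgroup G, H ∈ S ∧ g ∈ H) :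
    Nonempty (Data G) := by
  classical
  choose M hM huniq using hpart
  let C : G → Subgroup G := fun x => if h : x = 1 then ⊥ else
    ⨅ g : G, (M (g * x * g⁻¹) (fun e => h (conj_eq_one_iff.1 e))).comap (MulAut.conj g).toMonoidHom
  have hmem : ∀ x (h : x ≠ 1) y, y ∈ C x ↔ ∀ g, g * y * g⁻¹ ∈ M (g * x * g⁻¹) (fun e => h (conj_eq_one_iff.1 e)) := by
    intro x h y
    simp only [C, dif_neg h, mem_iInf, mem_comap]
    rfl
  have hMeq : ∀ a (ha : a ≠ 1) b (hb : b ≠ 1), a ∈ M b hb → M a ha = M b hb := fun a ha b hb h =>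
    (huniq a ha _ ⟨(hM b hb).1, h⟩).symm
  have hMtop : ∀ a (ha : a ≠ 1), M a ha ≠ ⊤ := by
    intro a ha e
    obtain ⟨H, hH, K, hK, hne⟩ := hS2
    have key : ∀ L ∈ S, L = ⊤ := fun L hL => by
      obtain ⟨l, hl, hl1⟩ := (bot_or_exists_ne_one L).resolve_left (hS1 L hL)
      rw [huniq l hl1 L ⟨hL, hl⟩, ← e]
      exact hMeq l hl1 a ha (e ▸ mem_top l)
    exact hne ((key H hH).trans (key K hK).symm)
  refine ⟨⟨C, fun x => ?_, fun {x y} hx hy h => ?_, fun {x} hx => ?_, fun {g x y} => ?_⟩⟩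
  · by_cases h : x = 1
    · exact h ▸ one_mem _
    · exact (hmem x h x).2 fun g => (hM _ _).2
  · refine SetLike.ext fun z => ?_
    rw [hmem y hy, hmem x hx]
    refine forall_congr' fun g => ?_
    rw [hMeq (g * y * g⁻¹) _ (g * x * g⁻¹) _ ((hmem x hx y).1 h g)]
  · intro e
    refine hMtop x hx (eq_top_iff.2 fun y _ => ?_)
    have := (hmem x hx y).1 (e ▸ mem_top y) 1
    simpa using this
  · by_cases hx : x = 1
    · simp only [hx, mul_one, mul_inv_cancel, C, dite_true, mem_bot]
      rw [show g⁻¹ * y * g = g⁻¹ * y * g⁻¹⁻¹ by rw [inv_inv], conj_eq_one_iff]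
    have hgx : g * x * g⁻¹ ≠ 1 := fun e => hx (conj_eq_one_iff.1 e)
    rw [hmem _ hgx, hmem x hx]
    constructor
    · intro h k
      simpa [mul_assoc] using h (k * g⁻¹)
    · intro h k
      simpa [mul_assoc] using h (k * g)

variable {G : Type u} [Group G] (P : Data G)

namespace Data

theorem map_conj (g x : G) : (P.comp x).map (MulAut.conj g).toMonoidHom = P.comp (g * x * g⁻¹) := by
  refine SetLike.ext fun y => ?_
  rw [P.mem_conj, mem_map_equiv, MulAut.conj_symm_apply]

theorem conj_smul (g x : G) : MulAut.conj g • P.comp x = P.comp (g * x * g⁻¹) := P.map_conj g x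

theorem conj_mem {g x y : G} (h : y ∈ P.comp x) : g * y * g⁻¹ ∈ P.comp (g * x * g⁻¹) := by
  rw [P.mem_conj]
  simpa [mul_assoc] using h

theorem comp_eq {x y z : G} (hx : x ≠ 1) (hy : y ≠ 1) (hz : z ≠ 1) (hzx : z ∈ P.comp x)
    (hzy : z ∈ P.comp y) : P.comp x = P.comp y :=
  (P.eq_of_mem hx hz hzx).symm.trans (P.eq_of_mem hy hz hzy)

theorem mem_comm {x y : G} (hx : x ≠ 1) (hy : y ≠ 1) (h : y ∈ P.comp x) : x ∈ P.comp y :=
  (P.eq_of_mem hx hy h).symm ▸ P.self_mem x

theorem comp_pow {x : G} {k : ℕ} (h : x ^ k ≠ 1) : P.comp (x ^ k) = P.comp x :=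
  P.eq_of_mem (fun e => h (by rw [e, one_pow])) h (pow_mem (P.self_mem x) k)

theorem comp_ne_bot {x : G} (hx : x ≠ 1) : P.comp x ≠ ⊥ := fun e => hx (mem_bot.1 (e ▸ P.self_mem x))

/-- An element outside a member with a power inside it has that power trivial. -/
theorem pow_eq_one {a z : G} (ha : a ≠ 1) (hz : z ∉ P.comp a) {m : ℕ} (hm : z ^ m ∈ P.comp a) :
    z ^ m = 1 := by
  by_contra hne
  refine hz ?_
  rw [← P.eq_of_mem ha hne hm, P.comp_pow hne]
  exact P.self_mem z

/-- Commuting elements of different members have the same prime order. -/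
theorem commute_orderOf_le {x y : G} (hx : x ≠ 1) (hy : y ≠ 1) (hc : Commute x y) (hne : P.comp x ≠ P.comp y) :
    orderOf y ∣ orderOf x := by
  refine orderOf_dvd_of_pow_eq_one (by_contra fun h => hne ?_)
  have hxy : x * y ≠ 1 := fun e => hne (P.comp_eq hx hy hy (by
    rw [eq_inv_of_mul_eq_one_right e]; exact inv_mem (P.self_mem x)) (P.self_mem y))
  have h1 : (x * y) ^ orderOf x = y ^ orderOf x := by rw [hc.mul_pow, pow_orderOf_eq_one, one_mul]
  have h2 : P.comp (x * y) = P.comp y := by rw [← P.comp_pow (x := x * y) (h1 ▸ h), h1, P.comp_pow h]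
  refine P.eq_of_mem hy hx ?_
  rw [← mul_inv_cancel_right x y]
  exact mul_mem (h2 ▸ P.self_mem _) (inv_mem (P.self_mem y))

theorem commute_orderOf [Finite G] {x y : G} (hx : x ≠ 1) (hy : y ≠ 1) (hc : Commute x y)
    (hne : P.comp x ≠ P.comp y) : (orderOf x).Prime ∧ orderOf y = orderOf x := by
  have key : ∀ a b : G, a ≠ 1 → b ≠ 1 → Commute a b → P.comp a ≠ P.comp b → orderOf b = orderOf a :=
    fun a b ha hb hab h => Nat.dvd_antisymm (P.commute_orderOf_le ha hb hab h)
      (P.commute_orderOf_le hb ha hab.symm h.symm)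
  refine ⟨?_, key x y hx hy hc hne⟩
  obtain ⟨p, hp, hd⟩ := Nat.exists_prime_and_dvd (mt orderOf_eq_one_iff.1 hx)
  have ho : orderOf (x ^ (orderOf x / p)) = p := orderOf_pow_orderOf_div (orderOf_pos x).ne' hd
  have h1 : x ^ (orderOf x / p) ≠ 1 := fun e => hp.ne_one (by rw [← ho, e, orderOf_one])
  have h2 := key (x ^ (orderOf x / p)) y h1 hy (hc.pow_left _) (by rwa [P.comp_pow h1])
  rw [← key x y hx hy hc hne, h2, ho]
  exact hp

/-- Commuting elements with different orders share a member. -/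
theorem comp_eq_of_commute [Finite G] {x y : G} (hx : x ≠ 1) (hy : y ≠ 1) (hc : Commute x y)
    (ho : orderOf x ≠ orderOf y) : P.comp x = P.comp y :=
  by_contra fun h => ho (P.commute_orderOf hx hy hc h).2.symm

theorem comp_eq_of_commute_of_not_prime [Finite G] {x y : G} (hx : x ≠ 1) (hy : y ≠ 1) (hc : Commute x y)
    (ho : ¬ (orderOf x).Prime) : P.comp x = P.comp y :=
  by_contra fun h => ho (P.commute_orderOf hx hy hc h).1

theorem mem_normalizer_iff {a g : G} (ha : a ≠ 1) :
    g ∈ normalizer (P.comp a : Set G) ↔ g * a * g⁻¹ ∈ P.comp a := by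
  refine ⟨fun h => (Subgroup.mem_normalizer_iff.1 h a).1 (P.self_mem a), fun h => ?_⟩
  have hga : g * a * g⁻¹ ≠ 1 := fun e => ha (conj_eq_one_iff.1 e)
  rw [mem_normalizer_iff_map_conj_eq]
  exact (P.map_conj g a).trans (P.eq_of_mem ha hga h)

theorem commute_mem_normalizer {a g : G} (ha : a ≠ 1) (h : Commute g a) :
    g ∈ normalizer (P.comp a : Set G) := by
  rw [P.mem_normalizer_iff ha, h.eq, mul_inv_cancel_right]
  exact P.self_mem a

theorem inf_conj_eq_bot {a g : G} (ha : a ≠ 1) (hg : g ∉ normalizer (P.comp a : Set G)) :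
    P.comp a ⊓ MulAut.conj g • P.comp a = ⊥ := by
  refine (bot_or_exists_ne_one _).resolve_right ?_
  rintro ⟨z, ⟨hz1, hz2⟩, hz⟩
  rw [P.conj_smul] at hz2
  have hga : g * a * g⁻¹ ≠ 1 := fun e => ha (conj_eq_one_iff.1 e)
  refine hg ((P.mem_normalizer_iff ha).2 ?_)
  rw [P.comp_eq ha hga hz hz1 hz2]
  exact P.self_mem _

/-- A member equal to its normalizer is a Frobenius complement. -/
theorem isFrobeniusComplement {a : G} (ha : a ≠ 1) (h : normalizer (P.comp a : Set G) = P.comp a) :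
    Cfsg.IsFrobeniusComplement (P.comp a) :=
  ⟨P.comp_ne_bot ha, P.ne_top ha, fun _ hg => P.inf_conj_eq_bot ha (h.symm ▸ hg)⟩

theorem exists_prime_outside {A : Subgroup G} [Finite G] {y : G} (hy : y ∉ A) :
    ∃ p : ℕ, p.Prime ∧ ∃ k : ℕ, y ^ k ∉ A ∧ (y ^ k) ^ p ∈ A := by
  induction hn : orderOf y using Nat.strong_induction_on generalizing y with
  | _ n ih =>
    obtain ⟨p, hp, hd⟩ := Nat.exists_prime_and_dvd (mt orderOf_eq_one_iff.1 fun e : y = 1 => hy (e ▸ one_mem A))
    by_cases h : y ^ p ∈ A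
    · exact ⟨p, hp, 1, by rwa [pow_one], by rwa [pow_one]⟩
    · obtain ⟨q, hq, k, hk1, hk2⟩ := ih (orderOf (y ^ p)) (by
        rw [← hn, orderOf_pow_of_dvd hp.ne_zero hd]
        exact Nat.div_lt_self (orderOf_pos y) hp.one_lt) h rfl
      exact ⟨q, hq, p * k, by rwa [pow_mul], by rwa [pow_mul]⟩

theorem mul_pow_mem {A : Subgroup G} {a y : G} (ha : a ∈ A) (hy : y ∈ normalizer (A : Set G)) (k : ℕ) :
    (a * y) ^ k * (y ^ k)⁻¹ ∈ A := by
  induction k with
  | zero => simp
  | succ k ih =>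
    have e : (a * y) ^ (k + 1) * (y ^ (k + 1))⁻¹ = (a * y) ^ k * (y ^ k)⁻¹ * (y ^ k * a * (y ^ k)⁻¹) := by
      rw [pow_succ, pow_succ]; group
    rw [e]
    exact mul_mem ih ((Subgroup.mem_normalizer_iff.1 (pow_mem hy k) a).1 ha)

theorem mul_pow_eq_prod (a y : G) (α : MulAut G) (hα : ∀ x, α x = y * x * y⁻¹) (k : ℕ) :
    (a * y) ^ k = ((List.range k).map fun i : ℕ => (α ^ i) a).prod * y ^ k := by
  have hpow : ∀ i : ℕ, ∀ x, (α ^ i) x = y ^ i * x * (y ^ i)⁻¹ := by
    intro i
    induction i with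
    | zero => simp
    | succ i ih =>
      intro x
      rw [pow_succ', MulAut.mul_apply, ih, hα, pow_succ' y]
      group
  induction k with
  | zero => simp
  | succ k ih =>
    rw [pow_succ, ih, List.range_succ, List.map_append, List.prod_append, List.map_singleton,
      List.prod_singleton, hpow, pow_succ]
    group

/-- A member with a larger normalizer is nilpotent. -/
theorem isNilpotent_of_ne [Finite G] {a : G} (ha : a ≠ 1) (h : normalizer (P.comp a : Set G) ≠ P.comp a) :
    Group.IsNilpotent ↥(P.comp a) := by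
  obtain ⟨y, hy, hyA⟩ := SetLike.exists_of_lt (lt_of_le_of_ne le_normalizer h.symm)
  obtain ⟨p, hp, k, hk, hkp⟩ := exists_prime_outside hyA
  replace hy : y ^ k ∈ normalizer (P.comp a : Set G) := pow_mem hy k
  generalize y ^ k = y at hk hkp hy
  haveI := Fact.mk hp
  have hsplit : ∀ b ∈ P.comp a, (b * y) ^ p = 1 := by
    intro b hb
    refine P.pow_eq_one ha (fun e => hk ?_) ?_
    · have := mul_mem (inv_mem hb) e
      rwa [inv_mul_cancel_left] at this
    · have := mul_mem (mul_pow_mem hb hy p) hkp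
      rwa [inv_mul_cancel_right] at this
  have hyp : y ^ p = 1 := by simpa using hsplit 1 (one_mem _)
  obtain ⟨α, hα⟩ : ∃ α : MulAut ↥(P.comp a), ∀ b, (α b : G) = y * b * y⁻¹ :=
    ⟨MulEquiv.mk' ⟨fun b => ⟨y * b * y⁻¹, (Subgroup.mem_normalizer_iff.1 hy b).1 b.2⟩,
      fun b => ⟨y⁻¹ * b * y, (Subgroup.mem_normalizer_iff''.1 hy b).1 b.2⟩,
      fun b => Subtype.ext (by simp [mul_assoc]), fun b => Subtype.ext (by simp [mul_assoc])⟩
      (fun b c => Subtype.ext (by simp [mul_assoc])), fun b => rfl⟩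
  have hpow : ∀ i : ℕ, ∀ b : ↥(P.comp a), ((α ^ i) b : G) = y ^ i * b * (y ^ i)⁻¹ := by
    intro i
    induction i with
    | zero => simp
    | succ i ih =>
      intro b
      rw [pow_succ', MulAut.mul_apply, hα, ih, pow_succ' y]
      group
  have hαp : α ^ p = 1 := MulEquiv.ext fun b => Subtype.ext (by simp [hpow, hyp])
  have hprod : ∀ b : ↥(P.comp a), (((List.range p).map fun i : ℕ => (α ^ i) b).prod : ↥(P.comp a)) = 1 := by
    intro b
    refine Subtype.ext ?_
    have := mul_pow_eq_prod (b : G) y (MulAut.conj y) (fun x => rfl) p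
    rw [hsplit b b.2, hyp, mul_one] at this
    rw [SubmonoidClass.coe_list_prod, List.map_map, OneMemClass.coe_one, this]
    congr 1
    refine List.map_congr_left fun i _ => ?_
    rw [Function.comp_apply, hpow, ← map_pow, MulAut.conj_apply]
  by_cases h1 : α = 1
  · have hexp : IsPGroup p ↥(P.comp a) := fun b => ⟨1, by
      have := hprod b
      rw [h1] at this
      simpa using this⟩
    exact hexp.isNilpotent
  · have ho : orderOf α = p := orderOf_eq_prime hαp h1
    exact Cfsg.Agent.S3946.main α (by rw [ho]; exact hp) (by rw [ho]; exact hprod)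

/-- Either some member is a Frobenius complement or all are nilpotent. -/
theorem frobenius_or_nilpotent [Finite G] :
    (∃ H : Subgroup G, Cfsg.IsFrobeniusComplement H) ∨
      ∀ a : G, a ≠ 1 → normalizer (P.comp a : Set G) ≠ P.comp a ∧ Group.IsNilpotent ↥(P.comp a) := by
  by_cases h : ∃ a : G, a ≠ 1 ∧ normalizer (P.comp a : Set G) = P.comp a
  · obtain ⟨a, ha, e⟩ := h
    exact Or.inl ⟨_, P.isFrobeniusComplement ha e⟩
  · push Not at h
    exact Or.inr fun a ha => ⟨h a ha, P.isNilpotent_of_ne ha (h a ha)⟩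

/-- A nontrivial centre gives a proper Hughes subgroup. -/
theorem hughes_of_center [Finite G] (P : Data G) (h : center G ≠ ⊥) :
    ∃ p : ℕ, p.Prime ∧ closure {g : G | g ^ p ≠ 1} ≠ ⊤ := by
  obtain ⟨z, hz, hz1⟩ := (bot_or_exists_ne_one _).resolve_left h
  obtain ⟨p, hp, hd⟩ := Nat.exists_prime_and_dvd (mt orderOf_eq_one_iff.1 hz1)
  have ho : orderOf (z ^ (orderOf z / p)) = p := orderOf_pow_orderOf_div (orderOf_pos z).ne' hd
  have hw1 : z ^ (orderOf z / p) ≠ 1 := fun e => hp.ne_one (by rw [← ho, e, orderOf_one])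
  refine ⟨p, hp, fun e => P.ne_top hw1 (top_le_iff.1 (e ▸ (closure_le _).2 fun g hg => ?_))⟩
  by_contra hgw
  have hg1 : g ≠ 1 := fun e1 => hg (by rw [e1, one_pow])
  have hc : Commute (z ^ (orderOf z / p)) g :=
    (mem_center_iff.1 (pow_mem hz (orderOf z / p)) g).symm
  have := (P.commute_orderOf hw1 hg1 hc fun e1 => hgw (e1 ▸ P.self_mem g)).2
  rw [ho] at this
  exact hg (this ▸ pow_orderOf_eq_one g)

/-- The partition of a subgroup which lies in no member. -/
def restrict (X : Subgroup G) (hX : ∀ x ∈ X, x ≠ 1 → ¬ X ≤ P.comp x) : Data ↥X where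
  comp x := (P.comp x).subgroupOf X
  self_mem x := P.self_mem _
  eq_of_mem {x y} hx hy h := by
    rw [P.eq_of_mem (x := (x : G)) (y := y) (fun e => hx (Subtype.ext e)) (fun e => hy (Subtype.ext e)) h]
  ne_top {x} hx := fun e => hX x x.2 (fun e' => hx (Subtype.ext e')) (subgroupOf_eq_top.1 e)
  mem_conj {g x y} := P.mem_conj

@[simp] theorem restrict_comp (X : Subgroup G) (hX : ∀ x ∈ X, x ≠ 1 → ¬ X ≤ P.comp x) (x : ↥X) :
    (P.restrict X hX).comp x = (P.comp x).subgroupOf X := rfl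

end Data

end Cfsg.Lib.Partition
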