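import Cfsg.Agent.Lib.Partition.Normal
import Cfsg.Agent.S0199

/-!
# A partition without normal member, and an abelian normal subgroup

The group is a Frobenius group or the symmetric group of degree four.
-/

set_option autoImplicit false
set_option linter.style.haveILetI false

namespace Cfsg.Lib.Partition.Data

open Subgroup
open scoped Pointwise
open Cfsg.Lib

universe u

variable {G : Type u} [Group G] [Finite G] (P : Data G)

/-- The hypotheses of this file. -/
structure Elem (P : Data G) (U : Subgroup G) (p : ℕ) : Prop where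
  prime : p.Prime
  normal : U.Normal
  ne_bot : U ≠ ⊥
  exp : ∀ v ∈ U, v ^ p = 1
  comm : ∀ v ∈ U, ∀ w ∈ U, Commute v w
  center : Subgroup.center G = ⊥
  not_normal : ∀ a : G, a ≠ 1 → ¬ (P.comp a).Normal
  nilpotent : ∀ a : G, a ≠ 1 → Group.IsNilpotent ↥(P.comp a)

variable {P} {U : Subgroup G} {p : ℕ}

namespace Elem

variable (h : Elem P U p)
include h

omit [Finite G] in
theorem orderOf_eq {v : G} (hv : v ∈ U) (hv1 : v ≠ 1) : orderOf v = p := by
  haveI := Fact.mk h.prime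
  exact orderOf_eq_prime (h.exp v hv) hv1

omit [Finite G] in
/-- No member contains `U`. -/
theorem not_le {a : G} (ha : a ≠ 1) : ¬ U ≤ P.comp a := by
  intro hle
  obtain ⟨u, hu, hu1⟩ := (bot_or_exists_ne_one U).resolve_left h.ne_bot
  refine h.not_normal a ha (normalizer_eq_top_iff.1 (eq_top_iff.2 fun g _ => ?_))
  rw [← P.eq_of_mem ha hu1 (hle hu), P.mem_normalizer_iff hu1, P.eq_of_mem ha hu1 (hle hu)]
  exact hle (h.normal.conj_mem u hu g)

theorem pow_eq_one_of_centralizer {x : G} (hx : x ∈ centralizer (U : Set G)) : x ^ p = 1 := by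
  by_contra hne
  have hx1 : x ≠ 1 := fun e => hne (by rw [e, one_pow])
  refine h.not_le hx1 fun v hv => ?_
  by_cases hv1 : v = 1
  · exact hv1 ▸ one_mem _
  rw [P.comp_eq_of_commute hx1 hv1 (mem_centralizer_iff.1 hx v hv).symm
    (fun e => hne (by rw [← h.orderOf_eq hv hv1, ← e, pow_orderOf_eq_one]))]
  exact P.self_mem v

omit [Finite G] h in
/-- The members meeting `U` are normalised by `U`. -/
theorem conj_mem_comp {v f : G} (hf : f ≠ 1) (hvf : Commute v f) {b : G} (hb : b ∈ P.comp f) :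
    v * b * v⁻¹ ∈ P.comp f :=
  (Subgroup.mem_normalizer_iff.1 (P.commute_mem_normalizer hf hvf) b).1 hb

omit [Finite G] in
theorem comm_mem {g v : G} (hv : v ∈ U) : v * g * v⁻¹ * g⁻¹ ∈ U := by
  rw [mul_assoc, mul_assoc]
  refine mul_mem hv ?_
  rw [← mul_assoc]
  exact h.normal.conj_mem _ (inv_mem hv) g

/-- The elements of order prime to `p` act without fixed points on `U`. -/
theorem not_commute {g v : G} (hg : g ≠ 1) (hgp : ¬ p ∣ orderOf g) (hv : v ∈ U) (hv1 : v ≠ 1) :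
    ¬ Commute g v := by
  intro hc
  have hvo := h.orderOf_eq hv hv1
  have he : P.comp g = P.comp v := P.comp_eq_of_commute hg hv1 hc (fun e => hgp (by rw [e, hvo]))
  refine h.not_le hv1 fun w hw => ?_
  have hcw : ∀ x ∈ U, x ∈ P.comp v → Commute g x := fun x hxU hxB => by
    by_cases hx1 : x = 1
    · rw [hx1]; exact Commute.one_right g
    have hgB : g ∈ P.comp v := he ▸ P.self_mem g
    haveI := h.nilpotent v hv1
    exact (PGroup.commute_of_coprime_orderOf (⟨g, hgB⟩ : ↥(P.comp v)) ⟨x, hxB⟩ (by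
      rw [orderOf_mk, orderOf_mk, h.orderOf_eq hxU hx1]
      exact Nat.Coprime.symm (h.prime.coprime_iff_not_dvd.2 hgp))).map (P.comp v).subtype
  have hkB : w * g * w⁻¹ * g⁻¹ ∈ P.comp v :=
    mul_mem (conj_mem_comp (P := P) hv1 (h.comm w hw v hv) (he ▸ P.self_mem g)) (inv_mem (he ▸ P.self_mem g))
  generalize hk : w * g * w⁻¹ * g⁻¹ = k at hkB
  have hkU : k ∈ U := hk ▸ h.comm_mem hw
  have hgk := hcw k hkU hkB
  have hconj : w * g * w⁻¹ = k * g := by rw [← hk]; group
  have hn : k ^ orderOf g = 1 := by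
    have h1 : (w * g * w⁻¹) ^ orderOf g = 1 := by
      rw [conj_pow, pow_orderOf_eq_one, mul_one, mul_inv_cancel]
    rwa [hconj, hgk.symm.mul_pow, pow_orderOf_eq_one, mul_one] at h1
  have hk1 : k = 1 := by
    have h2 := pow_gcd_eq_one.2 ⟨hn, h.exp k hkU⟩
    rwa [(Nat.Coprime.symm (h.prime.coprime_iff_not_dvd.2 hgp)).gcd_eq_one, pow_one] at h2
  by_cases hw1 : w = 1
  · exact hw1 ▸ one_mem _
  rw [hk1, one_mul, mul_inv_eq_iff_eq_mul] at hconj
  rw [← he, P.comp_eq_of_commute hg hw1 hconj.symm (fun e => hgp (by rw [e, h.orderOf_eq hw hw1]))]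
  exact P.self_mem w

/-- A member meeting `U` is a `p`-group. -/
theorem dvd_of_mem {v b : G} (hv : v ∈ U) (hv1 : v ≠ 1) (hb : b ∈ P.comp v) (hb1 : b ≠ 1) : p ∣ orderOf b := by
  by_contra hp
  haveI := h.nilpotent v hv1
  refine h.not_commute hb1 hp hv hv1 ((PGroup.commute_of_coprime_orderOf (⟨b, hb⟩ : ↥(P.comp v))
    ⟨v, P.self_mem v⟩ ?_).map (P.comp v).subtype)
  rw [orderOf_mk, orderOf_mk, h.orderOf_eq hv hv1]
  exact Nat.Coprime.symm (h.prime.coprime_iff_not_dvd.2 hp)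

theorem exists_fixed {z : G} (hz : ∃ k, orderOf z = p ^ k) : ∃ v ∈ U, v ≠ 1 ∧ Commute v z := by
  obtain ⟨k, hk⟩ := hz
  haveI := Fact.mk h.prime
  haveI := h.normal
  have hU : IsPGroup p U := fun v => ⟨1, Subtype.ext (by simpa using h.exp v v.2)⟩
  have hS : IsPGroup p ↥(zpowers z ⊔ U) :=
    IsPGroup.to_sup_of_normal_right (IsPGroup.of_card (n := k) (by rw [Nat.card_zpowers, hk])) hU
  have hne : U.subgroupOf (zpowers z ⊔ U) ≠ ⊥ := fun e => h.ne_bot (by
    have := map_subgroupOf_eq_of_le (le_sup_right : U ≤ zpowers z ⊔ U)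
    rw [e, Subgroup.map_bot] at this
    exact this.symm)
  obtain ⟨c, hcU, hcc, hco⟩ := PGroup.exists_mem_center_orderOf_eq hS hne
  refine ⟨c, hcU, fun e => h.prime.ne_one (by rw [← hco, ← orderOf_coe, e, orderOf_one]), ?_⟩
  exact (congrArg Subtype.val (mem_center_iff.1 hcc ⟨z, (le_sup_left : zpowers z ≤ zpowers z ⊔ U) (mem_zpowers z)⟩) :
    z * (c : G) = c * z).symm

/-- No nontrivial `p`-element commutes with an element of order prime to `p`. -/
theorem not_commute_pElement {z r : G} {k : ℕ} (hz : orderOf z = p ^ k) (hz1 : z ≠ 1) (hr : r ≠ 1)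
    (hrp : ¬ p ∣ orderOf r) : ¬ Commute z r := by
  intro hc
  have hk : k ≠ 0 := fun e => hz1 (orderOf_eq_one_iff.1 (by rw [hz, e, pow_zero]))
  have he : P.comp r = P.comp z :=
    P.comp_eq_of_commute hr hz1 hc.symm (fun e => hrp (by rw [e, hz]; exact dvd_pow_self p hk))
  obtain ⟨v, hvU, hv1, hvz⟩ := h.exists_fixed ⟨k, hz⟩
  have hrB : r ∈ P.comp z := he ▸ P.self_mem r
  have hkB : v * r * v⁻¹ * r⁻¹ ∈ P.comp z := mul_mem (conj_mem_comp (P := P) hz1 hvz hrB) (inv_mem hrB)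
  by_cases hk1 : v * r * v⁻¹ * r⁻¹ = 1
  · rw [mul_inv_eq_one, mul_inv_eq_iff_eq_mul] at hk1
    exact h.not_commute hr hrp hvU hv1 hk1.symm
  · exact hrp (h.dvd_of_mem (h.comm_mem hvU) hk1 (P.eq_of_mem hz1 hk1 hkB ▸ hrB) hr)

/-- Every element is a `p`-element or has order prime to `p`. -/
theorem exists_pow_of_dvd {g : G} (hd : p ∣ orderOf g) : ∃ k, orderOf g = p ^ k := by
  obtain ⟨e, m, hm, hg⟩ := Nat.exists_eq_pow_mul_and_not_dvd (orderOf_pos g).ne' p h.prime.ne_one
  refine ⟨e, ?_⟩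
  by_contra hne
  have hm1 : m ≠ 1 := fun e1 => hne (by rw [hg, e1, mul_one])
  have he0 : e ≠ 0 := fun e0 => hm (by rw [hg, e0, pow_zero, one_mul] at hd; exact hd)
  have hm0 : m ≠ 0 := fun e0 => hm (e0 ▸ dvd_zero p)
  have hoz : orderOf (g ^ m) = p ^ e := by
    rw [orderOf_pow_of_dvd hm0 (by rw [hg]; exact dvd_mul_left _ _), hg, Nat.mul_div_cancel _ (Nat.pos_of_ne_zero hm0)]
  have hor : orderOf (g ^ p ^ e) = m := by
    rw [orderOf_pow_of_dvd (pow_ne_zero _ h.prime.ne_zero) (by rw [hg]; exact dvd_mul_right _ _), hg,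
      Nat.mul_div_cancel_left _ (pow_pos h.prime.pos e)]
  refine h.not_commute_pElement hoz (fun e1 => ?_) (fun e1 => hm1 (by rw [← hor, e1, orderOf_one]))
    (hor.symm ▸ hm) (Commute.pow_pow_self g m (p ^ e))
  rw [e1, orderOf_one] at hoz
  exact (Nat.one_lt_pow he0 h.prime.one_lt).ne hoz

/-- An element of order `p` normalising a nontrivial group of order prime to `p` forces `p = 2` and fixes a
subgroup of index two of `U`. -/
theorem key {y : G} (hy : y ^ p = 1) (hy1 : y ≠ 1) (R : Subgroup G) (hR : R ≠ ⊥) (hRp : ¬ p ∣ Nat.card R)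
    (hyR : y ∈ normalizer (R : Set G)) :
    p = 2 ∧ ∃ K : Subgroup G, K ≤ U ∧ Nat.card U = 2 * Nat.card K ∧ ∀ v ∈ K, Commute v y := by
  haveI := Fact.mk h.prime
  haveI := h.normal
  letI : CommGroup ↥U := { (inferInstance : Group ↥U) with
    mul_comm := fun v w => Subtype.ext (h.comm v v.2 w w.2).eq }
  haveI : Nontrivial ↥U := (nontrivial_iff_ne_bot U).2 h.ne_bot
  haveI : Finite (MulAut ↥U) := Finite.of_injective _ DFunLike.coe_injective
  let φ : G →* MulAut ↥U := MulAut.conjNormal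
  have hφ : ∀ x : G, ∀ v : ↥U, φ x v = v ↔ Commute (v : G) x := fun x v => by
    rw [Subtype.ext_iff, MulAut.conjNormal_apply, mul_inv_eq_iff_eq_mul]
    exact eq_comm
  have hyp : orderOf y = p := orderOf_eq_prime hy hy1
  have hRel : ∀ x ∈ R, ¬ p ∣ orderOf x := fun x hx hd => hRp (hd.trans (orderOf_dvd_natCard _ hx))
  have hfix : ∀ x ∈ R, x ≠ 1 → ∀ v : ↥U, φ x v = v → v = 1 := fun x hx hx1 v hv => by
    by_contra hv1
    exact h.not_commute hx1 (hRel x hx) v.2 (fun e => hv1 (Subtype.ext e)) ((hφ x v).1 hv).symm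
  have hCR : ∀ x ∈ R, Commute x y → x = 1 := fun x hx hc => by
    by_contra hx1
    exact h.not_commute_pElement (k := 1) (by rw [hyp, pow_one]) hy1 hx1 (hRel x hx) hc.symm
  have hRcomm : ∀ x ∈ R, x * y * x⁻¹ * y⁻¹ ∈ R := fun x hx => by
    rw [mul_assoc x y, mul_assoc]
    exact mul_mem hx ((Subgroup.mem_normalizer_iff.1 hyR x⁻¹).1 (inv_mem hx))
  -- the norm is not trivial
  obtain ⟨v₁, hv₁⟩ : ∃ v : ↥U, ((v : G) * y) ^ p ≠ 1 := by
    by_contra hall
    push Not at hall
    refine false_of_norm h.prime (fun v => Subtype.ext (by simpa using h.exp v v.2)) (R.map φ) (φ y)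
      (by rw [← map_pow, hy, map_one]) ?_ ?_ ?_ ?_ ?_ ?_
    · rintro _ ⟨x, hx, rfl⟩
      exact ⟨y * x * y⁻¹, (Subgroup.mem_normalizer_iff.1 hyR x).1 hx, by simp⟩
    · intro e
      obtain ⟨x, hx, hx1⟩ := (bot_or_exists_ne_one R).resolve_left hR
      obtain ⟨v, hv⟩ := exists_ne (1 : ↥U)
      refine hv (hfix x hx hx1 v ?_)
      have : φ x ∈ R.map φ := ⟨x, hx, rfl⟩
      rw [e, mem_bot] at this
      rw [this, MulAut.one_apply]
    · rintro _ ⟨x, hx, rfl⟩ v hv
      by_cases hx1 : x = 1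
      · exact Or.inl (by rw [hx1, map_one])
      · exact Or.inr (hfix x hx hx1 v hv)
    · rintro _ ⟨x, hx, rfl⟩ hc
      by_cases hk : x * y * x⁻¹ * y⁻¹ = 1
      · rw [mul_inv_eq_one, mul_inv_eq_iff_eq_mul] at hk
        rw [hCR x hx hk, map_one]
      exfalso
      obtain ⟨v, hv⟩ := exists_ne (1 : ↥U)
      refine hv (hfix _ (hRcomm x hx) hk v ?_)
      rw [map_mul, map_mul, map_mul, map_inv, map_inv, hc.eq, mul_inv_cancel_right, mul_inv_cancel,
        MulAut.one_apply]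
    · intro v
      have h1 := mul_pow_eq_prod (v : G) y (MulAut.conj y) (fun x => rfl) p
      rw [hall v, hy, mul_one] at h1
      refine Subtype.ext ?_
      show ((List.map (fun i : ℕ => (φ y ^ i) v) (List.range p)).prod : ↥U).1 = 1
      refine (SubmonoidClass.coe_list_prod _).trans ?_
      rw [h1, List.map_map]
      refine congrArg List.prod (List.map_congr_left fun i _ => ?_)
      rw [Function.comp_apply, ← map_pow, ← map_pow, MulAut.conj_apply, MulAut.conjNormal_apply]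
    · exact fun hd => hRp (hd.trans (Subgroup.card_map_dvd R φ))
  -- the kernel of the norm
  have hprod : ∀ v : ↥U, ((v : G) * y) ^ p = ((∏ i ∈ Finset.range p, (φ y ^ i) v : ↥U) : G) := by
    intro v
    rw [mul_pow_eq_prod (v : G) y (MulAut.conj y) (fun x => rfl) p, hy, mul_one]
    show _ = ((List.map (fun i : ℕ => (φ y ^ i) v) (List.range p)).prod : ↥U).1
    refine Eq.trans ?_ (SubmonoidClass.coe_list_prod _).symm
    rw [List.map_map]
    refine congrArg List.prod (List.map_congr_left fun i _ => ?_)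
    rw [Function.comp_apply, ← map_pow, ← map_pow, MulAut.conj_apply, MulAut.conjNormal_apply]
  let Nm : ↥U →* ↥U :=
    { toFun := fun v => ∏ i ∈ Finset.range p, (φ y ^ i) v
      map_one' := by simp
      map_mul' := fun v w => by simp [Finset.prod_mul_distrib] }
  have hNm : ∀ v : ↥U, v ∈ Nm.ker ↔ ((v : G) * y) ^ p = 1 := fun v => by
    rw [MonoidHom.mem_ker, hprod, OneMemClass.coe_eq_one]
    rfl
  obtain ⟨f, hfU, hf1, hfy⟩ := h.exists_fixed ⟨1, by rw [hyp, pow_one]⟩
  have hcomp : ∀ v : ↥U, v ∉ Nm.ker → (v : G) * y ∈ P.comp f := fun v hv => by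
    rw [hNm] at hv
    have hne : (v : G) * y ≠ 1 := fun e => hv (by rw [e, one_pow])
    have hc : Commute f ((v : G) * y) := (h.comm f hfU v v.2).mul_right hfy
    rw [P.comp_eq_of_commute hf1 hne hc
      (fun e => hv (by rw [← h.orderOf_eq hfU hf1, e]; exact pow_orderOf_eq_one _))]
    exact P.self_mem _
  have hdiff : ∀ v w : ↥U, v ∉ Nm.ker → w ∉ Nm.ker → ((w * v⁻¹ : ↥U) : G) ∈ P.comp f := fun v w hv hw => by
    have := mul_mem (hcomp w hw) (inv_mem (hcomp v hv))
    rw [mul_inv_rev, mul_assoc, mul_inv_cancel_left] at this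
    simpa using this
  have hKf : ∀ v ∈ Nm.ker, (v : G) ∈ P.comp f := fun v hv => by
    obtain ⟨w, hw⟩ : ∃ w, w ∉ Nm.ker := ⟨v₁, mt (hNm v₁).1 hv₁⟩
    have := hdiff w (v * w) hw (fun e => hw ((mul_mem_cancel_left hv).1 e))
    simpa using this
  have hidx : Nm.ker.index = 2 := by
    rcases Nat.lt_or_ge Nm.ker.index 3 with hlt | hge
    · have h1 : Nm.ker.index ≠ 1 := fun e => hv₁ ((hNm v₁).1 (index_eq_one.1 e ▸ mem_top v₁))
      have := Subgroup.FiniteIndex.index_ne_zero (H := Nm.ker)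
      omega
    exfalso
    refine h.not_le hf1 fun w hw => ?_
    by_cases hwK : (⟨w, hw⟩ : ↥U) ∈ Nm.ker
    · exact hKf _ hwK
    obtain ⟨q, hq1, hq2⟩ : ∃ q : ↥U ⧸ Nm.ker, q ≠ 1 ∧ q ≠ ((⟨w, hw⟩⁻¹ : ↥U) : ↥U ⧸ Nm.ker) := by
      classical
      haveI := Fintype.ofFinite (↥U ⧸ Nm.ker)
      by_contra hall
      push Not at hall
      have h2 : Fintype.card (↥U ⧸ Nm.ker) ≤ 2 := by
        rw [← Finset.card_univ]
        refine (Finset.card_le_card (t := {1, ((⟨w, hw⟩⁻¹ : ↥U) : ↥U ⧸ Nm.ker)}) fun q _ => ?_).trans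
          Finset.card_le_two
        by_cases hq : q = 1
        · simp [hq]
        · simp [hall q hq]
      rw [← Nat.card_eq_fintype_card, ← index] at h2
      omega
    obtain ⟨v, rfl⟩ := QuotientGroup.mk_surjective q
    have hvK : v ∉ Nm.ker := fun e => hq1 ((QuotientGroup.eq_one_iff v).2 e)
    have hwv : (⟨w, hw⟩ : ↥U) * v ∉ Nm.ker := fun e => hq2 (by
      rw [QuotientGroup.eq]
      have : v⁻¹ * (⟨w, hw⟩ : ↥U)⁻¹ = ((⟨w, hw⟩ : ↥U) * v)⁻¹ := by rw [mul_inv_rev]
      rw [this]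
      exact inv_mem e)
    have := hdiff v _ hvK hwv
    simpa using this
  have hp2 : p = 2 := by
    have hpU : IsPGroup p U := fun v => ⟨1, Subtype.ext (by simpa using h.exp v v.2)⟩
    obtain ⟨n, hn⟩ := IsPGroup.iff_card.1 hpU
    have := Nm.ker.index_dvd_card
    rw [hidx, hn] at this
    exact ((Nat.prime_dvd_prime_iff_eq Nat.prime_two h.prime).1 (Nat.prime_two.dvd_of_dvd_pow this)).symm
  refine ⟨hp2, Nm.ker.map U.subtype, map_subtype_le _, ?_, ?_⟩
  · rw [card_map_of_injective U.subtype_injective, ← index_mul_card Nm.ker, hidx]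
  · rintro _ ⟨v, hv, rfl⟩
    have h1 := (hNm v).1 hv
    have e : ∀ x ∈ U, x⁻¹ = x := fun x hx => inv_eq_of_mul_eq_one_right (by
      rw [← pow_two, ← hp2]; exact h.exp x hx)
    have ey : y⁻¹ = y := inv_eq_of_mul_eq_one_right (by rw [← pow_two, ← hp2]; exact hy)
    rw [hp2, pow_two, mul_eq_one_iff_eq_inv, mul_inv_rev, e _ v.2, ey] at h1
    exact h1

omit h in
theorem exists_normalizing {N M : Subgroup G} [N.Normal] {y : G} {q : ℕ} (hq : q.Prime)
    (hMN : ¬ M ≤ N) (hM : ∀ m ∈ M, ∃ k, m ^ q ^ k ∈ N) (hyM : y ∈ normalizer (M : Set G)) :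
    ∃ Q : Subgroup G, Q ≠ ⊥ ∧ IsPGroup q Q ∧ ∃ n ∈ N, n * y ∈ normalizer (Q : Set G) := by
  haveI := Fact.mk hq
  obtain ⟨S⟩ : Nonempty (Sylow q M) := inferInstance
  have hpg : IsPGroup q (↥M ⧸ N.subgroupOf M) := fun r => by
    obtain ⟨m, rfl⟩ := QuotientGroup.mk_surjective r
    obtain ⟨k, hk⟩ := hM m m.2
    exact ⟨k, by rw [← QuotientGroup.mk_pow, QuotientGroup.eq_one_iff]; exact hk⟩
  have hsup : N.subgroupOf M ⊔ (S : Subgroup M) = ⊤ := by
    rw [← index_eq_one]
    refine Nat.eq_one_of_dvd_coprimes ?_ (index_dvd_of_le le_sup_left) (index_dvd_of_le le_sup_right)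
    obtain ⟨e, he⟩ := IsPGroup.iff_card.1 hpg
    rw [index, he]
    exact ((hq.coprime_iff_not_dvd).2 S.not_dvd_index).pow_left e
  have hS0 : (S : Subgroup M) ≠ ⊥ := fun e => hMN (by
    rw [e, sup_bot_eq, subgroupOf_eq_top] at hsup
    exact hsup)
  let α : MulAut ↥M :=
    MulEquiv.mk' ⟨fun b => ⟨y * b * y⁻¹, (Subgroup.mem_normalizer_iff.1 hyM b).1 b.2⟩,
      fun b => ⟨y⁻¹ * b * y, (Subgroup.mem_normalizer_iff''.1 hyM b).1 b.2⟩,
      fun b => Subtype.ext (by simp [mul_assoc]), fun b => Subtype.ext (by simp [mul_assoc])⟩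
      (fun b c => Subtype.ext (by simp [mul_assoc]))
  obtain ⟨m, hm⟩ := MulAction.exists_smul_eq ↥M (α • S) S
  have hkey : ∀ x ∈ (S : Subgroup M), m * α x * m⁻¹ ∈ (S : Subgroup M) := by
    intro x hx
    have h1 : m * α x * m⁻¹ ∈ ((m • (α • S) : Sylow q M) : Subgroup M) := by
      rw [Sylow.coe_subgroup_smul, Sylow.pointwise_smul_def, mem_pointwise_smul_iff_inv_smul_mem]
      simp [mul_assoc]
      exact Subgroup.smul_mem_pointwise_smul x α _ hx
    rwa [hm] at h1
  obtain ⟨n, hn, s, hs, hns⟩ := mem_sup_of_normal_left.1 (hsup ▸ mem_top m : m ∈ N.subgroupOf M ⊔ (S : Subgroup M))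
  obtain ⟨Q, hQ⟩ : ∃ Q, Q = (S : Subgroup M).map M.subtype := ⟨_, rfl⟩
  refine ⟨Q, fun e => hS0 ?_, hQ ▸ S.2.map _, (s : G)⁻¹ * n * s, ?_, ?_⟩
  · exact (map_eq_bot_iff_of_injective _ M.subtype_injective).1 (hQ ▸ e)
  · simpa using ‹N.Normal›.conj_mem _ hn (s : G)⁻¹
  have hle : ∀ x ∈ Q, (s : G)⁻¹ * n * s * y * x * ((s : G)⁻¹ * n * s * y)⁻¹ ∈ Q := by
    intro x hx
    rw [hQ] at hx ⊢
    obtain ⟨x', hx', rfl⟩ := hx
    refine ⟨s⁻¹ * (m * α x' * m⁻¹) * s, mul_mem (mul_mem (inv_mem hs) (hkey x' hx')) hs, ?_⟩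
    rw [← hns]
    simp only [coe_subtype, Subgroup.coe_mul, InvMemClass.coe_inv, show (α x' : G) = y * x' * y⁻¹ from rfl]
    group
  refine Core.mem_normalizer_iff_map_conj.2 (eq_of_le_of_card_ge ?_
    (card_map_of_injective (MulAut.conj _).injective).ge)
  rintro _ ⟨x, hx, rfl⟩
  exact hle x hx

set_option maxHeartbeats 1000000 in
/-- There is an element of order `p` normalising a nontrivial group of order prime to `p`, or a Frobenius
complement. -/
theorem frobenius_or_exists :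
    (∃ H : Subgroup G, Cfsg.IsFrobeniusComplement H) ∨
      ∃ (y : G) (R : Subgroup G), y ^ p = 1 ∧ y ≠ 1 ∧ R ≠ ⊥ ∧ ¬ p ∣ Nat.card R ∧ y ∈ normalizer (R : Set G) := by
  haveI := Fact.mk h.prime
  haveI := h.normal
  obtain ⟨N, hN⟩ := (Set.toFinite {N : Subgroup G | N.Normal ∧ IsPGroup p N}).exists_maximal
    ⟨⊥, inferInstance, IsPGroup.of_bot⟩
  obtain ⟨hNn, hNp⟩ := hN.prop
  haveI := hNn
  have hUN : U ≤ N := by
    refine (le_sup_right : U ≤ N ⊔ U).trans (hN.le_of_ge ⟨inferInstance, ?_⟩ le_sup_left)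
    exact IsPGroup.to_sup_of_normal_right hNp fun v => ⟨1, Subtype.ext (by simpa using h.exp v v.2)⟩
  have hN1 : N ≠ ⊤ := by
    intro e
    have hG : IsPGroup p G := by
      rw [e] at hNp
      exact hNp.of_equiv topEquiv
    obtain ⟨u, -, hu1⟩ := (bot_or_exists_ne_one U).resolve_left h.ne_bot
    haveI : Nontrivial G := ⟨⟨u, 1, hu1⟩⟩
    exact ((nontrivial_iff_ne_bot _).1 hG.center_nontrivial) h.center
  have hpel : ∀ g : G, g ∈ N → ∃ k, orderOf g = p ^ k := fun g hg => by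
    obtain ⟨k, hk⟩ := IsPGroup.iff_orderOf.1 hNp ⟨g, hg⟩
    exact ⟨k, by rw [← hk, orderOf_mk]⟩
  by_cases hidx : p ∣ N.index
  swap
  · refine Or.inl (frobenius_of_no_commute N (fun e => h.ne_bot (le_bot_iff.1 (e ▸ hUN))) hN1
      fun k hk n hn hn1 hc => ?_)
    obtain ⟨a, ha⟩ := hpel n hn
    by_cases hd : p ∣ orderOf k
    · obtain ⟨b, hb⟩ := h.exists_pow_of_dvd hd
      refine hk ?_
      have h1 : orderOf (k : G ⧸ N) ∣ p ^ b := hb ▸ orderOf_map_dvd (QuotientGroup.mk' N) k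
      have h2 : orderOf (k : G ⧸ N) ∣ N.index := orderOf_dvd_natCard _
      rw [← QuotientGroup.eq_one_iff, ← orderOf_eq_one_iff]
      exact Nat.eq_one_of_dvd_coprimes ((h.prime.coprime_iff_not_dvd.2 hidx).pow_left b) h1 h2
    · exact h.not_commute_pElement ha hn1 (fun e => hk (by rw [e]; exact one_mem N)) hd hc
  refine Or.inr ?_
  obtain ⟨w, hw⟩ := exists_prime_orderOf_dvd_card' (G := G ⧸ N) p hidx
  obtain ⟨y, rfl⟩ := QuotientGroup.mk_surjective w
  have hyp : y ^ p ∈ N := by rw [← QuotientGroup.eq_one_iff, QuotientGroup.mk_pow, ← hw, pow_orderOf_eq_one]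
  have hyN : y ∉ N := fun e => h.prime.ne_one (by rw [← hw, (QuotientGroup.eq_one_iff y).2 e, orderOf_one])
  -- from a subgroup above `N` normalised by `y`
  have finish : ∀ (M : Subgroup G) (q : ℕ), q.Prime → q ≠ p → N ≤ M → ¬ M ≤ N →
      (∀ m ∈ M, ∃ k, m ^ q ^ k ∈ N) → y ∈ normalizer (M : Set G) →
      ∃ (y : G) (R : Subgroup G), y ^ p = 1 ∧ y ≠ 1 ∧ R ≠ ⊥ ∧ ¬ p ∣ Nat.card R ∧ y ∈ normalizer (R : Set G) := by
    intro M q hq hqp _ hMN hM hyM
    haveI := Fact.mk hq
    obtain ⟨Q, hQ0, hQq, n, hn, hnQ⟩ := exists_normalizing hq hMN hM hyM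
    have hRp : ¬ p ∣ Nat.card Q := by
      obtain ⟨e, he⟩ := IsPGroup.iff_card.1 hQq
      rw [he]
      exact fun hd => hqp ((Nat.prime_dvd_prime_iff_eq h.prime hq).1 (h.prime.dvd_of_dvd_pow hd)).symm
    have hgN : n * y ∉ N := fun e => hyN ((mul_mem_cancel_left hn).1 e)
    have hgp : (n * y) ^ p ∈ N := by
      rw [← QuotientGroup.eq_one_iff, QuotientGroup.mk_pow, QuotientGroup.mk_mul,
        (QuotientGroup.eq_one_iff n).2 hn, one_mul, ← QuotientGroup.mk_pow, QuotientGroup.eq_one_iff]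
      exact hyp
    refine ⟨n * y, Q, ?_, fun e => hgN (e ▸ one_mem N), hQ0, hRp, hnQ⟩
    obtain ⟨x, hxQ, hx1⟩ := (bot_or_exists_ne_one Q).resolve_left hQ0
    by_contra hne
    obtain ⟨k, hk⟩ := hpel _ hgp
    refine h.not_commute_pElement hk hne hx1 (fun hd => hRp (hd.trans (orderOf_dvd_natCard _ hxQ))) ?_
    have hgQ : (n * y) ^ p ∈ normalizer (Q : Set G) := pow_mem hnQ p
    have h1 : (n * y) ^ p * x * ((n * y) ^ p)⁻¹ * x⁻¹ ∈ N ⊓ Q := by
      refine ⟨?_, Q.mul_mem ((Subgroup.mem_normalizer_iff.1 hgQ x).1 hxQ) (Q.inv_mem hxQ)⟩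
      rw [show (n * y) ^ p * x * ((n * y) ^ p)⁻¹ * x⁻¹ = (n * y) ^ p * (x * ((n * y) ^ p)⁻¹ * x⁻¹) by group]
      exact N.mul_mem hgp (hNn.conj_mem _ (inv_mem hgp) x)
    rw [(IsPGroup.disjoint_of_ne p q (Ne.symm hqp) N Q hNp hQq).eq_bot, mem_bot, mul_inv_eq_one,
      mul_inv_eq_iff_eq_mul] at h1
    exact h1
  by_cases hp2 : p = 2
  · -- Baer–Suzuki
    subst hp2
    obtain ⟨z, hzdef⟩ : ∃ z, z = (y : G ⧸ N) := ⟨_, rfl⟩
    change orderOf (y : G ⧸ N) = 2 at hw
    rw [← hzdef] at hw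
    have hz2 : z * z = 1 := by rw [← pow_two, ← hw, pow_orderOf_eq_one]
    have hX : IsPGroup 2 (zpowers z) := IsPGroup.of_card (n := 1) (by rw [Nat.card_zpowers, hw, pow_one])
    by_cases hall : ∀ g : G ⧸ N, IsPGroup 2 ↥(zpowers z ⊔ (zpowers z).map (MulAut.conj g).toMonoidHom)
    · obtain ⟨Mb, hMn, hMp, hzM⟩ := Cfsg.Agent.S0199.result (zpowers z) hX hall
      haveI := hMn
      have hNM : N ≤ Mb.comap (QuotientGroup.mk' N) := fun n hn => by
        rw [mem_comap, QuotientGroup.mk'_apply, (QuotientGroup.eq_one_iff n).2 hn]; exact one_mem _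
      have hle := hN.le_of_ge ⟨inferInstance, hMp.comap_of_ker_isPGroup _ (by
        rw [QuotientGroup.ker_mk']; exact hNp)⟩ hNM
      exact absurd (hle (show y ∈ Mb.comap (QuotientGroup.mk' N) from by
        rw [mem_comap, QuotientGroup.mk'_apply, ← hzdef]; exact hzM (mem_zpowers z))) hyN
    push Not at hall
    obtain ⟨g, hg⟩ := hall
    obtain ⟨x, hx⟩ : ∃ x, x = z * (g * z * g⁻¹) := ⟨_, rfl⟩
    have hw2 : g * z * g⁻¹ * (g * z * g⁻¹) = 1 := by
      rw [show g * z * g⁻¹ * (g * z * g⁻¹) = g * (z * z) * g⁻¹ by group, hz2]; group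
    have hzx : z * x * z⁻¹ = x⁻¹ := by
      rw [hx, mul_inv_rev z, inv_eq_of_mul_eq_one_right hw2, inv_eq_of_mul_eq_one_right hz2, ← mul_assoc z z, hz2,
        one_mul]
    have hzn : ∀ k : ℕ, z ∈ normalizer (zpowers (x ^ k) : Set (G ⧸ N)) := fun k => by
      rw [mem_normalizer_iff_map_conj_eq, MonoidHom.map_zpowers]
      show zpowers (z * x ^ k * z⁻¹) = zpowers (x ^ k)
      rw [← conj_pow, hzx, inv_pow, zpowers_inv]
    obtain ⟨q, hq, hq2, hqd⟩ : ∃ q, q.Prime ∧ q ≠ 2 ∧ q ∣ orderOf x := by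
      by_contra hc
      push Not at hc
      refine hg ((IsPGroup.to_sup_of_normal_right' hX (IsPGroup.of_card (G := zpowers (x ^ 1))
        (n := (orderOf x).factorization 2) ?_) (zpowers_le.2 (hzn 1))).to_le (sup_le le_sup_left ?_))
      · rw [Nat.card_zpowers, pow_one]
        conv_lhs => rw [← Nat.prod_factorization_pow_eq_self (orderOf_pos x).ne']
        rw [Finsupp.prod_eq_single 2]
        · intro r hr hr2
          have hmem := Nat.mem_primeFactors.1 (Nat.support_factorization (orderOf x) ▸ Finsupp.mem_support_iff.2 hr)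
          exact absurd (hc r hmem.1 hr2) (by simpa using hmem.2.1)
        · intro; simp
      · rw [MonoidHom.map_zpowers, zpowers_le]
        show g * z * g⁻¹ ∈ _
        rw [show g * z * g⁻¹ = z⁻¹ * x by rw [hx, inv_mul_cancel_left]]
        exact mul_mem (inv_mem (mem_sup_left (mem_zpowers z))) (mem_sup_right (by rw [pow_one]; exact mem_zpowers x))
    obtain ⟨r, hr⟩ : ∃ r, r = x ^ (orderOf x / q) := ⟨_, rfl⟩
    have hro : orderOf r = q := by rw [hr]; exact orderOf_pow_orderOf_div (orderOf_pos x).ne' hqd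
    refine finish ((zpowers r).comap (QuotientGroup.mk' N)) q hq hq2 (fun n hn => ?_) (fun hle => ?_)
      (fun m hm => ⟨1, ?_⟩) ?_
    · rw [mem_comap, QuotientGroup.mk'_apply, (QuotientGroup.eq_one_iff n).2 hn]; exact one_mem _
    · obtain ⟨m, hm⟩ := QuotientGroup.mk_surjective r
      refine hq.ne_one ?_
      rw [← hro, ← hm, (QuotientGroup.eq_one_iff m).2 (hle (by
        rw [mem_comap, QuotientGroup.mk'_apply, hm]; exact mem_zpowers r)), orderOf_one]
    · rw [pow_one, ← QuotientGroup.eq_one_iff, QuotientGroup.mk_pow, ← orderOf_dvd_iff_pow_eq_one, ← hro]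
      exact orderOf_dvd_of_mem_zpowers (mem_comap.1 hm)
    · refine Subgroup.mem_normalizer_iff.2 fun m => ?_
      simp only [mem_comap, map_mul, map_inv, QuotientGroup.mk'_apply, ← hzdef]
      rw [hr]
      exact Subgroup.mem_normalizer_iff.1 (hzn _) _
  · -- no involution, hence solvable
    have hinv : ∀ t : G, orderOf t = 2 → False := by
      intro t ht
      have ht1 : t ≠ 1 := fun e => by rw [e, orderOf_one] at ht; omega
      have ht2 : ¬ p ∣ orderOf t := by
        rw [ht]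
        exact fun hd => hp2 ((Nat.prime_dvd_prime_iff_eq h.prime Nat.prime_two).1 hd)
      have htU : ∀ v ∈ U, t * v * t⁻¹ = v⁻¹ := fun v hv => by
        have e : t⁻¹ = t := inv_eq_of_mul_eq_one_right (by rw [← pow_two, ← ht, pow_orderOf_eq_one])
        have hfix : Commute t (v * (t * v * t⁻¹)) := by
          show t * (v * (t * v * t⁻¹)) = v * (t * v * t⁻¹) * t
          calc t * (v * (t * v * t⁻¹)) = (t * v * t⁻¹) * (t * t * v * (t * t)⁻¹) * t := by group
            _ = (t * v * t⁻¹) * v * t := by rw [← pow_two, ← ht, pow_orderOf_eq_one]; group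
            _ = v * (t * v * t⁻¹) * t := by rw [(h.comm _ (h.normal.conj_mem v hv t) v hv).eq]
        by_contra hne
        refine h.not_commute ht1 ht2 (mul_mem hv (h.normal.conj_mem v hv t)) (fun e1 => hne ?_) hfix
        exact eq_inv_of_mul_eq_one_right e1
      have hyU : ¬ y ∈ centralizer (U : Set G) := fun hy' => by
        haveI : (centralizer (U : Set G)).Normal := normal_centralizer
        have hCN : centralizer (U : Set G) ≤ N :=
          (le_sup_right : _ ≤ N ⊔ centralizer (U : Set G)).trans (hN.le_of_ge ⟨inferInstance,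
            IsPGroup.to_sup_of_normal_right hNp fun v => ⟨1, Subtype.ext (by
              simpa using h.pow_eq_one_of_centralizer v.2)⟩⟩ le_sup_left)
        exact hyN (hCN hy')
      let φ : G →* MulAut ↥U := MulAut.conjNormal
      have hφt : ∀ v : ↥U, φ t v = v⁻¹ := fun v => Subtype.ext (by
        rw [MulAut.conjNormal_apply, htU v v.2]; rfl)
      have hcomm : Commute (φ t) (φ y) := MulEquiv.ext fun v => by
        rw [MulAut.mul_apply, MulAut.mul_apply, hφt, hφt, map_inv]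
      have hot : orderOf (φ t) = 2 := orderOf_eq_prime
        (by rw [← map_pow, ← ht, pow_orderOf_eq_one, map_one]) fun e => by
          obtain ⟨v, hv, hv1⟩ := (bot_or_exists_ne_one U).resolve_left h.ne_bot
          have := hφt ⟨v, hv⟩
          rw [e, MulAut.one_apply] at this
          have h2 : v ^ 2 = 1 := by rw [pow_two, mul_eq_one_iff_eq_inv]; exact congrArg Subtype.val this
          have h3 := orderOf_dvd_of_pow_eq_one h2
          rw [h.orderOf_eq hv hv1] at h3
          exact hp2 ((Nat.prime_dvd_prime_iff_eq h.prime Nat.prime_two).1 h3)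
      obtain ⟨b, hb⟩ := h.exists_pow_of_dvd (hw ▸ orderOf_map_dvd (QuotientGroup.mk' N) y)
      obtain ⟨c, -, hoy⟩ := (Nat.dvd_prime_pow h.prime).1 (hb ▸ orderOf_map_dvd φ y)
      have hc0 : c ≠ 0 := by
        rintro rfl
        rw [pow_zero, orderOf_eq_one_iff] at hoy
        refine hyU (mem_centralizer_iff.2 fun v hv => ?_)
        have := congrArg (fun e : MulAut ↥U => (e ⟨v, hv⟩ : G)) hoy
        simp only [φ, MulAut.conjNormal_apply, MulAut.one_apply, mul_inv_eq_iff_eq_mul] at this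
        exact this.symm
      have hd : 2 * p ^ c ∣ orderOf (t * y) := by
        refine dvd_trans ?_ (orderOf_map_dvd φ (t * y))
        rw [map_mul, hcomm.orderOf_mul_eq_mul_orderOf_of_coprime
          (by rw [hot, hoy]; exact ((Nat.coprime_primes Nat.prime_two h.prime).2 (Ne.symm hp2)).pow_right c),
          hot, hoy]
      obtain ⟨e, he⟩ := h.exists_pow_of_dvd ((dvd_pow_self p hc0).trans ((dvd_mul_left _ _).trans hd))
      have := (dvd_mul_right 2 (p ^ c)).trans hd
      rw [he] at this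
      exact hp2 ((Nat.prime_dvd_prime_iff_eq Nat.prime_two h.prime).1 (Nat.prime_two.dvd_of_dvd_pow this)).symm
    haveI : Group.IsSolvable G := Cfsg.Agent.S0205.result (by
      by_contra hev
      rw [Nat.not_odd_iff_even, even_iff_two_dvd] at hev
      haveI : Fact (Nat.Prime 2) := ⟨Nat.prime_two⟩
      obtain ⟨t, ht⟩ := exists_prime_orderOf_dvd_card' 2 hev
      exact hinv t ht)
    haveI : Nontrivial (G ⧸ N) := ⟨⟨(y : G ⧸ N), 1, fun e => hyN ((QuotientGroup.eq_one_iff y).1 e)⟩⟩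
    obtain ⟨q, hq, Rb, hRn, hR0, hRq⟩ := exists_q_normal (K := G ⧸ N)
    haveI := hRn
    have hMn : (Rb.comap (QuotientGroup.mk' N)).Normal := inferInstance
    have hMq : ∀ m ∈ Rb.comap (QuotientGroup.mk' N), m ^ q ∈ N := fun m hm => by
      rw [← QuotientGroup.eq_one_iff, QuotientGroup.mk_pow]
      exact hRq _ hm
    have hNM : N ≤ Rb.comap (QuotientGroup.mk' N) := fun n hn => by
      rw [mem_comap, QuotientGroup.mk'_apply, (QuotientGroup.eq_one_iff n).2 hn]; exact one_mem _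
    have hMN : ¬ Rb.comap (QuotientGroup.mk' N) ≤ N := fun hle => hR0 ((eq_bot_iff_forall _).2 fun r hr => by
      obtain ⟨m, rfl⟩ := QuotientGroup.mk_surjective r
      exact (QuotientGroup.eq_one_iff m).2 (hle hr))
    refine finish _ q hq (fun e => ?_) hNM hMN (fun m hm => ⟨1, by rw [pow_one]; exact hMq m hm⟩)
      (le_normalizer_of_normal (mem_top y))
    subst e
    refine hMN (hN.le_of_ge ⟨hMn, fun m => ?_⟩ hNM)
    obtain ⟨k, hk⟩ := hNp ⟨_, hMq m m.2⟩
    exact ⟨k + 1, Subtype.ext (by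
      rw [pow_succ', pow_mul]
      simpa using congrArg Subtype.val hk)⟩

theorem card_eq_four (h2 : p = 2) {y : G} (hy : y ^ p = 1) (hy1 : y ≠ 1) {R : Subgroup G} (hR : R ≠ ⊥)
    (hRp : ¬ p ∣ Nat.card R) (hyR : y ∈ normalizer (R : Set G)) : Nat.card U = 4 := by
  subst h2
  haveI := h.normal
  obtain ⟨r, hr, hr1⟩ := (bot_or_exists_ne_one R).resolve_left hR
  obtain ⟨-, K, hKU, hK, hKy⟩ := h.key hy hy1 R hR hRp hyR
  obtain ⟨-, K', hKU', hK', hKy'⟩ := h.key (y := r * y * r⁻¹) (by rw [conj_pow, hy]; group)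
    (fun e => hy1 (conj_eq_one_iff.1 e)) R hR hRp
    (mul_mem (mul_mem (le_normalizer hr) hyR) (inv_mem (le_normalizer hr)))
  have hdisj : ∀ v ∈ K, v ∈ K' → v = 1 := fun v hv hv' => by
    by_contra hv1
    have hxR : r * y * r⁻¹ * y⁻¹ ∈ R := by
      rw [mul_assoc r y, mul_assoc]
      exact mul_mem hr ((Subgroup.mem_normalizer_iff.1 hyR r⁻¹).1 (inv_mem hr))
    have hx1 : r * y * r⁻¹ * y⁻¹ ≠ 1 := fun e => by
      rw [mul_inv_eq_one, mul_inv_eq_iff_eq_mul] at e
      exact h.not_commute_pElement (z := y) (k := 1)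
        (by haveI := Fact.mk h.prime; rw [pow_one]; exact orderOf_eq_prime hy hy1) hy1 hr1
        (fun hd => hRp (hd.trans (orderOf_dvd_natCard _ hr))) e.symm
    exact h.not_commute hx1 (fun hd => hRp (hd.trans (orderOf_dvd_natCard _ hxR))) (hKU hv) hv1
      ((hKy' v hv').mul_right (hKy v hv).inv_right).symm
  have hle : Nat.card K * Nat.card K' ≤ Nat.card U := by
    rw [← Nat.card_prod]
    refine Nat.card_le_card_of_injective (fun ab => (⟨ab.1 * ab.2, mul_mem (hKU ab.1.2) (hKU' ab.2.2)⟩ : U)) ?_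
    rintro ⟨a, b⟩ ⟨c, d⟩ e
    have e' : (a : G) * b = c * d := congrArg Subtype.val e
    have h1 : (c : G)⁻¹ * a = d * (b : G)⁻¹ := by
      rw [eq_mul_inv_iff_mul_eq, mul_assoc, e', inv_mul_cancel_left]
    have h2 : (c : G)⁻¹ * a = 1 :=
      hdisj _ (mul_mem (inv_mem c.2) a.2) (h1 ▸ mul_mem d.2 (inv_mem b.2))
    rw [inv_mul_eq_one] at h2
    rw [← h2] at e'
    exact Prod.ext (Subtype.ext h2.symm) (Subtype.ext (mul_left_cancel e'))
  have hKeq : Nat.card K' = Nat.card K := by omega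
  rw [hKeq, hK] at hle
  have hK0 : 0 < Nat.card K := Nat.card_pos
  have hK2 : Nat.card K ≤ 2 := Nat.le_of_mul_le_mul_right hle hK0
  have hK1 : Nat.card K ≠ 1 := fun e => by
    obtain ⟨u, hu, hu1⟩ := (bot_or_exists_ne_one U).resolve_left h.ne_bot
    have h2 : Nat.card U = 2 := by omega
    have hc : u ∈ Subgroup.center G := mem_center_iff.2 fun g => by
      obtain ⟨a, b, -, hab⟩ := Nat.card_eq_two_iff.1 h2
      have h0 : ∀ x : U, x = 1 ∨ x = ⟨u, hu⟩ := fun x => by
        have hx := Set.eq_univ_iff_forall.1 hab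
        have := hx x; have := hx 1; have := hx ⟨u, hu⟩
        have : (1 : U) ≠ ⟨u, hu⟩ := fun e => hu1 (congrArg Subtype.val e).symm
        simp only [Set.mem_insert_iff, Set.mem_singleton_iff] at *
        grind
      rcases h0 ⟨_, h.normal.conj_mem u hu g⟩ with e | e
      · exact absurd (conj_eq_one_iff.1 (congrArg Subtype.val e)) hu1
      · exact mul_inv_eq_iff_eq_mul.1 (congrArg Subtype.val e)
    rw [h.center, mem_bot] at hc
    exact hu1 hc
  omega

/-- No member is normal and an abelian normal subgroup exists: a Frobenius group or `S₄`. -/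
theorem elementary_case :
    (∃ H : Subgroup G, Cfsg.IsFrobeniusComplement H) ∨ Nonempty (G ≃* Equiv.Perm (Fin 4)) := by
  rcases h.frobenius_or_exists with hF | ⟨y, R, hy, hy1, hR, hRp, hyR⟩
  · exact Or.inl hF
  refine Or.inr ?_
  obtain ⟨rfl, -⟩ := h.key hy hy1 R hR hRp hyR
  haveI := h.normal
  have hU4 := h.card_eq_four rfl hy hy1 hR hRp hyR
  -- `U` is self-centralizing
  have hUC : U ≤ centralizer (U : Set G) := fun v hv => mem_centralizer_iff.2 fun w hw => (h.comm w hw v hv).eq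
  have hC : Elem P (centralizer (U : Set G)) 2 :=
    { prime := h.prime
      normal := normal_centralizer
      ne_bot := fun e => h.ne_bot (le_bot_iff.1 (e ▸ hUC))
      exp := fun v hv => h.pow_eq_one_of_centralizer hv
      comm := fun v hv w hw => by
        have e : ∀ x : G, x ^ 2 = 1 → x⁻¹ = x := fun x hx => inv_eq_of_mul_eq_one_right (by rwa [← pow_two])
        have h1 := e _ (h.pow_eq_one_of_centralizer (mul_mem hv hw))
        rw [mul_inv_rev, e _ (h.pow_eq_one_of_centralizer hv), e _ (h.pow_eq_one_of_centralizer hw)] at h1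
        exact h1.symm
      center := h.center
      not_normal := h.not_normal
      nilpotent := h.nilpotent }
  have hCU : centralizer (U : Set G) = U :=
    (eq_of_le_of_card_ge hUC (by rw [hU4, hC.card_eq_four rfl hy hy1 hR hRp hyR])).symm
  -- the index is six
  have hRU : ∀ x ∈ R, x ∈ U → x = 1 := fun x hxR hxU => by
    by_contra hx1
    exact hRp ((h.orderOf_eq hxU hx1) ▸ orderOf_dvd_natCard _ hxR)
  have hyU : y ∉ U := fun hyU => by
    obtain ⟨r, hr, hr1⟩ := (bot_or_exists_ne_one R).resolve_left hR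
    haveI := Fact.mk h.prime
    refine h.not_commute_pElement (z := y) (r := r) (k := 1) (by rw [pow_one]; exact orderOf_eq_prime hy hy1) hy1
      hr1 (fun hd => hRp (hd.trans (orderOf_dvd_natCard _ hr))) ?_
    have h1 : y * r * y⁻¹ * r⁻¹ = 1 := hRU _ (mul_mem ((Subgroup.mem_normalizer_iff.1 hyR r).1 hr) (inv_mem hr))
      (h.comm_mem hyU)
    rwa [mul_inv_eq_one, mul_inv_eq_iff_eq_mul] at h1
  letI : MulAction G {v : ↥U // v ≠ 1} :=
    { smul := fun g v => ⟨MulAut.conjNormal g v.1, fun e => v.2 ((map_eq_one_iff _ (MulEquiv.injective _)).1 e)⟩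
      one_smul := fun v => Subtype.ext (Subtype.ext (by show (1 : G) * _ * 1⁻¹ = _; group))
      mul_smul := fun g k v => Subtype.ext (Subtype.ext (by
        show g * k * _ * (g * k)⁻¹ = g * (k * _ * k⁻¹) * g⁻¹; group)) }
  have hker : (MulAction.toPermHom G {v : ↥U // v ≠ 1}).ker = U := by
    refine SetLike.ext fun g => ?_
    rw [MonoidHom.mem_ker]
    constructor
    · intro hg
      rw [← hCU, mem_centralizer_iff]
      intro v hv
      by_cases hv1 : v = 1
      · simp [hv1]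
      have := congrArg (fun e : Equiv.Perm {v : ↥U // v ≠ 1} =>
        (((e ⟨⟨v, hv⟩, fun e => hv1 (congrArg Subtype.val e)⟩ : {v : ↥U // v ≠ 1}) : ↥U) : G)) hg
      exact (mul_inv_eq_iff_eq_mul.1 this).symm
    · intro hg
      refine Equiv.ext fun v => Subtype.ext (Subtype.ext ?_)
      show g * _ * g⁻¹ = _
      rw [(h.comm g hg _ v.1.2).eq, mul_inv_cancel_right]
      rfl
  have hΩ : Nat.card {v : ↥U // v ≠ 1} = 3 := by
    classical
    haveI := Fintype.ofFinite ↥U
    rw [Nat.card_eq_fintype_card, Fintype.card_subtype_compl, Fintype.card_subtype_eq, ← Nat.card_eq_fintype_card,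
      hU4]
  have hidx6 : U.index ∣ 6 := by
    have h1 : U.index = Nat.card (MulAction.toPermHom G {v : ↥U // v ≠ 1}).range := by
      exact (congrArg Subgroup.index hker).symm.trans (index_ker _)
    rw [h1]
    refine (card_subgroup_dvd_card _).trans (dvd_of_eq ?_)
    rw [Nat.card_perm, hΩ]
    rfl
  have hG : Nat.card G = 24 := by
    haveI := Fact.mk h.prime
    have h2 : 2 ∣ U.index := by
      have : orderOf (y : G ⧸ U) = 2 := orderOf_eq_prime
        (by rw [← QuotientGroup.mk_pow, hy, QuotientGroup.mk_one]) fun e => hyU ((QuotientGroup.eq_one_iff y).1 e)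
      exact this ▸ orderOf_dvd_natCard _
    have h3 : 3 ∣ U.index := by
      obtain ⟨q, hq, hqR⟩ := Nat.exists_prime_and_dvd (fun e => hR (Subgroup.card_eq_one.1 e))
      haveI := Fact.mk hq
      obtain ⟨r, hr⟩ := exists_prime_orderOf_dvd_card' q hqR
      have hro : orderOf (r : G) = q := by rw [orderOf_coe, hr]
      have : orderOf ((r : G) : G ⧸ U) = q := orderOf_eq_prime
        (by rw [← QuotientGroup.mk_pow, ← hro, pow_orderOf_eq_one, QuotientGroup.mk_one])
        fun e => hq.ne_one (by rw [← hro, hRU _ r.2 ((QuotientGroup.eq_one_iff _).1 e), orderOf_one])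
      have hqi : q ∣ U.index := this ▸ orderOf_dvd_natCard _
      have hq6 := (Nat.Prime.dvd_mul hq).1 (show q ∣ 2 * 3 from hqi.trans hidx6)
      rcases hq6 with e | e
      · exact absurd ((Nat.prime_dvd_prime_iff_eq hq Nat.prime_two).1 e ▸ hqR) hRp
      · exact (Nat.prime_dvd_prime_iff_eq hq Nat.prime_three).1 e ▸ hqi
    have h6 : U.index = 6 := Nat.dvd_antisymm hidx6 (Nat.Coprime.mul_dvd_of_dvd_of_dvd (by norm_num) h2 h3)
    rw [← card_mul_index U, hU4, h6]
  -- four Sylow 3-subgroups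
  haveI : Fact (Nat.Prime 3) := ⟨Nat.prime_three⟩
  have hS3 : ∀ (S : Sylow 3 G), ∀ s ∈ (S : Subgroup G), s ≠ 1 → ∀ u ∈ U, u ≠ 1 →
      u ∉ normalizer ((S : Subgroup G) : Set G) := fun S s hs hs1 u hu hu1 hn => by
    have hS : ¬ 2 ∣ orderOf s := fun hd => by
      obtain ⟨k, hk⟩ := IsPGroup.iff_orderOf.1 S.2 ⟨s, hs⟩
      rw [orderOf_mk] at hk
      rw [hk] at hd
      exact absurd (Nat.prime_two.dvd_of_dvd_pow hd) (by norm_num)
    refine h.not_commute hs1 hS hu hu1 ?_
    have h1 : u * s * u⁻¹ * s⁻¹ ∈ U ⊓ (S : Subgroup G) :=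
      ⟨h.comm_mem hu, (S : Subgroup G).mul_mem ((Subgroup.mem_normalizer_iff.1 hn s).1 hs) (inv_mem hs)⟩
    have hdis : U ⊓ (S : Subgroup G) = ⊥ := (IsPGroup.disjoint_of_ne 2 3 (by norm_num) U S
      (hp₁ := ⟨Nat.prime_two⟩) (fun v => ⟨1, Subtype.ext (by simpa using h.exp v v.2)⟩) S.2).eq_bot
    rw [hdis, mem_bot, mul_inv_eq_one, mul_inv_eq_iff_eq_mul] at h1
    exact h1.symm
  obtain ⟨S⟩ : Nonempty (Sylow 3 G) := inferInstance
  obtain ⟨s, hs, hs1⟩ := (bot_or_exists_ne_one _).resolve_left (S.ne_bot_of_dvd_card (by rw [hG]; norm_num))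
  obtain ⟨u, hu, hu1⟩ := (bot_or_exists_ne_one U).resolve_left h.ne_bot
  have hn4 : Nat.card (Sylow 3 G) = 4 := by
    have hmod : Nat.card (Sylow 3 G) ≡ 1 [MOD 3] := card_sylow_modEq_one 3 G
    have hd : Nat.card (Sylow 3 G) ∣ 24 := by
      rw [S.card_eq_index_normalizer, ← hG]; exact index_dvd_card _
    have h1 : Nat.card (Sylow 3 G) ≠ 1 := fun e => by
      rw [S.card_eq_index_normalizer, index_eq_one] at e
      exact hS3 S s hs hs1 u hu hu1 (e ▸ mem_top u)
    unfold Nat.ModEq at hmod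
    have hle := Nat.le_of_dvd (by norm_num) hd
    generalize Nat.card (Sylow 3 G) = n at hmod hd h1 hle
    interval_cases n <;> omega
  have hinj : Function.Injective (MulAction.toPermHom G (Sylow 3 G)) := by
    rw [← MonoidHom.ker_eq_bot_iff]
    have hN : ∀ k ∈ (MulAction.toPermHom G (Sylow 3 G)).ker, k ∈ normalizer ((S : Subgroup G) : Set G) :=
      fun k hk => Sylow.smul_eq_iff_mem_normalizer.1 (Equiv.ext_iff.1 (MonoidHom.mem_ker.1 hk) S)
    have hKU : ∀ k ∈ (MulAction.toPermHom G (Sylow 3 G)).ker, k ∈ U → k = 1 := fun k hk hkU => by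
      by_contra hk1
      exact hS3 S s hs hs1 k hkU hk1 (hN k hk)
    refine (eq_bot_iff_forall _).2 fun k hk => hKU k hk ?_
    rw [← hCU, mem_centralizer_iff]
    intro v hv
    have h1 := hKU (v * k * v⁻¹ * k⁻¹)
      (mul_mem ((MulAction.toPermHom G (Sylow 3 G)).normal_ker.conj_mem k hk v) (inv_mem hk)) (h.comm_mem hv)
    rwa [mul_inv_eq_one, mul_inv_eq_iff_eq_mul] at h1
  have hcard : Nat.card G = Nat.card (Equiv.Perm (Sylow 3 G)) := by rw [Nat.card_perm, hn4, hG]; rfl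
  exact ⟨(MulEquiv.ofBijective _ (Function.Injective.bijective_of_nat_card_le hinj hcard.ge)).trans
    (Finite.equivFinOfCardEq hn4).permCongrHom⟩

end Elem

end Cfsg.Lib.Partition.Data
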