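import Cfsg.Agent.Lib.Partition.Basic
import Cfsg.Agent.Lib.Invol.Basic
import Cfsg.Agent.Lib.Local.SylowFixedPoints
import Cfsg.Agent.Lib.Invol.AbelianCentralizers.Basic
import Cfsg.Agent.Lib.TwoGroup.Models
import Cfsg.Agent.S0111

/-!
# Centralizers of involutions in a group with partition

If the centralizer of an involution `w` is not contained in the member of `w`, the elements outside invert
the elements inside.
-/

set_option autoImplicit false
set_option linter.style.haveILetI false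

namespace Cfsg.Lib.Partition.Data

open Subgroup
open Cfsg.Lib

universe u

variable {G : Type u} [Group G] (P : Data G)

/-- The centralizer of `w` is not contained in the member of `w`. -/
def Out (w : G) : Prop := ∃ y, Commute y w ∧ y ∉ P.comp w

/-- The member of `w` contains an element of order greater than two of the centralizer of `w`. -/
def Big (w : G) : Prop := ∃ b, Commute b w ∧ b ∈ P.comp w ∧ b * b ≠ 1

theorem Big.conj {w : G} (h : P.Big w) (g : G) : P.Big (g * w * g⁻¹) := by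
  obtain ⟨b, hb, hbw, hb2⟩ := h
  refine ⟨g * b * g⁻¹, hb.map (MulAut.conj g).toMonoidHom, P.conj_mem hbw, fun e => hb2 ?_⟩
  rw [show g * b * g⁻¹ * (g * b * g⁻¹) = g * (b * b) * g⁻¹ by group] at e
  exact conj_eq_one_iff.1 e

variable [Finite G] {w : G} (hw : orderOf w = 2)
include hw

theorem sq_of_out {y : G} (hc : Commute y w) (hy : y ∉ P.comp w) : y * y = 1 := by
  have hw1 := Invol.ne_one hw
  have hy1 : y ≠ 1 := fun e => hy (e ▸ one_mem _)
  have h := (P.commute_orderOf hy1 hw1 hc (fun e => hy (e ▸ P.self_mem y))).2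
  rw [hw] at h
  exact Invol.inv_mul_self h.symm

theorem inverts {y b : G} (hc : Commute y w) (hy : y ∉ P.comp w) (hbc : Commute b w) (hb : b ∈ P.comp w) :
    y * b * y⁻¹ = b⁻¹ := by
  have hby : b * y ∉ P.comp w := fun h => hy (by
    have := mul_mem (inv_mem hb) h
    rwa [inv_mul_cancel_left] at this)
  have h := P.sq_of_out hw (hbc.mul_left hc) hby
  rw [show y⁻¹ = y from inv_eq_of_mul_eq_one_right (P.sq_of_out hw hc hy)]
  exact eq_inv_of_mul_eq_one_right (by simpa [mul_assoc] using h)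

theorem mul_self_eq_one_of_not_big (hB : ¬ P.Big w) {y : G} (hc : Commute y w) : y * y = 1 := by
  by_cases hy : y ∈ P.comp w
  · by_contra h
    exact hB ⟨y, hc, hy, h⟩
  · exact P.sq_of_out hw hc hy

theorem commute_inside (hO : P.Out w) {b c : G} (hbc : Commute b w) (hb : b ∈ P.comp w) (hcc : Commute c w)
    (hc : c ∈ P.comp w) : Commute b c := by
  obtain ⟨y, hy, hyA⟩ := hO
  have h1 := P.inverts hw hy hyA (hbc.mul_left hcc) (mul_mem hb hc)
  rw [show y * (b * c) * y⁻¹ = y * b * y⁻¹ * (y * c * y⁻¹) by group, P.inverts hw hy hyA hbc hb,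
    P.inverts hw hy hyA hcc hc] at h1
  show b * c = c * b
  have h2 := congrArg Inv.inv h1
  simpa using h2.symm

theorem mul_mem_of_big (hB : P.Big w) {y y' : G} (hc : Commute y w) (hy : y ∉ P.comp w) (hc' : Commute y' w)
    (hy' : y' ∉ P.comp w) : y * y' ∈ P.comp w := by
  obtain ⟨b, hbc, hb, hb2⟩ := hB
  by_contra h
  refine hb2 ?_
  have h1 := P.inverts hw (hc.mul_left hc') h hbc hb
  rw [show y * y' * b * (y * y')⁻¹ = y * (y' * b * y'⁻¹) * y⁻¹ by group, P.inverts hw hc' hy' hbc hb,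
    show y * b⁻¹ * y⁻¹ = (y * b * y⁻¹)⁻¹ by group, P.inverts hw hc hy hbc hb, inv_inv] at h1
  exact mul_eq_one_iff_eq_inv.2 h1

/-- With a second involution in the member, the transfer lemma gives a contradiction. -/
theorem eq_of_involution_mem [IsSimpleGroup G] (hna : ¬ IsMulCommutative G) (S : Sylow 2 G)
    (hS : ∀ s ∈ (S : Subgroup G), Commute s w) (hO : P.Out w) (hB : P.Big w) {e : G} (hec : Commute e w)
    (he : e ∈ P.comp w) (he2 : orderOf e = 2) : e = w := by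
  haveI : Fact (Nat.Prime 2) := ⟨Nat.prime_two⟩
  by_contra hew
  have hw1 := Invol.ne_one hw
  obtain ⟨y₀, hy₀c, hy₀⟩ := hO
  have hn₀ : y₀ ∈ normalizer (P.comp w : Set G) := P.commute_mem_normalizer hw1 hy₀c
  have hSA : ¬ (S : Subgroup G) ≤ P.comp w := fun hle => hy₀ (Local.SylowFix.mem_of_normalizes S hle
    ⟨1, by rw [pow_one]; exact Invol.orderOf_eq_two_of (fun e => hy₀ (e ▸ one_mem _)) (P.sq_of_out hw hy₀c hy₀)⟩ hn₀)
  obtain ⟨y, hyS, hy⟩ := SetLike.not_le_iff_exists.1 hSA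
  have hyc := hS y hyS
  have hy2 : orderOf y = 2 :=
    Invol.orderOf_eq_two_of (fun e => hy (e ▸ one_mem _)) (P.sq_of_out hw hyc hy)
  have hQ : ((S : Subgroup G) ⊓ P.comp w).relIndex (S : Subgroup G) = 2 := by
    rw [Subgroup.relIndex, index_eq_two_iff']
    refine ⟨⟨y, hyS⟩, fun b => ?_⟩
    simp only [mem_subgroupOf, Subgroup.mem_inf, Subgroup.coe_mul]
    by_cases hb : (b : G) ∈ P.comp w
    · exact Or.inr ⟨⟨b.2, hb⟩, fun h => hy ((mul_mem_cancel_right hb).1 h.2)⟩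
    · exact Or.inl ⟨⟨mul_mem hyS b.2, P.mul_mem_of_big hw hB hyc hy (hS b b.2) hb⟩, fun h => hb h.2⟩
  rcases Cfsg.Agent.S0111.result S _ inf_le_left hQ y hy2 hyS (fun h => hy h.2) with ⟨M, hMn, hM2, -⟩ | ⟨g, hg⟩
  · rcases hMn.eq_bot_or_eq_top with rfl | rfl
    · refine hna ⟨⟨fun a b => ?_⟩⟩
      rw [index_bot] at hM2
      haveI := isCyclic_of_prime_card (p := 2) hM2
      exact IsMulCommutative.is_comm.comm a b
    · simp at hM2
  obtain ⟨hgS, hgA⟩ := Subgroup.mem_inf.1 hg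
  have hec' : Commute (g * y * g⁻¹) w := hS _ hgS
  have hgy : orderOf (g * y * g⁻¹) = 2 := by rw [Invol.orderOf_conj_eq, hy2]
  have hcomp : P.comp (g * y * g⁻¹) = P.comp w := P.eq_of_mem hw1 (Invol.ne_one hgy) hgA
  obtain ⟨b, hbc, hb, hb2⟩ := hB
  have hO : P.Out w := ⟨y, hyc, hy⟩
  have hBy : P.Big y := by
    have h1 : P.Big (g * y * g⁻¹) := ⟨b, P.commute_inside hw hO hbc hb hec' hgA, hcomp ▸ hb, hb2⟩
    have := Data.Big.conj P h1 g⁻¹
    simpa [mul_assoc] using this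
  have he1 := Invol.ne_one he2
  have hwy : w ∉ P.comp y := fun h => hy (P.mem_comm (Invol.ne_one hy2) hw1 h)
  have hey : e ∉ P.comp y := fun h => by
    have := P.mem_comm (Invol.ne_one hy2) he1 h
    rw [P.eq_of_mem hw1 he1 he] at this
    exact hy this
  have hye : Commute e y := by
    have := P.inverts hw hyc hy hec he
    rw [Invol.inv_eq_self he2, mul_inv_eq_iff_eq_mul] at this
    exact this.symm
  have h1 := P.mul_mem_of_big hy2 hBy hyc.symm hwy hye hey
  have hwe : w * e ≠ 1 := fun h => hew (by rw [← Invol.inv_eq_self he2]; exact (eq_inv_of_mul_eq_one_left h).symm)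
  refine hy ?_
  rw [← P.comp_eq (Invol.ne_one hy2) hw1 hwe h1 (mul_mem (P.self_mem w) he)]
  exact P.self_mem y

/-- With no second involution, the Sylow 2-subgroups are dihedral. -/
theorem exists_dihedral [IsSimpleGroup G] (hna : ¬ IsMulCommutative G) (S : Sylow 2 G) (hwS : w ∈ (S : Subgroup G))
    (hS : ∀ s ∈ (S : Subgroup G), Commute s w) (hO : P.Out w) (hB : P.Big w) :
    ∃ n : ℕ, 2 ≤ n ∧ Nonempty ((S : Subgroup G) ≃* DihedralGroup n) := by
  haveI : Fact (Nat.Prime 2) := ⟨Nat.prime_two⟩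
  have hw1 := Invol.ne_one hw
  obtain ⟨y₀, hy₀c, hy₀⟩ := hO
  have hO : P.Out w := ⟨y₀, hy₀c, hy₀⟩
  have hSA : ¬ (S : Subgroup G) ≤ P.comp w := fun hle => hy₀ (Local.SylowFix.mem_of_normalizes S hle
    ⟨1, by rw [pow_one]; exact Invol.orderOf_eq_two_of (fun e => hy₀ (e ▸ one_mem _)) (P.sq_of_out hw hy₀c hy₀)⟩
    (P.commute_mem_normalizer hw1 hy₀c))
  obtain ⟨y, hyS, hy⟩ := SetLike.not_le_iff_exists.1 hSA
  obtain ⟨Q, hQ⟩ : ∃ Q, Q = (S : Subgroup G) ⊓ P.comp w := ⟨_, rfl⟩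
  have hmem : ∀ a, a ∈ Q → a ∈ (S : Subgroup G) ∧ a ∈ P.comp w := fun a ha => Subgroup.mem_inf.1 (hQ ▸ ha)
  letI : CommGroup ↥Q := { (inferInstance : Group ↥Q) with
    mul_comm := fun a b => Subtype.ext
      (P.commute_inside hw hO (hS _ (hmem a a.2).1) (hmem a a.2).2 (hS _ (hmem b b.2).1) (hmem b b.2).2).eq }
  haveI : IsCyclic ↥Q := Invol.AC.isCyclic_of_unique_invol
    (S.2.to_le (hQ ▸ inf_le_left)) fun a b ha hb => Subtype.ext (by
      rw [P.eq_of_involution_mem hw hna S hS hO hB (hS _ (hmem a a.2).1) (hmem a a.2).2 (by rw [orderOf_coe, ha]),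
        P.eq_of_involution_mem hw hna S hS hO hB (hS _ (hmem b b.2).1) (hmem b b.2).2 (by rw [orderOf_coe, hb])])
  obtain ⟨r, hr⟩ := IsCyclic.exists_generator (α := ↥Q)
  obtain ⟨hrS, hrA⟩ := Subgroup.mem_inf.1 (hQ ▸ r.2 : (r : G) ∈ (S : Subgroup G) ⊓ P.comp w)
  have hQr : Q = zpowers (r : G) := le_antisymm (fun q hq => by
    obtain ⟨k, hk⟩ := mem_zpowers_iff.1 (hr ⟨q, hq⟩)
    exact ⟨k, by simpa using congrArg Subtype.val hk⟩) (zpowers_le.2 r.2)
  have hm : y ∉ zpowers (r : G) := fun h => hy (zpowers_le.2 hrA h)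
  obtain ⟨e⟩ := TwoGroup.equiv_dihedral (P.sq_of_out hw (hS y hyS) hy)
    (P.inverts hw (hS y hyS) hy (hS _ hrS) hrA) hm
  refine ⟨orderOf (r : G), ?_, ⟨(MulEquiv.subgroupCongr ?_).trans e⟩⟩
  · rw [← hw]
    exact Nat.le_of_dvd (orderOf_pos _) (orderOf_dvd_of_mem_zpowers (hQr ▸ hQ ▸ ⟨hwS, P.self_mem w⟩))
  refine le_antisymm (fun s hs => ?_) ((closure_le _).2 (by rintro x (rfl | rfl) <;> assumption))
  by_cases hsA : s ∈ P.comp w
  · exact zpowers_le.2 (subset_closure (Set.mem_insert _ _)) (hQr ▸ hQ ▸ ⟨hs, hsA⟩)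
  · have h1 : s * y ∈ zpowers (r : G) :=
      hQr ▸ hQ ▸ ⟨mul_mem hs hyS, P.mul_mem_of_big hw hB (hS s hs) hsA (hS y hyS) hy⟩
    have := mul_mem (zpowers_le.2 (subset_closure (Set.mem_insert (r : G) {y})) h1)
      (inv_mem (subset_closure (Set.mem_insert_of_mem _ (Set.mem_singleton y)) : y ∈ closure {(r : G), y}))
    rwa [mul_inv_cancel_right] at this

end Cfsg.Lib.Partition.Data
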