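import Cfsg.Agent.Lib.Partition.Reduce
import Cfsg.Agent.Lib.Partition.Invol
import Cfsg.Agent.Lib.IIGroups.Field

/-!
# Automorphism groups of `PSL₂(q)` with a partition

A group of automorphisms of `PSL₂(q)`, `q ≥ 5`, which contains the inner ones and has a partition with
nilpotent members has only inner-diagonal elements.
-/

set_option autoImplicit false
set_option linter.style.haveILetI false

namespace Cfsg.Lib.Partition.Field

open Subgroup Matrix Cfsg.Lib Cfsg.Lib.IIGroups Cfsg.Lib.Linear.AutPSL Cfsg.Lib.Linear.Descent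
open Cfsg.Lib.Linear.AutPSL.GForms (isSquare_of_two isSquare_mul_of_not)

set_option linter.unusedSectionVars false

variable {F : Type} [Field F] [Fintype F]

local notation "SL2" => Matrix.SpecialLinearGroup (Fin 2) F
local notation "PSL2" => Matrix.ProjectiveSpecialLinearGroup (Fin 2) F

/-- `[1, b; 0, 1]` -/
def uB (b : F) : SL2 := ⟨!![1, b; 0, 1], by simp [Matrix.det_fin_two]⟩

@[simp] theorem uB_val (b : F) : (uB b).1 = !![1, b; 0, 1] := rfl

theorem uB_mul (a b : F) : uB a * uB b = uB (a + b) := Subtype.ext (by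
  rw [Matrix.SpecialLinearGroup.coe_mul]
  ext i j; fin_cases i <;> fin_cases j <;> simp [Matrix.mul_apply, Fin.sum_univ_two, add_comm])

theorem uB_zero : uB (0 : F) = 1 := Subtype.ext (by ext i j; fin_cases i <;> fin_cases j <;> simp)

theorem uB_one : uB (1 : F) = xS := rfl

theorem uB_ne_one {b : F} (hb : b ≠ 0) : (inn (uB b) : MulAut PSL2) ≠ 1 :=
  inn_ne_one (Or.inl (by simpa using hb))

/-- `diag (b, b⁻¹)` -/
def tS (b : Fˣ) : SL2 := ⟨!![(b : F), 0; 0, ((b⁻¹ : Fˣ) : F)], by simp [Matrix.det_fin_two]⟩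

@[simp] theorem tS_val (b : Fˣ) : (tS b).1 = !![(b : F), 0; 0, ((b⁻¹ : Fˣ) : F)] := rfl

theorem inn_tS (b : Fˣ) : (inn (tS b) : MulAut PSL2) = innd (dg b b⁻¹) := by
  rw [inn_def]; exact congrArg (fun A : GL (Fin 2) F => (innd A : MulAut PSL2)) (Units.ext rfl)

/-- A trace which is not zero. -/
theorem exists_trace {σ : F ≃+* F} {r : ℕ} (hr : 0 < r) (hσ : orderOf σ = r) :
    ∃ b : F, ∑ i ∈ Finset.range r, (σ ^ i) b ≠ 0 := by
  by_contra hall
  push Not at hall
  let f : Fin r → (F →* F) := fun i => ((σ ^ (i : ℕ)) : F ≃+* F).toRingHom.toMonoidHom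
  have hf : Function.Injective f := fun i j h => Fin.ext (pow_injOn_Iio_orderOf
    (Set.mem_Iio.2 (by rw [hσ]; exact i.2)) (Set.mem_Iio.2 (by rw [hσ]; exact j.2))
    (RingEquiv.ext fun x => DFunLike.congr_fun h x))
  have hli := (linearIndependent_monoidHom F F).comp f hf
  rw [Fintype.linearIndependent_iff] at hli
  have h1 := hli (fun _ => 1) (funext fun x => ?_) ⟨0, hr⟩
  · exact one_ne_zero h1
  · simp only [Finset.sum_apply, Function.comp_apply, one_smul, Pi.zero_apply]
    rw [← hall x, Finset.sum_range]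
    rfl

variable {H : Subgroup (MulAut (Matrix.ProjectiveSpecialLinearGroup (Fin 2) F))}

/-- The inner automorphisms as elements of `H`. -/
noncomputable def iH (hH : ∀ s : SL2, inn s ∈ H) : SL2 →* ↥H := (inn : SL2 →* MulAut PSL2).codRestrict H hH

@[simp] theorem iH_coe (hH : ∀ s : SL2, inn s ∈ H) (s : SL2) : ((iH hH s : ↥H) : MulAut PSL2) = inn s := rfl

theorem iH_ne_one (hH : ∀ s : SL2, inn s ∈ H) {s : SL2} (h : (inn s : MulAut PSL2) ≠ 1) : iH hH s ≠ 1 :=
  fun e => h (congrArg Subtype.val e)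

theorem isPel_mul {K : Type*} [Group K] [Finite K] {B : Subgroup K} (hB : Group.IsNilpotent ↥B) {p : ℕ}
    [Fact p.Prime] {x y : K} (hx : x ∈ B) (hy : y ∈ B) (hxp : ∃ k, orderOf x = p ^ k)
    (hyp : ∃ k, orderOf y = p ^ k) : ∃ k, orderOf (x * y) = p ^ k := by
  obtain ⟨S⟩ : Nonempty (Sylow p ↥B) := inferInstance
  haveI : (S : Subgroup ↥B).Normal :=
    ((Group.isNilpotent_of_finite_tfae (G := ↥B)).out 0 3 rfl rfl).mp hB p inferInstance S
  haveI := Sylow.unique_of_normal S inferInstance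
  have hmem : ∀ z (hz : z ∈ B), (∃ k, orderOf z = p ^ k) → (⟨z, hz⟩ : ↥B) ∈ (S : Subgroup ↥B) := by
    rintro z hz ⟨k, hk⟩
    obtain ⟨S', hS'⟩ := (IsPGroup.of_card (n := k) (by rw [Nat.card_zpowers, orderOf_mk, hk]) :
      IsPGroup p (zpowers (⟨z, hz⟩ : ↥B))).exists_le_sylow
    have h := hS' (mem_zpowers _)
    rwa [Subsingleton.elim S' S] at h
  obtain ⟨k, hk⟩ := IsPGroup.iff_orderOf.1 S.2 ⟨_, mul_mem (hmem x hx hxp) (hmem y hy hyp)⟩
  exact ⟨k, by simpa [← orderOf_coe] using hk⟩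

variable [Finite ↥H] (P : Data ↥H) (hnil : ∀ a : ↥H, a ≠ 1 → Group.IsNilpotent ↥(P.comp a))
include hnil

/-- No field automorphism. -/
theorem false_of_fld (hH : ∀ s : SL2, inn s ∈ H) (h5 : 5 ≤ Fintype.card F) {σ : F ≃+* F} {r : ℕ}
    (hr : r.Prime) (hσ : orderOf σ = r) (hm : (fld σ : MulAut PSL2) ∈ H) : False := by
  haveI := Fact.mk hr
  obtain ⟨p, hp⟩ := CharP.exists F
  haveI : Fact p.Prime := ⟨CharP.char_is_prime F p⟩
  obtain ⟨φ, hφd⟩ : ∃ φ : ↥H, φ = ⟨fld σ, hm⟩ := ⟨_, rfl⟩
  have hφv : (φ : MulAut PSL2) = fld σ := by rw [hφd]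
  have hφ : orderOf φ = r := by
    rw [← orderOf_coe, hφv]; exact (orderOf_injective _ (fld_injective le_rfl) σ).trans hσ
  have hφ1 : φ ≠ 1 := fun e => hr.ne_one (by rw [← hφ, e, orderOf_one])
  have hcomm : ∀ s : SL2, (∀ i j, σ (s.1 i j) = s.1 i j) → Commute φ (iH hH s) := fun s hs =>
    Subtype.ext (by simpa [hφv] using (fld_inn_comm hs).eq)
  have hpel : ∀ b : F, iH hH (uB b) ^ p = 1 := fun b => by
    have : ∀ k : ℕ, (uB b) ^ k = uB ((k : F) * b) := by
      intro k
      induction k with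
      | zero => rw [pow_zero, Nat.cast_zero, zero_mul, uB_zero]
      | succ k ih => rw [pow_succ, ih, uB_mul, Nat.cast_succ, add_mul, one_mul]
    rw [← map_pow, this, CharP.cast_eq_zero, zero_mul, uB_zero, map_one]
  have hord : ∀ b : F, b ≠ 0 → orderOf (iH hH (uB b)) = p := fun b hb =>
    orderOf_eq_prime (hpel b) (iH_ne_one hH (uB_ne_one hb))
  have hcx : Commute φ (iH hH xS) := hcomm xS fun i j => by fin_cases i <;> fin_cases j <;> simp
  -- `x` lies in the member of `φ`
  have hx : iH hH xS ∈ P.comp φ := by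
    have hx1 : iH hH xS ≠ 1 := uB_one (F := F) ▸ iH_ne_one hH (uB_ne_one one_ne_zero)
    have hxo : orderOf (iH hH xS) = p := uB_one (F := F) ▸ hord 1 one_ne_zero
    by_cases hrp : r = p
    swap
    · rw [P.comp_eq_of_commute hφ1 hx1 hcx (by rw [hφ, hxo]; exact hrp)]
      exact P.self_mem _
    subst hrp
    obtain ⟨b, hb⟩ := exists_trace hr.pos hσ
    -- a fixed element other than `0`, `1`
    obtain ⟨c, hcσ, hc0, hc1⟩ : ∃ c : F, σ c = c ∧ c ≠ 0 ∧ c ≠ 1 := by
      by_contra hall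
      push Not at hall
      classical
      have h2 : Nat.card (fixedF σ) ≤ 2 := by
        rw [Nat.card_eq_fintype_card, ← Finset.card_univ, ← Finset.card_map (Function.Embedding.subtype _)]
        refine (Finset.card_le_card (t := ({0, 1} : Finset F)) fun x hx => ?_).trans Finset.card_le_two
        obtain ⟨y, -, rfl⟩ := Finset.mem_map.1 hx
        by_cases h0 : (y : F) = 0
        · simp [h0]
        · simp [hall y (mem_fixedF.1 y.2) h0]
      have hq := card_fixedF_pow σ
      rw [hσ] at hq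
      obtain ⟨n, -, hn⟩ := FiniteField.card F r
      have h0 : Nat.card (fixedF σ) ≠ 0 := Nat.card_pos.ne'
      interval_cases hk : Nat.card (fixedF σ)
      · exact absurd rfl h0
      · rw [one_pow] at hq
        omega
      · rw [← hq] at hn
        have hr2 : r = 2 := by
          have : r ∣ 2 ^ r := hn ▸ dvd_pow_self r n.ne_zero
          exact (Nat.prime_dvd_prime_iff_eq hr Nat.prime_two).1 (hr.dvd_of_dvd_pow this)
        rw [hr2] at hq
        omega
    have hcpow : ∀ i : ℕ, (σ ^ i) c = c := fun i => by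
      induction i with
      | zero => rfl
      | succ i ih => rw [pow_succ', RingAut.mul_apply, ih, hcσ]
    obtain ⟨T, hT⟩ : ∃ T : F → F, ∀ d, T d = ∑ i ∈ Finset.range r, (σ ^ i) d := ⟨_, fun _ => rfl⟩
    have hTσ : ∀ d, σ (T d) = T d := fun d => by
      have e : σ (T d) + (σ ^ 0) d = T d + (σ ^ r) d := by
        rw [hT, map_sum, ← Finset.sum_range_succ (fun i => (σ ^ i) d), Finset.sum_range_succ']
        exact congrArg (· + _) (Finset.sum_congr rfl fun i _ => by rw [pow_succ', RingAut.mul_apply])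
      rw [show σ ^ r = 1 by rw [← hσ, pow_orderOf_eq_one], pow_zero] at e
      exact add_right_cancel e
    have hpow : ∀ d : F, (iH hH (uB d) * φ) ^ r = iH hH (uB (T d)) := by
      intro d
      have htw : ∀ k : ℕ, tw σ (SpecialLinearGroup.toGL (uB d)) k =
          SpecialLinearGroup.toGL (uB (∑ i ∈ Finset.range k, (σ ^ i) d)) := by
        intro k
        induction k with
        | zero => rw [Finset.range_zero, Finset.sum_empty, uB_zero, map_one]; rfl
        | succ k ih =>
          have e : sm σ (SpecialLinearGroup.toGL (uB (∑ i ∈ Finset.range k, (σ ^ i) d))) =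
              SpecialLinearGroup.toGL (uB (σ (∑ i ∈ Finset.range k, (σ ^ i) d))) := Units.ext (by
            ext i j
            fin_cases i <;> fin_cases j <;> simp)
          rw [tw, ih, e, ← map_mul, uB_mul, Finset.sum_range_succ', map_sum, add_comm]
          simp [pow_succ', RingAut.mul_apply]
      refine Subtype.ext ?_
      rw [SubmonoidClass.coe_pow, Subgroup.coe_mul, iH_coe, iH_coe, hφv, inn_def, innd_fld_pow, htw, ← hT,
        show σ ^ r = 1 by rw [← hσ, pow_orderOf_eq_one], map_one, mul_one, inn_def]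
    have hmem : ∀ d : F, T d ≠ 0 → iH hH (uB d) * φ ∈ P.comp (iH hH xS) := by
      intro d hd
      have h1 : (iH hH (uB d) * φ) ^ r ≠ 1 := by rw [hpow]; exact iH_ne_one hH (uB_ne_one hd)
      have hz1 : iH hH (uB d) * φ ≠ 1 := fun e => h1 (by rw [e, one_pow])
      have hfix : Commute (iH hH xS) (iH hH (uB d) * φ) := by
        refine Commute.mul_right ?_ hcx.symm
        rw [← uB_one, commute_iff_eq, ← map_mul, ← map_mul, uB_mul, uB_mul, add_comm]
      rw [P.comp_eq_of_commute hx1 hz1 hfix fun e => h1 (by rw [← hxo, e]; exact pow_orderOf_eq_one _)]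
      exact P.self_mem _
    obtain ⟨e, he⟩ : ∃ e, e = b / (c - 1) := ⟨_, rfl⟩
    have hc1' : c - 1 ≠ 0 := sub_ne_zero.2 hc1
    have hTm : ∀ (t d : F), σ t = t → T (t * d) = t * T d := fun t d ht => by
      have hti : ∀ i : ℕ, (σ ^ i) t = t := fun i => by
        induction i with
        | zero => rfl
        | succ i ih => rw [pow_succ', RingAut.mul_apply, ih, ht]
      rw [hT, hT, Finset.mul_sum]
      exact Finset.sum_congr rfl fun i _ => by rw [map_mul, hti]
    have hTe : T e ≠ 0 := fun h0 => hb (by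
      rw [← hT, show b = (c - 1) * e by rw [he, mul_div_cancel₀ _ hc1'], hTm _ _ (by rw [map_sub, hcσ, map_one]),
        h0, mul_zero])
    have hTce : T (c * e) ≠ 0 := by rw [hTm _ _ hcσ]; exact mul_ne_zero hc0 hTe
    have hub : iH hH (uB b) ∈ P.comp (iH hH xS) := by
      have := mul_mem (hmem _ hTce) (inv_mem (hmem _ hTe))
      rwa [_root_.mul_inv_rev, mul_assoc, mul_inv_cancel_left, ← map_inv, ← map_mul,
        show (uB e)⁻¹ = uB (-e) from inv_eq_of_mul_eq_one_right (by rw [uB_mul, add_neg_cancel, uB_zero]),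
        uB_mul, show c * e + -e = b by rw [he]; field_simp; ring] at this
    have hφx : φ ∈ P.comp (iH hH xS) := by
      have := mul_mem (inv_mem hub) (hmem b (by rw [hT]; exact hb))
      rwa [inv_mul_cancel_left] at this
    exact P.mem_comm hx1 hφ1 hφx
  have hy : iH hH yS ∈ P.comp φ := by
    have hcw : Commute φ (iH hH wS) := hcomm wS fun i j => by fin_cases i <;> fin_cases j <;> simp
    have h := P.conj_mem (g := iH hH wS) hx
    rw [← hcw.eq, mul_inv_cancel_right] at h
    rw [← map_inv, ← map_mul, ← map_mul,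
      show wS * xS * wS⁻¹ = (yS : SL2)⁻¹ from Subtype.ext (by
        ext i j
        fin_cases i <;> fin_cases j <;>
          simp [Matrix.SpecialLinearGroup.coe_mul, Matrix.adjugate_fin_two,
            Matrix.mul_apply, Fin.sum_univ_two]), map_inv, inv_mem_iff] at h
    exact h
  have hyp : iH hH yS ^ p = 1 := by
    have h := hpel (-1)
    have e : (yS : SL2) = wS * uB (-1) * wS⁻¹ := Subtype.ext (by
      ext i j
      fin_cases i <;> fin_cases j <;>
        simp [Matrix.SpecialLinearGroup.coe_mul, Matrix.adjugate_fin_two,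
          Matrix.mul_apply, Fin.sum_univ_two])
    rw [e, map_mul, map_mul, map_inv, conj_pow, h, mul_one, mul_inv_cancel]
  have hyo : orderOf (iH hH yS) = p := orderOf_eq_prime hyp (iH_ne_one hH (inn_ne_one (Or.inr (Or.inl (by simp)))))
  have hxp : ∃ k, orderOf (iH hH xS) = p ^ k := ⟨1, by rw [pow_one, ← uB_one]; exact hord 1 one_ne_zero⟩
  have hnB := hnil φ hφ1
  rcases (Fact.out : p.Prime).eq_two_or_odd' with rfl | hpodd
  · obtain ⟨k, hk⟩ := isPel_mul hnB hx hy hxp ⟨1, by rw [pow_one, hyo]⟩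
    haveI : Fact (Nat.Prime 3) := ⟨Nat.prime_three⟩
    have h3 : orderOf (iH hH xS * iH hH yS) = 3 := by
      refine orderOf_eq_prime ?_ ?_
      · rw [← map_mul, ← map_pow, ← map_one (iH hH)]
        refine Subtype.ext ?_
        rw [iH_coe, iH_coe, inn_eq_iff]
        refine ⟨1, ?_⟩
        ext i j
        fin_cases i <;> fin_cases j <;>
          simp [pow_succ, Matrix.SpecialLinearGroup.coe_mul, Matrix.mul_apply, Fin.sum_univ_two, one_add_one_eq_two,
            CharTwo.two_eq_zero]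
      · rw [← map_mul]
        exact iH_ne_one hH (inn_ne_one (Or.inl (by simp [Matrix.SpecialLinearGroup.coe_mul])))
    rw [h3] at hk
    exact absurd (Nat.prime_three.dvd_of_dvd_pow (dvd_of_eq hk)) (by norm_num)
  · obtain ⟨k, hk⟩ := isPel_mul hnB hx (inv_mem hy) hxp ⟨1, by rw [pow_one, orderOf_inv, hyo]⟩
    obtain ⟨j, hj⟩ := isPel_mul hnB (mul_mem hx (inv_mem hy)) hx ⟨k, hk⟩ hxp
    have hw : iH hH xS * (iH hH yS)⁻¹ * iH hH xS = iH hH wS := by
      rw [← map_inv, ← map_mul, ← map_mul]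
      refine congrArg _ (Subtype.ext ?_)
      ext i l
      fin_cases i <;> fin_cases l <;>
        simp [Matrix.SpecialLinearGroup.coe_mul, Matrix.adjugate_fin_two,
          Matrix.mul_apply, Fin.sum_univ_two]
    rw [hw, ← orderOf_coe, iH_coe, orderOf_inn_wS] at hj
    exact Nat.not_even_iff_odd.2 (hpodd.pow (n := j)) (hj ▸ even_two)

/-- With a field automorphism of prime order nothing is left. -/
theorem false_of_innd_fld (hH : ∀ s : SL2, inn s ∈ H) (h5 : 5 ≤ Fintype.card F) {σ : F ≃+* F}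
    {r : ℕ} (hr : r.Prime) (hσ : orderOf σ = r) {A : GL (Fin 2) F} (hm : (innd A * fld σ : MulAut PSL2) ∈ H) :
    False := by
  haveI := Fact.mk hr
  by_cases hsq : IsSquare (GeneralLinearGroup.det A)
  · obtain ⟨s, hs⟩ := exists_inn hsq
    rw [hs] at hm
    exact false_of_fld P hnil hH h5 hr hσ (by simpa using mul_mem (inv_mem (hH s)) hm)
  have hAns : ¬ IsSquare ((GeneralLinearGroup.det A : Fˣ) : F) := fun e => hsq (units_isSquare e)
  have hodd : Odd (Fintype.card F) := by
    rw [Nat.odd_iff]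
    by_contra hev
    exact hAns (FiniteField.isSquare_of_char_two
      (FiniteField.even_card_iff_char_two.2 (by omega)) _)
  rcases hr.eq_two_or_odd' with rfl | hrodd
  swap
  · have hB : (innd (tw σ A r) : MulAut PSL2) ∈ H := by
      have := pow_mem hm r
      rwa [innd_fld_pow, show σ ^ r = 1 by rw [← hσ, pow_orderOf_eq_one], map_one, mul_one] at this
    have hBns : ¬ IsSquare ((GeneralLinearGroup.det (tw σ A r) : Fˣ) : F) := fun e =>
      Nat.not_even_iff_odd.2 hrodd ((isSquare_det_tw hodd σ hAns r).1 e)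
    obtain ⟨s, hs⟩ := exists_inn (A := (tw σ A r)⁻¹ * A) (units_isSquare (by
      rw [map_mul, map_inv, Units.val_mul, Units.val_inv_eq_inv_val]
      exact isSquare_mul_of_not hodd (fun e => hBns (by simpa using e.inv)) hAns))
    refine false_of_fld P hnil hH h5 hr hσ ?_
    have hA : (innd A : MulAut PSL2) = innd (tw σ A r) * inn s := by rw [← hs, ← map_mul, mul_inv_cancel_left]
    rw [hA] at hm
    have := mul_mem (inv_mem (mul_mem hB (hH s))) hm
    rwa [inv_mul_cancel_left] at this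
  have h2 : (2 : F) ≠ 0 := Cfsg.Lib.Linear.AutPSL.GForms.two_ne_zero' hodd
  obtain ⟨ν, hν⟩ := IsCyclic.exists_generator (α := Fˣ)
  have hνns : ¬ IsSquare (ν : F) := by
    intro hs
    obtain ⟨k, hk⟩ := mem_zpowers_iff.1 (hν (GeneralLinearGroup.det A))
    obtain ⟨d, hd⟩ := units_isSquare hs
    exact hsq ⟨d ^ k, by rw [← hk, hd, mul_zpow]⟩
  obtain ⟨s, hs⟩ := exists_inn (A := A * (dg ν 1)⁻¹) (units_isSquare (by
    rw [map_mul, map_inv, det_dg, mul_one, Units.val_mul, Units.val_inv_eq_inv_val]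
    exact isSquare_mul_of_not hodd hAns (fun e => hνns (by simpa using e.inv))))
  have hg : (innd (dg ν 1) * fld σ : MulAut PSL2) ∈ H := by
    have hA : (innd A : MulAut PSL2) = inn s * innd (dg ν 1) := by rw [← hs, ← map_mul, inv_mul_cancel_right]
    rw [hA, mul_assoc] at hm
    have := mul_mem (inv_mem (hH s)) hm
    rwa [inv_mul_cancel_left] at this
  have hσ2 : σ * σ = 1 := by rw [← pow_two, ← hσ, pow_orderOf_eq_one]
  have hσσ : ∀ x, σ (σ x) = x := fun x => (RingEquiv.congr_fun hσ2 x : (σ * σ) x = x)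
  obtain ⟨g, hgdef⟩ : ∃ g : ↥H, g = ⟨innd (dg ν 1) * fld σ, hg⟩ := ⟨_, rfl⟩
  obtain ⟨N, hN⟩ : ∃ N, N = ν * Units.map σ.toRingHom.toMonoidHom ν := ⟨_, rfl⟩
  have hgg : ((g * g : ↥H) : MulAut PSL2) = innd (dg N 1) := by
    rw [hgdef, Subgroup.coe_mul, show innd (dg ν 1) * fld σ * (innd (dg ν 1) * fld σ) =
      innd (dg ν 1) * (fld σ * innd (dg ν 1)) * fld σ by simp only [mul_assoc], fld_mul_innd', sm_dg, map_one,
      ← mul_assoc, ← map_mul, dg_mul, one_mul, mul_assoc, ← map_mul fld, hσ2, map_one, mul_one, hN]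
  have hNeven : Even (orderOf N) := by
    by_contra hNo
    rw [Nat.not_even_iff_odd] at hNo
    obtain ⟨c, hc⟩ : ∃ c : F, c = (ν : F) ^ orderOf N := ⟨_, rfl⟩
    have hcns : ¬ IsSquare c := by
      obtain ⟨i, hi⟩ := hNo
      intro hcs
      refine hνns (isSquare_of_two (b := (ν : F) ^ i) (pow_ne_zero _ ν.ne_zero) ?_)
      rwa [← pow_mul, ← pow_succ', show i * 2 + 1 = orderOf N by omega, ← hc]
    have hcc : c * σ c = 1 := by
      have := congrArg Units.val (pow_orderOf_eq_one N)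
      rw [Units.val_pow_eq_pow_val, Units.val_one, congrArg Units.val hN, Units.val_mul, mul_pow] at this
      rw [hc, map_pow]
      exact this
    obtain ⟨w, hw⟩ : ∃ w : F, w + c * σ w ≠ 0 := by
      by_contra hall
      push Not at hall
      have h1 : c = -1 := by
        have := hall 1
        rw [map_one, mul_one] at this
        linear_combination this
      refine hr.ne_one (hσ ▸ orderOf_eq_one_iff.2 (RingEquiv.ext fun x => ?_))
      have := hall x
      rw [h1] at this
      show σ x = x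
      linear_combination -this
    refine hcns ?_
    have hσb : σ (w + c * σ w) ≠ 0 := fun e => hw ((map_eq_zero σ).1 e)
    have hkey : c * σ (w + c * σ w) = w + c * σ w := by
      rw [map_add, map_mul, hσσ]
      linear_combination w * hcc
    have hceq : c = (w + c * σ w) * (σ (w + c * σ w))⁻¹ := by
      rw [eq_mul_inv_iff_mul_eq₀ hσb, hkey]
    rw [hceq]
    by_cases hbs : IsSquare (w + c * σ w)
    · exact hbs.mul (hbs.map σ).inv
    · refine isSquare_mul_of_not hodd hbs fun e => hbs ?_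
      have := (show IsSquare (σ (w + c * σ w)) by simpa using e.inv).map σ.symm
      rwa [RingEquiv.symm_apply_apply] at this
  obtain ⟨j, hj⟩ := hNeven
  have hj0 : 0 < orderOf N := orderOf_pos N
  have hNj : N ^ j = -1 := by
    have h1 : ((N ^ j : Fˣ) : F) * (N ^ j : Fˣ) = 1 := by
      rw [← Units.val_mul, ← pow_add, ← hj, pow_orderOf_eq_one, Units.val_one]
    rcases mul_self_eq_one_iff.1 h1 with h' | h'
    · exfalso
      have := orderOf_le_of_pow_eq_one (by omega) (Units.ext h' : N ^ j = 1)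
      omega
    · exact Units.ext h'
  -- the involution in `zpowers g`
  obtain ⟨u, hu⟩ : ∃ u : ↥H, u = g ^ (2 * j) := ⟨_, rfl⟩
  have huv : (u : MulAut PSL2) = innd (dg (-1 : Fˣ) 1) := by
    rw [hu, SubmonoidClass.coe_pow, pow_mul, pow_two, ← Subgroup.coe_mul, hgg, ← map_pow, dg_pow, one_pow, hNj]
  have hu1 : u ≠ 1 := fun e => by
    have e' := congrArg Subtype.val e
    rw [huv, OneMemClass.coe_one, innd_eq_one_iff le_rfl] at e'
    obtain ⟨c, hc⟩ := e'
    have e0 := congrArg (fun M : GL (Fin 2) F => M.val 0 0) hc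
    have e1 := congrArg (fun M : GL (Fin 2) F => M.val 1 1) hc
    simp [dg_val] at e0 e1
    exact h2 (by linear_combination e1 - e0)
  have hu2 : orderOf u = 2 := by
    refine orderOf_eq_prime (Subtype.ext ?_) hu1
    rw [SubmonoidClass.coe_pow, huv, ← map_pow, dg_pow, one_pow, neg_one_sq, dg_one, map_one]
    rfl
  have hgB : g ∈ P.comp u := P.mem_comm (fun e => hu1 (by rw [hu, e, one_pow])) hu1 (hu ▸ pow_mem (P.self_mem g) _)
  have hgu : Commute g u := hu ▸ Commute.self_pow g (2 * j)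
  have hg2 : g * g ≠ 1 := fun e => by
    refine hu1 ?_
    rw [hu, pow_mul, pow_two, e, one_pow]
  have hBig : P.Big u := ⟨g, hgu, hgB, hg2⟩
  -- torus elements
  have htu : ∀ b : Fˣ, Commute (iH hH (tS b)) u := fun b => Subtype.ext (by
    rw [Subgroup.coe_mul, Subgroup.coe_mul, iH_coe, inn_tS, huv, ← map_mul, ← map_mul, dg_mul, dg_mul, mul_comm b,
      mul_comm b⁻¹])
  have htB : ∀ b : Fˣ, b ^ 4 ≠ 1 → iH hH (tS b) ∈ P.comp u := fun b hb => by
    by_contra h
    have h2' := P.sq_of_out hu2 (htu b) h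
    have e := congrArg Subtype.val h2'
    rw [Subgroup.coe_mul, iH_coe, inn_tS, ← map_mul, dg_mul, OneMemClass.coe_one, innd_eq_one_iff le_rfl] at e
    obtain ⟨c, hc⟩ := e
    have e0 := congrArg (fun M : GL (Fin 2) F => M.val 0 0) hc
    have e1 := congrArg (fun M : GL (Fin 2) F => M.val 1 1) hc
    simp [dg_val] at e0 e1
    refine hb (Units.ext ?_)
    rw [Units.val_pow_eq_pow_val, Units.val_one, show (b : F) ^ 4 = (b : F) * b * ((b : F) * b) by ring]
    nth_rw 2 [e0]
    rw [← e1]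
    field_simp
  have hwu : Commute (iH hH wS) u := Subtype.ext (by
    rw [Subgroup.coe_mul, Subgroup.coe_mul, iH_coe, huv, inn_def, ← map_mul, ← map_mul, innd_eq_innd le_rfl]
    refine ⟨-1, Units.ext ?_⟩
    rw [Units.val_mul, Units.val_mul, Units.val_mul, sc_val, dg_val]
    ext i k
    fin_cases i <;> fin_cases k <;> simp [Matrix.mul_apply, Fin.sum_univ_two])
  obtain ⟨q₀, hq₀⟩ : ∃ q₀, q₀ = Nat.card (fixedF σ) := ⟨_, rfl⟩
  have hq : Fintype.card F = q₀ ^ 2 := by rw [← card_fixedF_pow σ, hσ, hq₀]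
  have hνo : orderOf ν = Fintype.card F - 1 := by
    rw [orderOf_eq_card_of_forall_mem_zpowers hν, Nat.card_units, Nat.card_eq_fintype_card]
  have hq9 : 9 ≤ Fintype.card F := by
    rw [hq]
    rw [hq] at h5 hodd
    have h3 : 3 ≤ q₀ := by
      rcases Nat.lt_or_ge q₀ 3 with h | h
      · interval_cases q₀
        · omega
        · omega
        · exact absurd hodd (by decide)
      · exact h
    nlinarith
  have hν4 : ν ^ 4 ≠ 1 := fun e => by
    have := orderOf_le_of_pow_eq_one (by norm_num) e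
    omega
  by_cases hwB : iH hH wS ∈ P.comp u
  swap
  · -- the torus would centralize `g`
    have hO : P.Out u := ⟨_, hwu, hwB⟩
    have hc := congrArg Subtype.val (P.commute_inside hu2 hO hgu hgB (htu ν) (htB ν hν4)).eq
    rw [Subgroup.coe_mul, Subgroup.coe_mul, iH_coe, inn_tS, hgdef, mul_assoc, fld_mul_innd', sm_dg, ← mul_assoc,
      ← map_mul, ← mul_assoc, ← map_mul, mul_left_inj, innd_eq_innd le_rfl] at hc
    obtain ⟨c, hc⟩ := hc
    have e0 := congrArg (fun M : GL (Fin 2) F => M.val 0 0) hc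
    have e1 := congrArg (fun M : GL (Fin 2) F => M.val 1 1) hc
    simp [dg_val] at e0 e1
    have hν0 := ν.ne_zero
    have hνν : σ (ν : F) * σ ν = ν * ν := by
      have hc' : σ (ν : F) = (c : F) * ν := by
        apply mul_left_cancel₀ hν0
        linear_combination e0
      rw [hc'] at e1
      have hc2 : (c : F) * c = 1 := by
        field_simp at e1
        linear_combination -e1
      rw [hc']
      linear_combination (ν : F) * ν * hc2
    have hall : ∀ x : F, x ≠ 0 → σ x = x ∨ σ x = -x := by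
      intro x hx
      obtain ⟨m, hm⟩ := (mem_powers_iff_mem_zpowers (G := Fˣ)).2 (hν (Units.mk0 x hx))
      have hm' : (ν : F) ^ m = x := by rw [← Units.val_pow_eq_pow_val]; exact congrArg Units.val hm
      rw [← hm', map_pow]
      rcases mul_self_eq_mul_self_iff.1 hνν with e | e
      · exact Or.inl (by rw [e])
      · rcases Nat.even_or_odd m with hm2 | hm2
        · exact Or.inl (by rw [e, hm2.neg_pow])
        · exact Or.inr (by rw [e, hm2.neg_pow])
    have hνneg : σ (ν : F) = -(ν : F) := by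
      rcases mul_self_eq_mul_self_iff.1 hνν with e | e
      · exfalso
        refine hr.ne_one (hσ ▸ orderOf_eq_one_iff.2 (RingEquiv.ext fun x => ?_))
        show σ x = x
        rcases eq_or_ne x 0 with rfl | hx
        · exact map_zero σ
        obtain ⟨m, hm⟩ := (mem_powers_iff_mem_zpowers (G := Fˣ)).2 (hν (Units.mk0 x hx))
        have hm' : (ν : F) ^ m = x := by rw [← Units.val_pow_eq_pow_val]; exact congrArg Units.val hm
        rw [← hm', map_pow, e]
      · exact e
    have hν1 : (1 : F) + ν ≠ 0 := fun e => by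
      have e' : (ν : F) = -1 := by linear_combination e
      rw [e', map_neg, map_one] at hνneg
      exact h2 (by linear_combination -hνneg)
    rcases hall _ hν1 with e | e <;> rw [map_add, map_one, hνneg] at e
    · exact mul_ne_zero h2 ν.ne_zero (by linear_combination -e)
    · exact h2 (by linear_combination e)
  -- `w` lies in the member of `g`
  haveI : Fact (Nat.Prime 2) := ⟨Nat.prime_two⟩
  have hnB := hnil u hu1
  have hwo : orderOf (iH hH wS) = 2 := by rw [← orderOf_coe, iH_coe]; exact orderOf_inn_wS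
  have hnodd : ∀ l : ℕ, l.Prime → l ∣ orderOf ν → l = 2 := by
    intro l hl hld
    by_contra hl2
    obtain ⟨a, ha⟩ : ∃ a, a = ν ^ (orderOf ν / l) := ⟨_, rfl⟩
    have hao : orderOf a = l := by rw [ha]; exact orderOf_pow_orderOf_div (orderOf_pos ν).ne' hld
    have ha4 : a ^ 4 ≠ 1 := fun e => by
      have h := orderOf_dvd_of_pow_eq_one e
      rw [hao, show (4 : ℕ) = 2 ^ 2 by norm_num] at h
      exact hl2 ((Nat.prime_dvd_prime_iff_eq hl Nat.prime_two).1 (hl.dvd_of_dvd_pow h))
    have hd : orderOf (iH hH (tS a)) ∣ l := by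
      refine orderOf_dvd_of_pow_eq_one (Subtype.ext ?_)
      rw [SubmonoidClass.coe_pow, iH_coe, inn_tS, ← map_pow, dg_pow, inv_pow, ← hao, pow_orderOf_eq_one, inv_one,
        dg_one, map_one]
      rfl
    haveI := hnB
    have h1 : orderOf (⟨_, hwB⟩ : ↥(P.comp u)) = 2 := (Subgroup.orderOf_mk _ hwB).trans hwo
    have h2' : orderOf (⟨_, htB a ha4⟩ : ↥(P.comp u)) = orderOf (iH hH (tS a)) := Subgroup.orderOf_mk _ (htB a ha4)
    have hc := congrArg Subtype.val ((PGroup.commute_of_coprime_orderOf (⟨_, hwB⟩ : ↥(P.comp u))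
      ⟨_, htB a ha4⟩ (by
        rw [h1, h2']
        exact Nat.Coprime.coprime_dvd_right hd ((Nat.coprime_primes Nat.prime_two hl).2 (Ne.symm hl2)))).map
      (P.comp u).subtype).eq
    simp only [coe_subtype, Subgroup.coe_mul, iH_coe] at hc
    rw [inn_tS, inn_def, ← map_mul, ← map_mul, innd_eq_innd le_rfl] at hc
    obtain ⟨c, hc⟩ := hc
    have e0 := congrArg (fun M : GL (Fin 2) F => M.val 0 1) hc
    have e1 := congrArg (fun M : GL (Fin 2) F => M.val 1 0) hc
    simp [dg_val, Matrix.mul_apply, Fin.sum_univ_two] at e0 e1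
    refine ha4 (Units.ext ?_)
    rw [Units.val_pow_eq_pow_val, Units.val_one]
    have ha0 := a.ne_zero
    field_simp at e0 e1
    linear_combination ((a : F) ^ 2) * e1 - e0
  obtain ⟨p, hp⟩ := CharP.exists F
  haveI : Fact p.Prime := ⟨CharP.char_is_prime F p⟩
  have hq0 : q₀ = 3 := by
    obtain ⟨e, he⟩ : ∃ e, q₀ ^ 2 - 1 = 2 ^ e := ⟨_, Nat.eq_prime_pow_of_unique_prime_dvd
      (by rw [← hq]; omega) fun {d} hd hdd => hnodd d hd (by rw [hνo, hq]; exact hdd)⟩
    have h3 : 3 ≤ q₀ := by nlinarith [hq9, hq]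
    have hfac : (q₀ - 1) * (q₀ + 1) = 2 ^ e := by
      rw [← he]; zify [show 1 ≤ q₀ by omega, show 1 ≤ q₀ ^ 2 by nlinarith]; ring
    obtain ⟨a, -, ha⟩ := (Nat.dvd_prime_pow Nat.prime_two).1 (hfac ▸ dvd_mul_right (q₀ - 1) (q₀ + 1))
    obtain ⟨b, -, hb⟩ := (Nat.dvd_prime_pow Nat.prime_two).1 (hfac ▸ dvd_mul_left (q₀ + 1) (q₀ - 1))
    rcases Nat.lt_or_ge a 2 with hlt | hge
    · interval_cases a <;> omega
    exfalso
    have hb2 : 2 ≤ b := by
      by_contra hlt
      interval_cases b <;> omega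
    have h4a : 4 ∣ 2 ^ a := pow_dvd_pow 2 hge
    have h4b : 4 ∣ 2 ^ b := pow_dvd_pow 2 hb2
    omega
  have hq' : Fintype.card F = 9 := by rw [hq, hq0]; norm_num
  have hν8 : orderOf ν = 8 := by rw [hνo, hq']
  obtain ⟨i, hi⟩ : ∃ i : F, i = (ν : F) ^ 2 := ⟨_, rfl⟩
  have hii : i * i = -1 := by
    have h4 : ((ν ^ 4 : Fˣ) : F) * (ν ^ 4 : Fˣ) = 1 := by
      rw [← Units.val_mul, ← pow_add, show 4 + 4 = orderOf ν from hν8.symm, pow_orderOf_eq_one, Units.val_one]
    have := (mul_self_eq_one_iff.1 h4).resolve_left fun e => hν4 (Units.ext e)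
    rw [hi, ← pow_add]
    simpa using this
  have h3 : (3 : F) = 0 := by
    have h9 : ((Fintype.card F : ℕ) : F) = 0 := Nat.cast_card_eq_zero F
    rw [hq'] at h9
    exact mul_self_eq_zero.1 (by rw [← h9]; norm_num)
  let d' : SL2 := ⟨!![i, i; -i, i], by simp [Matrix.det_fin_two]; linear_combination (2 : F) * hii - h3⟩
  have hd'v : d'.1 = !![i, i; -i, i] := rfl
  have hd'2 : (iH hH d') ^ 2 = iH hH wS := by
    rw [← map_pow]
    refine Subtype.ext ?_
    rw [iH_coe, iH_coe, inn_eq_iff]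
    refine ⟨1, ?_⟩
    rw [pow_two, Matrix.SpecialLinearGroup.coe_mul, hd'v]
    ext a b
    fin_cases a <;> fin_cases b <;>
      simp [Matrix.mul_apply, Fin.sum_univ_two] <;>
      first
        | linear_combination (2 : F) * hii - h3
        | linear_combination (-2 : F) * hii + h3
  have hw1 := Invol.ne_one hwo
  have hd'1 : iH hH d' ≠ 1 := fun e => hw1 (by rw [← hd'2, e, one_pow])
  have hd'B : iH hH d' ∈ P.comp u := by
    rw [← P.eq_of_mem hu1 hw1 hwB, ← hd'2, P.comp_pow (hd'2.symm ▸ hw1)]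
    exact P.self_mem _
  have hd'4 : ∃ k, orderOf (iH hH d') = 2 ^ k := by
    obtain ⟨k, -, hk⟩ := (Nat.dvd_prime_pow Nat.prime_two).1 (orderOf_dvd_of_pow_eq_one (n := 2 ^ 2) (x := iH hH d') (by
      rw [show (2 : ℕ) ^ 2 = 2 * 2 by norm_num, pow_mul, hd'2, pow_two, Invol.inv_mul_self hwo]))
    exact ⟨k, hk⟩
  have hs4 : ∃ k, orderOf (iH hH (tS ν)) = 2 ^ k := by
    obtain ⟨k, -, hk⟩ := (Nat.dvd_prime_pow Nat.prime_two).1 (orderOf_dvd_of_pow_eq_one (n := 2 ^ 3)
      (x := iH hH (tS ν)) (Subtype.ext (by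
        rw [SubmonoidClass.coe_pow, iH_coe, inn_tS, ← map_pow, dg_pow, inv_pow, show (2 : ℕ) ^ 3 = orderOf ν by
          rw [hν8]; norm_num, pow_orderOf_eq_one, inv_one, dg_one, map_one]
        rfl)))
    exact ⟨k, hk⟩
  obtain ⟨k, hk⟩ := isPel_mul hnB (htB ν hν4) hd'B hs4 hd'4
  haveI : Fact (Nat.Prime 3) := ⟨Nat.prime_three⟩
  have h3o : orderOf (iH hH (tS ν) * iH hH d') = 3 := by
    rw [← map_mul]
    obtain ⟨τ, hτ⟩ : ∃ τ : F, τ = i * ((ν : F) + (ν : F)⁻¹) := ⟨_, rfl⟩
    have hνν' : (ν : F) * (ν : F)⁻¹ = 1 := mul_inv_cancel₀ ν.ne_zero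
    have hτ2 : τ * τ = 1 := by
      have hiν : i * (ν : F)⁻¹ ^ 2 = 1 := by rw [hi, ← mul_pow, hνν', one_pow]
      have hi2 : (ν : F)⁻¹ ^ 2 = -i := by
        linear_combination (-i) * hiν + (ν : F)⁻¹ ^ 2 * hii
      rw [hτ]
      linear_combination ((ν : F) ^ 2 + 2 * (ν : F) * (ν : F)⁻¹ + (ν : F)⁻¹ ^ 2) * hii + hi - hi2
        - (2 : F) * hνν' - h3
    have hN : ((tS ν) * d').1 ^ 2 = τ • ((tS ν) * d').1 - 1 := by
      rw [pow_two, Matrix.SpecialLinearGroup.coe_mul, hd'v, hτ]
      ext a b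
      fin_cases a <;> fin_cases b <;>
        simp [Matrix.mul_apply, Fin.sum_univ_two] <;>
        first
          | linear_combination (2 * i * i) * hνν' + (2 : F) * hii - h3
          | linear_combination -(2 * i * i) * hνν' - (2 : F) * hii + h3
          | ring
    refine orderOf_eq_prime ?_ (iH_ne_one hH (inn_ne_one (Or.inl ?_)))
    · rw [← map_pow, ← map_one (iH hH)]
      refine Subtype.ext ?_
      rw [iH_coe, iH_coe, inn_eq_iff]
      have hτ0 : τ ≠ 0 := fun e => by rw [e, mul_zero] at hτ2; exact zero_ne_one hτ2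
      refine ⟨-Units.mk0 τ hτ0, ?_⟩
      rw [Matrix.SpecialLinearGroup.coe_pow, pow_succ, hN, sub_mul, smul_mul_assoc, ← pow_two, hN, smul_sub,
        smul_smul, hτ2, one_smul, one_mul, Matrix.SpecialLinearGroup.coe_one, Units.val_neg, Units.val_mk0, neg_smul]
      abel
    · have hi0 : i ≠ 0 := fun e => by rw [e, zero_mul] at hii; simp at hii
      rw [Matrix.SpecialLinearGroup.coe_mul, hd'v]
      simpa [Matrix.mul_apply, Fin.sum_univ_two] using hi0
  rw [h3o] at hk
  exact absurd (Nat.prime_three.dvd_of_dvd_pow (dvd_of_eq hk)) (by norm_num)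

/-- All elements of `H` are inner-diagonal. -/
theorem le_innd_range (hH : ∀ s : SL2, inn s ∈ H) (h5 : 5 ≤ Fintype.card F) :
    H ≤ (innd : GL (Fin 2) F →* MulAut PSL2).range := by
  show ∀ β : MulAut PSL2, β ∈ H → β ∈ (innd : GL (Fin 2) F →* MulAut PSL2).range
  intro β hβ
  obtain ⟨A, σ, rfl⟩ := Cfsg.Lib.GW.PGL.exists_decomp_two β
  by_cases h1 : σ = 1
  · exact ⟨A, by rw [h1, map_one, mul_one]⟩
  exfalso
  haveI : Finite (F ≃+* F) := Finite.of_injective _ DFunLike.coe_injective
  obtain ⟨r, hr, hd⟩ := Nat.exists_prime_and_dvd (mt orderOf_eq_one_iff.1 h1)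
  have := pow_mem hβ (orderOf σ / r)
  rw [innd_fld_pow] at this
  exact false_of_innd_fld P hnil hH h5 hr (orderOf_pow_orderOf_div (orderOf_pos σ).ne' hd) this

end Cfsg.Lib.Partition.Field
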