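import Mathlib
import Cfsg.Prelude.Def_Solvable
import Cfsg.Agent.Lib.PGroup.Basic

/-!
# Two lemmas on fixed-point-free action

A complement acting without fixed points is a Frobenius complement; and an automorphism of prime order
with trivial norm cannot normalise a group acting without fixed points which it does not centralise.
-/

set_option autoImplicit false
set_option linter.style.haveILetI false

namespace Cfsg.Lib.Partition

open Finset

universe u

/-- An element `σ` with trivial norm cannot normalise a nontrivial fixed-point-free group `R` on which it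
acts without fixed points. -/
theorem false_of_norm {V : Type u} [CommGroup V] [Finite V] [Nontrivial V] {p : ℕ} (hp : p.Prime)
    (hexp : ∀ v : V, v ^ p = 1) (R : Subgroup (MulAut V)) [Finite R] (σ : MulAut V) (hσp : σ ^ p = 1)
    (hRn : ∀ r ∈ R, σ * r * σ⁻¹ ∈ R) (hR1 : R ≠ ⊥) (hfix : ∀ r ∈ R, ∀ v : V, r v = v → r = 1 ∨ v = 1)
    (hC : ∀ r ∈ R, Commute r σ → r = 1) (hnorm : ∀ v : V, ∏ i ∈ range p, (σ ^ i) v = 1)
    (hcard : ¬ p ∣ Nat.card R) : False := by
  classical
  haveI := Fintype.ofFinite R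
  obtain ⟨r₀, hr₀, hr₀1⟩ := (Subgroup.bot_or_exists_ne_one R).resolve_left hR1
  have hN : ∀ w : V, ∏ r : R, (r : MulAut V) w = 1 := by
    intro w
    refine (hfix r₀ hr₀ _ ?_).resolve_left hr₀1
    rw [map_prod]
    exact Fintype.prod_equiv (Equiv.mulLeft (⟨r₀, hr₀⟩ : R)) _ _ fun r => rfl
  have hRpow : ∀ (i : ℕ), ∀ r ∈ R, σ ^ i * r * (σ ^ i)⁻¹ ∈ R := by
    intro i
    induction i with
    | zero => simp
    | succ i ih =>
      intro r hr
      rw [pow_succ', mul_inv_rev, show σ * σ ^ i * r * ((σ ^ i)⁻¹ * σ⁻¹) = σ * (σ ^ i * r * (σ ^ i)⁻¹) * σ⁻¹ by group]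
      exact hRn _ (ih r hr)
  obtain ⟨v, hv⟩ := exists_ne (1 : V)
  have hzero : ∀ i ∈ range p, i ≠ 0 → ∏ r : R, ((r : MulAut V) * σ ^ i * (r : MulAut V)⁻¹) v = 1 := by
    intro i hi hi0
    let c : R → R := fun r => ⟨r * (σ ^ i * (r : MulAut V)⁻¹ * (σ ^ i)⁻¹),
      mul_mem r.2 (hRpow i _ (inv_mem r.2))⟩
    have hcinj : Function.Injective c := by
      intro r s h
      have h' : (r : MulAut V) * (σ ^ i * (r : MulAut V)⁻¹ * (σ ^ i)⁻¹) =
          s * (σ ^ i * (s : MulAut V)⁻¹ * (σ ^ i)⁻¹) := congrArg Subtype.val h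
      have hcom : Commute ((s : MulAut V)⁻¹ * r) (σ ^ i) := by
        rw [commute_iff_eq]
        have h'' : (s : MulAut V)⁻¹ * r * σ ^ i = σ ^ i * ((s : MulAut V)⁻¹ * r) := by
          calc (s : MulAut V)⁻¹ * r * σ ^ i
              = (s : MulAut V)⁻¹ * (r * (σ ^ i * (r : MulAut V)⁻¹ * (σ ^ i)⁻¹)) * (σ ^ i * r) := by group
            _ = (s : MulAut V)⁻¹ * (s * (σ ^ i * (s : MulAut V)⁻¹ * (σ ^ i)⁻¹)) * (σ ^ i * r) := by rw [h']
            _ = σ ^ i * ((s : MulAut V)⁻¹ * r) := by group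
        exact h''
      have hcop : i.Coprime p := by
        rw [Nat.coprime_comm, hp.coprime_iff_not_dvd]
        exact fun hd => hi0 (Nat.eq_zero_of_dvd_of_lt hd (mem_range.1 hi))
      obtain ⟨k, hk⟩ := exists_pow_eq_self_of_coprime (x := σ)
        (hcop.coprime_dvd_right (orderOf_dvd_of_pow_eq_one hσp))
      have := hC _ (mul_mem (inv_mem s.2) r.2) (hk ▸ hcom.pow_right k)
      exact Subtype.ext (inv_mul_eq_one.1 this).symm
    rw [← hN ((σ ^ i) v)]
    refine Fintype.prod_bijective c (Finite.injective_iff_bijective.1 hcinj) _ _ fun r => ?_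
    show _ = ((r : MulAut V) * (σ ^ i * (r : MulAut V)⁻¹ * (σ ^ i)⁻¹)) ((σ ^ i) v)
    rw [← MulAut.mul_apply]
    congr 1
    group
  have htot : ∏ i ∈ range p, ∏ r : R, ((r : MulAut V) * σ ^ i * (r : MulAut V)⁻¹) v = 1 := by
    rw [Finset.prod_comm]
    refine Finset.prod_eq_one fun r _ => ?_
    simp only [MulAut.mul_apply]
    rw [← map_prod, hnorm, map_one]
  rw [Finset.prod_eq_single 0 hzero fun h => absurd (mem_range.2 hp.pos) h] at htot
  simp only [pow_zero, mul_one, mul_inv_cancel, MulAut.one_apply, Finset.prod_const, Finset.card_univ] at htot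
  refine hv (orderOf_eq_one_iff.1 ?_)
  refine Nat.eq_one_of_dvd_coprimes ((hp.coprime_iff_not_dvd.2 hcard)) (orderOf_dvd_of_pow_eq_one (hexp v)) ?_
  rw [Nat.card_eq_fintype_card]
  exact orderOf_dvd_of_pow_eq_one htot

open scoped Pointwise in
/-- A proper normal subgroup whose non-identity elements commute with no element outside it has a
Frobenius complement. -/
theorem frobenius_of_no_commute {G : Type u} [Group G] [Finite G] (N : Subgroup G) [N.Normal] (h0 : N ≠ ⊥)
    (h1 : N ≠ ⊤) (hc : ∀ k : G, k ∉ N → ∀ n ∈ N, n ≠ 1 → ¬ Commute n k) :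
    ∃ H : Subgroup G, Cfsg.IsFrobeniusComplement H := by
  have hcop : (Nat.card N).Coprime N.index := by
    refine Nat.coprime_of_dvd fun p hp hd hi => ?_
    haveI := Fact.mk hp
    obtain ⟨a, ha⟩ := exists_prime_orderOf_dvd_card' p hd
    obtain ⟨Q⟩ : Nonempty (Sylow p G) := inferInstance
    have hQN : ¬ (Q : Subgroup G) ≤ N := fun hle => Q.not_dvd_index (hi.trans (Subgroup.index_dvd_of_le hle))
    obtain ⟨y, hyQ, hyN⟩ := SetLike.not_le_iff_exists.1 hQN
    -- a conjugate of `a` lies in `Q`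
    obtain ⟨R, hR⟩ := (IsPGroup.of_card (n := 1) (by rw [Nat.card_zpowers, Subgroup.orderOf_coe, ha, pow_one]) :
      IsPGroup p (Subgroup.zpowers (a : G))).exists_le_sylow
    obtain ⟨g, hg⟩ := MulAction.exists_smul_eq G R Q
    have haQ : g * (a : G) * g⁻¹ ∈ (Q : Subgroup G) := by
      rw [← hg, Sylow.coe_subgroup_smul, Subgroup.mem_pointwise_smul_iff_inv_smul_mem]
      simpa [mul_assoc] using hR (Subgroup.mem_zpowers (a : G))
    haveI hnQ : (N.subgroupOf (Q : Subgroup G)).Normal := inferInstance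
    have hne : N.subgroupOf (Q : Subgroup G) ≠ ⊥ := fun e => by
      have h' := Subgroup.mem_subgroupOf.2 (show ((⟨_, haQ⟩ : (Q : Subgroup G)) : G) ∈ N from
        ‹N.Normal›.conj_mem _ a.2 g)
      rw [e, Subgroup.mem_bot] at h'
      have : orderOf (a : G) = 1 := orderOf_eq_one_iff.2 (conj_eq_one_iff.1 (congrArg Subtype.val h'))
      rw [Subgroup.orderOf_coe, ha] at this
      exact hp.ne_one this
    obtain ⟨z, hzN, hzc, hzo⟩ := Cfsg.Lib.PGroup.exists_mem_center_orderOf_eq Q.2 hne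
    refine hc y hyN (z : G) hzN (fun e => hp.ne_one (by rw [← hzo, ← Subgroup.orderOf_coe, e, orderOf_one])) ?_
    exact (congrArg Subtype.val (Subgroup.mem_center_iff.1 hzc ⟨y, hyQ⟩) : y * (z : G) = z * y).symm
  obtain ⟨K, hK⟩ := Subgroup.exists_right_complement'_of_coprime hcop
  refine ⟨K, fun e => h1 ?_, fun e => h0 ?_, fun g hg => ?_⟩
  · rw [e] at hK
    exact (Subgroup.isComplement'_bot_right.1 hK)
  · rw [e] at hK
    exact (Subgroup.isComplement'_top_right.1 hK)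
  obtain ⟨⟨a, k⟩, hak⟩ := hK.2 g
  have ha1 : (a : G) ≠ 1 := fun e => hg (by rw [← hak]; simp [e])
  refine (Subgroup.bot_or_exists_ne_one _).resolve_right ?_
  rintro ⟨z, ⟨(hzK : z ∈ K), (hzg : z ∈ MulAut.conj g • K)⟩, hz1⟩
  replace hzg := Subgroup.mem_pointwise_smul_iff_inv_smul_mem.1 hzg
  have hzg' : (a : G)⁻¹ * z * a ∈ K := by
    have hkK : (k : G) ∈ K := k.2
    have := K.mul_mem (K.mul_mem hkK hzg) (K.inv_mem hkK)
    simpa [← hak, mul_assoc] using this
  have hmem : z⁻¹ * ((a : G)⁻¹ * z * a) ∈ N ⊓ K := by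
    refine ⟨?_, K.mul_mem (K.inv_mem hzK) hzg'⟩
    rw [show z⁻¹ * ((a : G)⁻¹ * z * a) = z⁻¹ * (a : G)⁻¹ * z⁻¹⁻¹ * a by group]
    exact mul_mem (‹N.Normal›.conj_mem _ (inv_mem a.2) _) a.2
  rw [hK.disjoint.eq_bot, Subgroup.mem_bot] at hmem
  refine hc z (fun hzN => hz1 ?_) a a.2 ha1 ?_
  · exact Subgroup.mem_bot.1 (hK.disjoint.eq_bot ▸ (show z ∈ N ⊓ K from ⟨hzN, hzK⟩))
  · rw [inv_mul_eq_one, mul_assoc, eq_inv_mul_iff_mul_eq] at hmem
    exact hmem

end Cfsg.Lib.Partition
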