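import Cfsg.Agent.Lib.Partition.Basic
import Cfsg.Agent.Lib.Partition.Free
import Cfsg.Agent.Lib.PGroup.Elements
import Cfsg.Agent.S0205

/-!
# A partition with a normal member

The group has a proper Hughes subgroup or is a Frobenius group.
-/

set_option autoImplicit false
set_option linter.style.haveILetI false

namespace Cfsg.Lib.Partition.Data

open Subgroup
open scoped Pointwise commutatorElement
open Cfsg.Lib

universe u

variable {G : Type u} [Group G] (P : Data G)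

/-- `p` is the order of an element outside `A` which centralises a non-identity element of `A`. -/
def InT (a₀ : G) (p : ℕ) : Prop :=
  p.Prime ∧ ∃ y a : G, y ∉ P.comp a₀ ∧ orderOf y = p ∧ a ∈ P.comp a₀ ∧ a ≠ 1 ∧ Commute a y

variable [Finite G] {a₀ : G} (ha : a₀ ≠ 1)

include ha in
theorem out_commute {y a : G} (hy : y ∉ P.comp a₀) (h : a ∈ P.comp a₀) (h1 : a ≠ 1) (hc : Commute a y) :
    (orderOf y).Prime ∧ orderOf a = orderOf y := by
  have hy1 : y ≠ 1 := fun e => hy (e ▸ one_mem _)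
  exact P.commute_orderOf hy1 h1 hc.symm fun e => hy (by rw [← P.eq_of_mem ha h1 h, ← e]; exact P.self_mem y)

include ha in
theorem inT_of_commute {y a : G} (hy : y ∉ P.comp a₀) (h : a ∈ P.comp a₀) (h1 : a ≠ 1) (hc : Commute a y) :
    P.InT a₀ (orderOf y) :=
  ⟨(P.out_commute ha hy h h1 hc).1, y, a, hy, rfl, h, h1, hc⟩

variable [hA : (P.comp a₀).Normal] {p : ℕ}

include ha hA

/-- Every `p`-element centralises an element of order `p` of `A`. -/
theorem exists_fix (hT : P.InT a₀ p) {y : G} {k : ℕ} (hy : orderOf y = p ^ k) :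
    ∃ a ∈ P.comp a₀, orderOf a = p ∧ Commute a y := by
  obtain ⟨hp, y₁, a, hy₁, ho, haA, ha1, hc⟩ := hT
  haveI := Fact.mk hp
  have hoa : orderOf a = p := (P.out_commute ha hy₁ haA ha1 hc).2.trans ho
  obtain ⟨Q, hQ⟩ := (IsPGroup.of_card (n := k) (by rw [Nat.card_zpowers, hy]) :
    IsPGroup p (zpowers y)).exists_le_sylow
  obtain ⟨R, hR⟩ := (IsPGroup.of_card (n := 1) (by rw [Nat.card_zpowers, hoa, pow_one]) :
    IsPGroup p (zpowers a)).exists_le_sylow
  obtain ⟨g, hg⟩ := MulAction.exists_smul_eq G R Q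
  have haQ : g * a * g⁻¹ ∈ (Q : Subgroup G) := by
    rw [← hg, Sylow.coe_subgroup_smul, mem_pointwise_smul_iff_inv_smul_mem]
    simpa [mul_assoc] using hR (mem_zpowers a)
  have hne : (P.comp a₀).subgroupOf (Q : Subgroup G) ≠ ⊥ := fun e => ha1 (by
    have h' : (⟨_, haQ⟩ : (Q : Subgroup G)) ∈ (P.comp a₀).subgroupOf (Q : Subgroup G) := hA.conj_mem _ haA g
    rw [e, mem_bot] at h'
    exact conj_eq_one_iff.1 (congrArg Subtype.val h'))
  obtain ⟨z, hzA, hzc, hzo⟩ := PGroup.exists_mem_center_orderOf_eq Q.2 hne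
  exact ⟨z, hzA, by rw [orderOf_coe, hzo],
    (congrArg Subtype.val (mem_center_iff.1 hzc ⟨y, hQ (mem_zpowers y)⟩) : y * (z : G) = z * y).symm⟩

/-- The elements outside `A` of order divisible by `p` have order `p`. -/
theorem orderOf_eq_of_dvd (hT : P.InT a₀ p) {y : G} (hy : y ∉ P.comp a₀) (hd : p ∣ orderOf y) :
    orderOf y = p := by
  have hp := hT.1
  by_contra hne
  obtain ⟨m, hm⟩ := hd
  have hm1 : m ≠ 1 := by rintro rfl; exact hne (by rw [hm, mul_one])
  obtain ⟨r, hr, hrm⟩ := Nat.exists_prime_and_dvd hm1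
  obtain ⟨z, hz⟩ : ∃ z, z = y ^ (orderOf y / (p * r)) := ⟨_, rfl⟩
  have hzo : orderOf z = p * r := by
    rw [hz]
    exact orderOf_pow_orderOf_div (orderOf_pos y).ne' (by rw [hm]; exact mul_dvd_mul_left _ hrm)
  have hout : ∀ k, z ^ k ≠ 1 → z ^ k ∉ P.comp a₀ := fun k hk h => hk (by
    rw [hz, ← pow_mul] at h ⊢
    exact P.pow_eq_one ha hy h)
  have hpr : 1 < p * r := Nat.one_lt_mul_iff.2 ⟨hp.pos, hr.pos, Or.inl hp.one_lt⟩
  have hz1 : z ≠ 1 := fun e => by rw [e, orderOf_one] at hzo; omega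
  have hzA : z ∉ P.comp a₀ := by simpa using hout 1 (by rwa [pow_one])
  by_cases hrp : r = p
  · subst hrp
    obtain ⟨a, haA, hao, hc⟩ := P.exists_fix ha hT (y := z) (k := 2) (by rw [hzo, pow_two])
    have := (P.out_commute ha hzA haA (fun e => hp.ne_one (by rw [← hao, e, orderOf_one])) hc).1
    rw [hzo] at this
    exact Nat.not_prime_mul hp.ne_one hp.ne_one this
  have hyo : orderOf (z ^ r) = p := by
    rw [orderOf_pow_of_dvd hr.ne_zero (by rw [hzo]; exact dvd_mul_left r p), hzo, Nat.mul_div_cancel _ hr.pos]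
  have hwo : orderOf (z ^ p) = r := by
    rw [orderOf_pow_of_dvd hp.ne_zero (by rw [hzo]; exact dvd_mul_right p r), hzo, Nat.mul_div_cancel_left _ hp.pos]
  have hy1 : z ^ r ≠ 1 := fun e => hp.ne_one (by rw [← hyo, e, orderOf_one])
  have hw1 : z ^ p ≠ 1 := fun e => hr.ne_one (by rw [← hwo, e, orderOf_one])
  obtain ⟨a, haA, hao, hc⟩ := P.exists_fix ha hT (y := z ^ r) (k := 1) (by rw [hyo, pow_one])
  have ha1 : a ≠ 1 := fun e => hp.ne_one (by rw [← hao, e, orderOf_one])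
  have hwa : a * z ^ p ∉ P.comp a₀ := fun h => hout p hw1 (by
    have := mul_mem (inv_mem haA) h
    rwa [inv_mul_cancel_left] at this)
  have hwar : (a * z ^ p) ^ r = 1 := by
    refine P.pow_eq_one ha hwa ?_
    have := mul_pow_mem (A := P.comp a₀) haA (le_normalizer_of_normal (mem_top (z ^ p))) r
    rwa [show (z ^ p) ^ r = 1 from hwo ▸ pow_orderOf_eq_one _, inv_one, mul_one] at this
  have hwa1 : a * z ^ p ≠ 1 := fun e => hwa (e ▸ one_mem _)
  haveI := Fact.mk hr
  have he : P.comp (a * z ^ p) = P.comp (z ^ r) := P.comp_eq_of_commute hwa1 hy1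
    (hc.mul_left (Commute.pow_pow_self z p r)) (by rw [orderOf_eq_prime hwar hwa1, hyo]; exact hrp)
  rw [P.comp_pow hy1, ← P.comp_pow hw1] at he
  have haw : a ∈ P.comp (z ^ p) := by
    have := mul_mem (he ▸ P.self_mem (a * z ^ p)) (inv_mem (P.self_mem (z ^ p)))
    rwa [mul_inv_cancel_right] at this
  exact hout p hw1 (P.eq_of_mem ha ha1 haA ▸ P.mem_comm hw1 ha1 haw)

theorem pow_eq_one_of_dvd (hT : P.InT a₀ p) {y : G} (hy : y ∉ P.comp a₀) (hd : p ∣ orderOf y) : y ^ p = 1 :=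
  P.orderOf_eq_of_dvd ha hT hy hd ▸ pow_orderOf_eq_one y

omit [Finite G] in
/-- An involution outside `A` inverts `A`. -/
theorem invert {t b : G} (ht : t ∉ P.comp a₀) (ht2 : t ^ 2 = 1) (hb : b ∈ P.comp a₀) : t * b * t⁻¹ = b⁻¹ := by
  have hbt : b * t ∉ P.comp a₀ := fun h => ht (by
    have := mul_mem (inv_mem hb) h
    rwa [inv_mul_cancel_left] at this)
  have h : (b * t) ^ 2 = 1 := P.pow_eq_one ha hbt (by
    have := mul_pow_mem (A := P.comp a₀) hb (le_normalizer_of_normal (mem_top t)) 2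
    rwa [ht2, inv_one, mul_one] at this)
  have e : t⁻¹ = t := inv_eq_of_mul_eq_one_right (by rwa [← pow_two])
  rw [e]
  refine eq_inv_of_mul_eq_one_right ?_
  rw [pow_two] at h
  simpa [mul_assoc] using h

theorem pow_eq_one_of_involution (hT : P.InT a₀ p) {t : G} (ht : t ∉ P.comp a₀) (ht2 : t ^ 2 = 1) {y z : G}
    (hy : y ∉ P.comp a₀) (hyp : y ^ p = 1) (hz : z ∉ P.comp a₀) (hzp : z ^ p = 1)
    (hyz : y * z ∉ P.comp a₀) : (y * z) ^ p = 1 := by
  obtain ⟨a, haA, hao, -⟩ := P.exists_fix ha hT (y := 1) (k := 0) (by simp)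
  have hp := hT.1
  haveI := Fact.mk hp
  have ha1 : a ≠ 1 := fun e => hp.ne_one (by rw [← hao, e, orderOf_one])
  have key : Commute a (y * z) := by
    by_cases h2 : p = 2
    · subst h2
      show a * (y * z) = y * z * a
      have h1 := P.invert ha hz hzp haA
      have h3 := P.invert ha hy hyp (inv_mem haA)
      rw [inv_inv, ← h1, mul_inv_eq_iff_eq_mul] at h3
      rw [← mul_assoc, ← h3]; group
    -- elements of order `p` centralise `A`
    suffices h : ∀ w ∉ P.comp a₀, w ^ p = 1 → Commute a w from (h y hy hyp).mul_right (h z hz hzp)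
    intro w hw hwp
    let φ : G →* MulAut ↥(P.comp a₀) := MulAut.conjNormal
    have hφt : ∀ b : ↥(P.comp a₀), φ t b = b⁻¹ := fun b => Subtype.ext (by
      rw [MulAut.conjNormal_apply, P.invert ha ht ht2 b.2]; rfl)
    have hcomm : Commute (φ t) (φ w) := MulEquiv.ext fun b => by
      rw [MulAut.mul_apply, MulAut.mul_apply, hφt, hφt, map_inv]
    by_cases hφw : φ w = 1
    · refine Eq.symm ?_
      have := congrArg (fun e : MulAut ↥(P.comp a₀) => (e ⟨a, haA⟩ : G)) hφw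
      simpa [φ, mul_inv_eq_iff_eq_mul] using this
    exfalso
    have hφt1 : φ t ≠ 1 := fun e => by
      have h := hφt ⟨a, haA⟩
      rw [e, MulAut.one_apply] at h
      have : a ^ 2 = 1 := by
        rw [pow_two, mul_eq_one_iff_eq_inv]
        exact congrArg Subtype.val h
      have := orderOf_dvd_of_pow_eq_one this
      rw [hao] at this
      exact h2 ((Nat.prime_dvd_prime_iff_eq hp Nat.prime_two).1 this)
    have hot : orderOf (φ t) = 2 := orderOf_eq_prime (by rw [← map_pow, ht2, map_one]) hφt1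
    have how : orderOf (φ w) = p := orderOf_eq_prime (by rw [← map_pow, hwp, map_one]) hφw
    have hd : 2 * p ∣ orderOf (t * w) := by
      refine dvd_trans ?_ (orderOf_map_dvd φ (t * w))
      rw [map_mul, hcomm.orderOf_mul_eq_mul_orderOf_of_coprime
        (by rw [hot, how]; exact (Nat.coprime_primes Nat.prime_two hp).2 (Ne.symm h2)), hot, how]
    have hout : t * w ∉ P.comp a₀ := fun h => by
      have e : φ (t * w) ≠ 1 := fun e => by
        rw [map_mul, mul_eq_one_iff_eq_inv] at e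
        have : orderOf (φ t) = orderOf (φ w) := by rw [e, orderOf_inv]
        rw [hot, how] at this
        exact h2 this.symm
      refine e (MulEquiv.ext fun b => ?_)
      have hab : ∀ c ∈ P.comp a₀, ∀ d ∈ P.comp a₀, d * c * d⁻¹ = c := fun c hc d hd => by
        have e1 := P.invert ha ht ht2 (mul_mem hd hc)
        rw [mul_inv_rev, show t * (d * c) * t⁻¹ = t * d * t⁻¹ * (t * c * t⁻¹) by group,
          P.invert ha ht ht2 hd, P.invert ha ht ht2 hc] at e1
        rw [mul_inv_eq_iff_eq_mul]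
        simpa using congrArg Inv.inv e1.symm
      exact Subtype.ext (by rw [MulAut.conjNormal_apply, hab _ b.2 _ h]; rfl)
    have := P.orderOf_eq_of_dvd ha hT hout (dvd_trans (dvd_mul_left p 2) hd)
    rw [this] at hd
    have := Nat.le_of_dvd hp.pos hd
    have := hp.pos
    omega
  have h2 := (P.out_commute ha hyz haA ha1 key).2
  rw [hao] at h2
  rw [h2]; exact pow_orderOf_eq_one _

omit ha hA in
theorem exists_q_normal {K : Type u} [Group K] [Finite K] [Nontrivial K] [Group.IsSolvable K] :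
    ∃ q : ℕ, q.Prime ∧ ∃ R : Subgroup K, R.Normal ∧ R ≠ ⊥ ∧ ∀ r ∈ R, r ^ q = 1 := by
  obtain ⟨R, hR⟩ := (Set.toFinite {R : Subgroup K | R.Normal ∧ R ≠ ⊥}).exists_minimal
    ⟨⊤, inferInstance, top_ne_bot⟩
  obtain ⟨hRn, hR0⟩ := hR.prop
  haveI := hRn
  haveI : Nontrivial R := (nontrivial_iff_ne_bot R).2 hR0
  have hbot : ⁅R, R⁆ = ⊥ := by
    by_contra hb
    have e := le_antisymm (commutator_le_self R) (hR.le_of_le ⟨inferInstance, hb⟩ (commutator_le_self R))
    refine (Group.IsSolvable.commutator_lt_top_of_nontrivial R).ne (map_injective R.subtype_injective ?_)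
    rw [map_subtype_commutator, e, ← MonoidHom.range_eq_map, range_subtype]
  have hc : ∀ a ∈ R, ∀ b ∈ R, Commute a b := fun a ha b hb => by
    have h1 : ⁅a, b⁆ ∈ ⁅R, R⁆ := commutator_mem_commutator ha hb
    rwa [hbot, mem_bot, commutatorElement_eq_one_iff_commute] at h1
  obtain ⟨x, hx, hx1⟩ := (bot_or_exists_ne_one R).resolve_left hR0
  obtain ⟨q, hq, hd⟩ := Nat.exists_prime_and_dvd (mt orderOf_eq_one_iff.1 hx1)
  let E : Subgroup K :=
    { carrier := {r | r ∈ R ∧ r ^ q = 1}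
      one_mem' := ⟨one_mem R, one_pow q⟩
      mul_mem' := fun {a b} ha hb => ⟨mul_mem ha.1 hb.1, by rw [(hc a ha.1 b hb.1).mul_pow, ha.2, hb.2, one_mul]⟩
      inv_mem' := fun {a} ha => ⟨inv_mem ha.1, by rw [inv_pow, ha.2, inv_one]⟩ }
  refine ⟨q, hq, E, ⟨fun r hr g => ⟨hRn.conj_mem r hr.1 g, by rw [conj_pow, hr.2, mul_one, mul_inv_cancel]⟩⟩,
    fun e => ?_, fun r hr => hr.2⟩
  have ho : orderOf (x ^ (orderOf x / q)) = q := orderOf_pow_orderOf_div (orderOf_pos x).ne' hd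
  have hmem : x ^ (orderOf x / q) ∈ E :=
    ⟨pow_mem hx _, (congrArg ((x ^ (orderOf x / q)) ^ ·) ho.symm).trans (pow_orderOf_eq_one _)⟩
  rw [e, mem_bot] at hmem
  rw [hmem, orderOf_one] at ho
  exact hq.ne_one ho.symm

/-- A central subgroup of exponent `p` of `A`. -/
theorem exists_central (hnil : Group.IsNilpotent ↥(P.comp a₀)) (hT : P.InT a₀ p) :
    ∃ U : Subgroup G, U.Normal ∧ U ≠ ⊥ ∧ U ≤ P.comp a₀ ∧ (∀ v ∈ U, v ^ p = 1) ∧
      ∀ v ∈ U, ∀ b ∈ P.comp a₀, Commute v b := by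
  have hp := hT.1
  haveI := Fact.mk hp
  obtain ⟨a, haA, hao, -⟩ := P.exists_fix ha hT (y := 1) (k := 0) (by simp)
  let U : Subgroup G :=
    { carrier := {v | v ∈ P.comp a₀ ∧ v ^ p = 1 ∧ ∀ b ∈ P.comp a₀, Commute v b}
      one_mem' := ⟨one_mem _, one_pow p, fun b _ => Commute.one_left b⟩
      mul_mem' := fun {v w} hv hw => ⟨mul_mem hv.1 hw.1,
        by rw [(hv.2.2 w hw.1).mul_pow, hv.2.1, hw.2.1, one_mul], fun b hb => (hv.2.2 b hb).mul_left (hw.2.2 b hb)⟩
      inv_mem' := fun {v} hv => ⟨inv_mem hv.1, by rw [inv_pow, hv.2.1, inv_one], fun b hb => (hv.2.2 b hb).inv_left⟩ }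
  refine ⟨U, ⟨fun v hv g => ⟨hA.conj_mem v hv.1 g, by rw [conj_pow, hv.2.1, mul_one, mul_inv_cancel],
    fun b hb => ?_⟩⟩, fun e => ?_, fun v hv => hv.1, fun v hv => hv.2.1, fun v hv b hb => hv.2.2 b hb⟩
  · have h := (hv.2.2 (g⁻¹ * b * g) (by simpa using hA.conj_mem b hb g⁻¹)).map (MulAut.conj g).toMonoidHom
    simpa [mul_assoc] using h
  obtain ⟨S⟩ : Nonempty (Sylow p ↥(P.comp a₀)) := inferInstance
  haveI : (S : Subgroup ↥(P.comp a₀)).Normal :=
    ((Group.isNilpotent_of_finite_tfae (G := ↥(P.comp a₀))).out 0 3 rfl rfl).mp hnil p inferInstance S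
  have hS : (⊤ : Subgroup (S : Subgroup ↥(P.comp a₀))) ≠ ⊥ := by
    haveI : Nontrivial (S : Subgroup ↥(P.comp a₀)) := (nontrivial_iff_ne_bot _).2
      (S.ne_bot_of_dvd_card (hao ▸ orderOf_dvd_natCard _ haA))
    exact top_ne_bot
  obtain ⟨z, -, hzc, hzo⟩ := PGroup.exists_mem_center_orderOf_eq S.2 hS
  have hzU : (((z : ↥(S : Subgroup ↥(P.comp a₀))) : ↥(P.comp a₀)) : G) ∈ U := by
    refine ⟨z.1.2, ?_, fun b hb => ?_⟩
    · have := pow_orderOf_eq_one z
      rw [hzo] at this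
      simpa using congrArg (fun w : ↥(S : Subgroup ↥(P.comp a₀)) => ((w : ↥(P.comp a₀)) : G)) this
    suffices h : (⟨b, hb⟩ : ↥(P.comp a₀)) ∈ centralizer ({z.1} : Set ↥(P.comp a₀)) from
      ((show Commute (⟨b, hb⟩ : ↥(P.comp a₀)) z.1 from mem_centralizer_singleton_iff.1 h).map
        (P.comp a₀).subtype).symm
    refine PGroup.mem_of_ordCompl_pow_mem fun q hq _ => mem_centralizer_singleton_iff.2 ?_
    set t := (⟨b, hb⟩ : ↥(P.comp a₀)) ^ _ with ht_def
    have hto : orderOf t = q ^ (orderOf (⟨b, hb⟩ : ↥(P.comp a₀))).factorization q := PGroup.orderOf_ordCompl_pow hq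
    by_cases hqp : q = p
    · subst hqp
      haveI := Sylow.unique_of_normal S inferInstance
      obtain ⟨S', hS'⟩ := (IsPGroup.of_card (G := zpowers t) (by rw [Nat.card_zpowers]; exact hto) :
        IsPGroup q (zpowers t)).exists_le_sylow
      have htS := hS' (mem_zpowers t)
      rw [Subsingleton.elim S' S] at htS
      exact congrArg Subtype.val (mem_center_iff.1 hzc ⟨t, htS⟩)
    · refine (PGroup.commute_of_coprime_orderOf t z.1 ?_).eq
      rw [hto, orderOf_coe, hzo]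
      exact ((Nat.coprime_primes hq hp).2 hqp).pow_left _
  rw [e, mem_bot] at hzU
  have : orderOf z = 1 := orderOf_eq_one_iff.2 (Subtype.ext (Subtype.ext hzU))
  rw [hzo] at this
  exact hp.ne_one this

theorem pow_eq_one_of_no_involution (hnil : Group.IsNilpotent ↥(P.comp a₀)) (hT : P.InT a₀ p)
    (hinv : ∀ t, t ∉ P.comp a₀ → t ^ 2 ≠ 1) :
    ∃ N : Subgroup G, P.comp a₀ ≤ N ∧ ∀ y, y ∉ P.comp a₀ → (y ∈ N ↔ y ^ p = 1) := by
  have hp := hT.1
  haveI := Fact.mk hp
  obtain ⟨N, hN⟩ := (Set.toFinite {N : Subgroup G | N.Normal ∧ P.comp a₀ ≤ N ∧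
    ∀ y ∈ N, y ∉ P.comp a₀ → y ^ p = 1}).exists_maximal ⟨P.comp a₀, hA, le_rfl, fun y hy hy' => absurd hy hy'⟩
  obtain ⟨hNn, hAN, hNp⟩ := hN.prop
  haveI := hNn
  refine ⟨N, hAN, fun y hy => ⟨fun h => hNp y h hy, fun hyp => ?_⟩⟩
  by_contra hyN
  haveI : Group.IsSolvable (G ⧸ N) := by
    refine Cfsg.Agent.S0205.result ?_
    by_contra hev
    rw [Nat.not_odd_iff_even, even_iff_two_dvd] at hev
    haveI : Fact (Nat.Prime 2) := ⟨Nat.prime_two⟩
    obtain ⟨w, hw⟩ := exists_prime_orderOf_dvd_card' 2 hev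
    obtain ⟨g, rfl⟩ := QuotientGroup.mk_surjective w
    have hgN : g ∉ N := fun h => by rw [(QuotientGroup.eq_one_iff g).2 h, orderOf_one] at hw; omega
    have hd : 2 ∣ orderOf g := hw ▸ orderOf_map_dvd (QuotientGroup.mk' N) g
    have ho : orderOf (g ^ (orderOf g / 2)) = 2 := orderOf_pow_orderOf_div (orderOf_pos g).ne' hd
    refine hinv _ (fun h => ?_) (by
      have h2 := pow_orderOf_eq_one (g ^ (orderOf g / 2)); rwa [ho] at h2)
    rw [P.pow_eq_one ha (fun h => hgN (hAN h)) h, orderOf_one] at ho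
    omega
  haveI : Nontrivial (G ⧸ N) := ⟨⟨(y : G ⧸ N), 1, fun e => hyN ((QuotientGroup.eq_one_iff y).1 e)⟩⟩
  obtain ⟨q, hq, Rb, hRn, hR0, hRq⟩ := exists_q_normal (K := G ⧸ N)
  haveI := Fact.mk hq
  haveI := hRn
  obtain ⟨M, hM⟩ : ∃ M, M = Rb.comap (QuotientGroup.mk' N) := ⟨_, rfl⟩
  haveI hMn : M.Normal := by rw [hM]; infer_instance
  have hNM : N ≤ M := fun n hn => by
    rw [hM, mem_comap, QuotientGroup.mk'_apply, (QuotientGroup.eq_one_iff n).2 hn]; exact one_mem _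
  have hMq : ∀ m ∈ M, m ^ q ∈ N := fun m hm => by
    rw [hM, mem_comap] at hm
    have := hRq _ hm
    rwa [← map_pow, QuotientGroup.mk'_apply, QuotientGroup.eq_one_iff] at this
  have hMN : ¬ M ≤ N := by
    intro hle
    obtain ⟨r, hr, hr1⟩ := (bot_or_exists_ne_one Rb).resolve_left hR0
    obtain ⟨m, rfl⟩ := QuotientGroup.mk_surjective r
    exact hr1 ((QuotientGroup.eq_one_iff m).2 (hle (by rw [hM, mem_comap]; exact hr)))
  have hqp : q ≠ p := by
    rintro rfl
    refine hMN (hN.le_of_ge ⟨hMn, hAN.trans hNM, fun m hm hmA => ?_⟩ hNM)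
    by_cases hmq : m ^ q ∈ P.comp a₀
    · exact P.pow_eq_one ha hmA hmq
    refine P.pow_eq_one_of_dvd ha hT hmA ?_
    have h2 : m ^ (q * q) = 1 := by rw [pow_mul]; exact hNp _ (hMq m hm) hmq
    obtain ⟨k, -, hk⟩ := (Nat.dvd_prime_pow hq).1
      (show orderOf m ∣ q ^ 2 by rw [pow_two]; exact orderOf_dvd_of_pow_eq_one h2)
    rw [hk]
    refine dvd_pow_self q fun k0 => hmA ?_
    rw [k0, pow_zero, orderOf_eq_one_iff] at hk
    exact hk ▸ one_mem _
  -- a Sylow `q`-subgroup of `M` and the Frattini argument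
  obtain ⟨QM⟩ : Nonempty (Sylow q M) := inferInstance
  obtain ⟨Q, hQ⟩ : ∃ Q, Q = (QM : Subgroup M).map M.subtype := ⟨_, rfl⟩
  have hfr : normalizer (Q : Set G) ⊔ M = ⊤ := by rw [hQ]; exact Sylow.normalizer_sup_eq_top QM
  have hQM : Q ≤ M := by rw [hQ]; exact map_subtype_le _
  have hMNQ : M ≤ N ⊔ Q := by
    haveI : (N.subgroupOf M).Normal := inferInstance
    have hidx : (N.subgroupOf M ⊔ (QM : Subgroup M)) = ⊤ := by
      rw [← index_eq_one]
      refine Nat.eq_one_of_dvd_coprimes ?_ (index_dvd_of_le le_sup_left) (index_dvd_of_le le_sup_right)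
      have hpg : IsPGroup q (↥M ⧸ N.subgroupOf M) := fun r => by
        obtain ⟨m, rfl⟩ := QuotientGroup.mk_surjective r
        exact ⟨1, by rw [pow_one, ← QuotientGroup.mk_pow, QuotientGroup.eq_one_iff]; exact hMq m m.2⟩
      obtain ⟨e, he⟩ := IsPGroup.iff_card.1 hpg
      rw [index, he]
      exact ((hq.coprime_iff_not_dvd).2 QM.not_dvd_index).pow_left e
    have := congrArg (map M.subtype) hidx
    rw [Subgroup.map_sup, ← MonoidHom.range_eq_map, range_subtype, map_subgroupOf_eq_of_le hNM, ← hQ] at this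
    exact this.ge
  have hall : normalizer (Q : Set G) ⊔ N = ⊤ := top_le_iff.1 (hfr ▸ sup_le le_sup_left
    (hMNQ.trans (sup_le le_sup_right (le_normalizer.trans le_sup_left))))
  obtain ⟨g, hg, n, hn, hgn⟩ := mem_sup_of_normal_right.1 (hall ▸ mem_top y : y ∈ normalizer (Q : Set G) ⊔ N)
  have hgp : g ^ p ∈ N := by
    rw [← QuotientGroup.eq_one_iff, QuotientGroup.mk_pow,
      show (g : G ⧸ N) = (y : G ⧸ N) by rw [← hgn, QuotientGroup.mk_mul, (QuotientGroup.eq_one_iff n).2 hn, mul_one],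
      ← QuotientGroup.mk_pow, hyp, QuotientGroup.mk_one]
  have hgN : g ∉ N := fun h => hyN (hgn ▸ mul_mem h hn)
  -- the `p`-part of `g`
  obtain ⟨e, he⟩ : ∃ e, e = orderOf g / p ^ (orderOf g).factorization p := ⟨_, rfl⟩
  have hge : g ^ e ∉ N := fun h => hgN (by
    have hcop : e.Coprime p := by
      rw [Nat.coprime_comm, hp.coprime_iff_not_dvd, he]
      exact Nat.not_dvd_ordCompl hp (orderOf_pos g).ne'
    have hz : (g : G ⧸ N) ^ e.gcd p = 1 := pow_gcd_eq_one.2 ⟨by rw [← QuotientGroup.mk_pow]; exact (QuotientGroup.eq_one_iff _).2 h,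
      by rw [← QuotientGroup.mk_pow]; exact (QuotientGroup.eq_one_iff _).2 hgp⟩
    rw [hcop.gcd_eq_one, pow_one] at hz
    exact (QuotientGroup.eq_one_iff g).1 hz)
  have heA : g ^ e ∉ P.comp a₀ := fun h => hge (hAN h)
  have hσo : orderOf (g ^ e) = p := by
    refine P.orderOf_eq_of_dvd ha hT heA ?_
    rw [he, PGroup.orderOf_ordCompl_pow hp]
    refine dvd_pow_self p fun k0 => heA ?_
    have := PGroup.orderOf_ordCompl_pow (g := g) hp
    rw [← he, k0, pow_zero, orderOf_eq_one_iff] at this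
    exact this ▸ one_mem _
  have hsQ : g ^ e ∈ normalizer (Q : Set G) := pow_mem hg e
  generalize g ^ e = s at hge heA hσo hsQ
  -- the action on a central subgroup of exponent `p`
  obtain ⟨U, hUn, hU0, hUA, hUp, hUc⟩ := P.exists_central ha hnil hT
  haveI := hUn
  letI : CommGroup ↥U := { (inferInstance : Group ↥U) with
    mul_comm := fun v w => Subtype.ext (hUc v v.2 w (hUA w.2)).eq }
  haveI : Nontrivial ↥U := (nontrivial_iff_ne_bot U).2 hU0
  let φ : G →* MulAut ↥U := MulAut.conjNormal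
  have hφ : ∀ x : G, ∀ v : ↥U, φ x v = v ↔ Commute (v : G) x := fun x v => by
    rw [Subtype.ext_iff, MulAut.conjNormal_apply, mul_inv_eq_iff_eq_mul]
    exact eq_comm
  have hφA : ∀ x ∈ P.comp a₀, φ x = 1 := fun x hx =>
    MulEquiv.ext fun v => (hφ x v).2 (hUc v v.2 x hx)
  have hqel : ∀ x ∈ Q, ∃ k, orderOf x = q ^ k := fun x hx => by
    rw [hQ] at hx
    obtain ⟨x', hx', rfl⟩ := hx
    obtain ⟨k, hk⟩ := IsPGroup.iff_orderOf.1 QM.2 ⟨x', hx'⟩
    exact ⟨k, by rw [← hk, coe_subtype, orderOf_coe, ← orderOf_coe (⟨x', hx'⟩ : (QM : Subgroup M))]⟩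
  have hqA : ∀ x ∈ Q, x ∉ P.comp a₀ → ∀ v : ↥U, φ x v = v → v = 1 := fun x hx hxA v hv => by
    by_contra hv1
    obtain ⟨h1, h2⟩ := P.out_commute ha hxA (hUA v.2) (fun e => hv1 (Subtype.ext e)) ((hφ x v).1 hv)
    obtain ⟨k, hk⟩ := hqel x hx
    rw [orderOf_eq_prime (hUp v v.2) (fun e => hv1 (Subtype.ext e)), hk] at h2
    exact hqp ((Nat.prime_eq_prime_of_dvd_pow (m := k) hp hq (dvd_of_eq h2))).symm
  haveI : Finite (MulAut ↥U) := Finite.of_injective _ DFunLike.coe_injective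
  refine false_of_norm hp (fun v => Subtype.ext (by simpa using hUp v v.2)) (Q.map φ) (φ s)
    (by rw [← map_pow, ← hσo, pow_orderOf_eq_one, map_one]) ?_ ?_ ?_ ?_ ?_ ?_
  · rintro _ ⟨x, hx, rfl⟩
    exact ⟨s * x * s⁻¹, (Subgroup.mem_normalizer_iff.1 hsQ x).1 hx, by simp⟩
  · intro e
    have hQA : ¬ Q ≤ P.comp a₀ := fun hle => hMN (hMNQ.trans (sup_le le_rfl (hle.trans hAN)))
    obtain ⟨x, hx, hxA⟩ := SetLike.not_le_iff_exists.1 hQA
    obtain ⟨v, hv⟩ := exists_ne (1 : ↥U)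
    refine hv (hqA x hx hxA v ?_)
    have : φ x ∈ Q.map φ := ⟨x, hx, rfl⟩
    rw [e, mem_bot] at this
    rw [this, MulAut.one_apply]
  · rintro _ ⟨x, hx, rfl⟩ v hv
    by_cases hxA : x ∈ P.comp a₀
    · exact Or.inl (hφA x hxA)
    · exact Or.inr (hqA x hx hxA v hv)
  · rintro _ ⟨x, hx, rfl⟩ hc
    by_contra hx1
    have hxA : x ∉ P.comp a₀ := fun h => hx1 (hφA x h)
    have hcQ : x * s * x⁻¹ * s⁻¹ ∈ Q := by
      rw [mul_assoc x s, mul_assoc]
      exact mul_mem hx ((Subgroup.mem_normalizer_iff.1 hsQ x⁻¹).1 (inv_mem hx))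
    have hcA : x * s * x⁻¹ * s⁻¹ ∈ P.comp a₀ := by
      by_contra hcA
      obtain ⟨v, hv⟩ := exists_ne (1 : ↥U)
      refine hv (hqA _ hcQ hcA v ?_)
      rw [map_mul, map_mul, map_mul, map_inv, map_inv, hc.eq, mul_inv_cancel_right, mul_inv_cancel,
        MulAut.one_apply]
    let π := QuotientGroup.mk' (P.comp a₀)
    have hπc : Commute (π x) (π s) := by
      have : π (x * s * x⁻¹ * s⁻¹) = 1 := (QuotientGroup.eq_one_iff _).2 hcA
      simp only [map_mul, map_inv] at this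
      rwa [mul_inv_eq_one, mul_inv_eq_iff_eq_mul] at this
    have hπs : orderOf (π s) = p := orderOf_eq_prime (by rw [← map_pow, ← hσo, pow_orderOf_eq_one, map_one])
      (fun e => heA ((QuotientGroup.eq_one_iff s).1 e))
    obtain ⟨k, hk⟩ := hqel x hx
    obtain ⟨j, -, hj⟩ := (Nat.dvd_prime_pow hq).1 (hk ▸ orderOf_map_dvd π x)
    have hd : orderOf (π x) * p ∣ orderOf (x * s) := by
      refine dvd_trans ?_ (orderOf_map_dvd π (x * s))
      rw [map_mul, hπc.orderOf_mul_eq_mul_orderOf_of_coprime, hπs]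
      rw [hj, hπs]
      exact ((Nat.coprime_primes hq hp).2 hqp).pow_left j
    have hout : x * s ∉ P.comp a₀ := fun h => by
      have h' : π (x * s) = 1 := (QuotientGroup.eq_one_iff _).2 h
      have he' : π x = (π s)⁻¹ := mul_eq_one_iff_eq_inv.1 (by rwa [← map_mul])
      have : q ^ j = p := by rw [← hj, he', orderOf_inv, hπs]
      exact hqp ((Nat.prime_eq_prime_of_dvd_pow (m := j) hp hq (dvd_of_eq this.symm))).symm
    rw [P.orderOf_eq_of_dvd ha hT hout (dvd_trans (dvd_mul_left _ _) hd)] at hd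
    have h1 : orderOf (π x) = 1 := Nat.dvd_one.1 (Nat.dvd_of_mul_dvd_mul_right hp.pos (by rwa [one_mul]))
    exact hxA ((QuotientGroup.eq_one_iff x).1 (orderOf_eq_one_iff.1 h1))
  · intro v
    have h := mul_pow_eq_prod (v : G) s (MulAut.conj s) (fun x => rfl) p
    have hvs : ((v : G) * s) ^ p = 1 := by
      have hout : (v : G) * s ∉ P.comp a₀ := fun h => heA (by
        have := mul_mem (inv_mem (hUA v.2)) h
        rwa [inv_mul_cancel_left] at this)
      refine P.pow_eq_one ha hout ?_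
      have := mul_pow_mem (A := P.comp a₀) (hUA v.2) (le_normalizer_of_normal (mem_top s)) p
      rwa [← hσo, pow_orderOf_eq_one, inv_one, mul_one, hσo] at this
    rw [hvs, ← hσo, pow_orderOf_eq_one, mul_one, hσo] at h
    refine Subtype.ext ?_
    show ((List.map (fun i : ℕ => (φ s ^ i) v) (List.range p)).prod : ↥U).1 = 1
    refine (SubmonoidClass.coe_list_prod _).trans ?_
    rw [h, List.map_map]
    refine congrArg List.prod (List.map_congr_left fun i _ => ?_)
    rw [Function.comp_apply, ← map_pow, ← map_pow, MulAut.conj_apply, MulAut.conjNormal_apply]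
  · intro hd
    obtain ⟨x, hx⟩ := exists_prime_orderOf_dvd_card' p hd
    obtain ⟨_, x', hx', rfl⟩ := x
    obtain ⟨k, hk⟩ := hqel x' hx'
    have := orderOf_map_dvd φ x'
    rw [hk] at this
    rw [← orderOf_coe] at hx
    simp only at hx
    rw [hx] at this
    exact hqp (Nat.prime_eq_prime_of_dvd_pow hp hq this).symm

/-- The elements of `A` and those of order `p` outside form a normal subgroup. -/
theorem exists_pSubgroup (hnil : Group.IsNilpotent ↥(P.comp a₀)) (hT : P.InT a₀ p) :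
    ∃ N : Subgroup G, N.Normal ∧ P.comp a₀ ≤ N ∧ ∀ y, y ∉ P.comp a₀ → (y ∈ N ↔ y ^ p = 1) := by
  suffices h : ∃ N : Subgroup G, P.comp a₀ ≤ N ∧ ∀ y, y ∉ P.comp a₀ → (y ∈ N ↔ y ^ p = 1) by
    obtain ⟨N, hAN, hN⟩ := h
    refine ⟨N, ⟨fun n hn g => ?_⟩, hAN, hN⟩
    by_cases hnA : n ∈ P.comp a₀
    · exact hAN (hA.conj_mem n hnA g)
    refine (hN _ fun h => hnA ?_).2 (by rw [conj_pow, (hN n hnA).1 hn, mul_one, mul_inv_cancel])
    simpa [mul_assoc] using hA.conj_mem _ h g⁻¹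
  by_cases hinv : ∃ t, t ∉ P.comp a₀ ∧ t ^ 2 = 1
  · obtain ⟨t, ht, ht2⟩ := hinv
    refine ⟨{ carrier := {g | g ∈ P.comp a₀ ∨ g ^ p = 1}
              one_mem' := Or.inl (one_mem _)
              inv_mem' := ?_
              mul_mem' := ?_ }, fun g hg => Or.inl hg, fun y hy => ⟨fun h => h.resolve_left hy, Or.inr⟩⟩
    · rintro y z hy hz
      by_cases hyz : y * z ∈ P.comp a₀
      · exact Or.inl hyz
      refine Or.inr ?_
      by_cases hyA : y ∈ P.comp a₀
      · have hzA : z ∉ P.comp a₀ := fun h => hyz (mul_mem hyA h)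
        refine P.pow_eq_one ha hyz ?_
        have := mul_pow_mem (A := P.comp a₀) hyA (le_normalizer_of_normal (mem_top z)) p
        rwa [hz.resolve_left hzA, inv_one, mul_one] at this
      by_cases hzA : z ∈ P.comp a₀
      · refine P.pow_eq_one ha hyz ?_
        have := mul_pow_mem (A := P.comp a₀) (hA.conj_mem z hzA y) (le_normalizer_of_normal (mem_top y)) p
        rwa [hy.resolve_left hyA, inv_one, mul_one, inv_mul_cancel_right] at this
      exact P.pow_eq_one_of_involution ha hT ht ht2 hyA (hy.resolve_left hyA) hzA (hz.resolve_left hzA) hyz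
    · rintro y (hy | hy)
      · exact Or.inl (inv_mem hy)
      · exact Or.inr (by rw [inv_pow, hy, inv_one])
  · push Not at hinv
    exact P.pow_eq_one_of_no_involution ha hnil hT hinv

theorem inT_unique (hnil : Group.IsNilpotent ↥(P.comp a₀)) (hT : P.InT a₀ p) {s : ℕ} (hS : P.InT a₀ s) :
    s = p := by
  by_contra hsp
  obtain ⟨N, hN, hAN, hNp⟩ := P.exists_pSubgroup ha hnil hT
  obtain ⟨M, hM, hAM, hMs⟩ := P.exists_pSubgroup ha hnil hS
  obtain ⟨hp, y, a, hy, hyo, hay⟩ := hT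
  obtain ⟨hs, k, -, hk, hko, -⟩ := hS
  have hyN : y ∈ N := (hNp y hy).2 (hyo ▸ pow_orderOf_eq_one y)
  have hkM : k ∈ M := (hMs k hk).2 (hko ▸ pow_orderOf_eq_one k)
  have hc : y * k * y⁻¹ * k⁻¹ ∈ P.comp a₀ := by
    by_contra hcA
    have h1 : (y * k * y⁻¹ * k⁻¹) ^ p = 1 := (hNp _ hcA).1 (by
      rw [show y * k * y⁻¹ * k⁻¹ = y * (k * y⁻¹ * k⁻¹) by group]
      exact mul_mem hyN (hN.conj_mem _ (inv_mem hyN) k))
    have h2 : (y * k * y⁻¹ * k⁻¹) ^ s = 1 := (hMs _ hcA).1 (mul_mem (hM.conj_mem _ hkM y) (inv_mem hkM))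
    have h3 := pow_gcd_eq_one.2 ⟨h1, h2⟩
    rw [((Nat.coprime_primes hp hs).2 (Ne.symm hsp)).gcd_eq_one, pow_one] at h3
    exact hcA (h3 ▸ one_mem _)
  haveI := Fact.mk hp
  haveI := Fact.mk hs
  let π := QuotientGroup.mk' (P.comp a₀)
  have hπc : Commute (π y) (π k) := by
    have : π (y * k * y⁻¹ * k⁻¹) = 1 := (QuotientGroup.eq_one_iff _).2 hc
    simp only [map_mul, map_inv] at this
    rwa [mul_inv_eq_one, mul_inv_eq_iff_eq_mul] at this
  have hπy : orderOf (π y) = p := orderOf_eq_prime (by rw [← map_pow, ← hyo, pow_orderOf_eq_one, map_one])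
    (fun e => hy ((QuotientGroup.eq_one_iff y).1 e))
  have hπk : orderOf (π k) = s := orderOf_eq_prime (by rw [← map_pow, ← hko, pow_orderOf_eq_one, map_one])
    (fun e => hk ((QuotientGroup.eq_one_iff k).1 e))
  have hd : p * s ∣ orderOf (y * k) := by
    refine dvd_trans ?_ (orderOf_map_dvd π (y * k))
    rw [map_mul, hπc.orderOf_mul_eq_mul_orderOf_of_coprime
      (by rw [hπy, hπk]; exact (Nat.coprime_primes hp hs).2 (Ne.symm hsp)), hπy, hπk]
  have hout : y * k ∉ P.comp a₀ := fun h => by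
    have h' : π (y * k) = 1 := (QuotientGroup.eq_one_iff _).2 h
    have he' : π y = (π k)⁻¹ := mul_eq_one_iff_eq_inv.1 (by rwa [← map_mul])
    rw [he', orderOf_inv, hπk] at hπy
    exact hsp hπy
  rw [P.orderOf_eq_of_dvd ha ⟨hp, y, a, hy, hyo, hay⟩ hout (dvd_trans (dvd_mul_right _ _) hd)] at hd
  have := Nat.le_of_dvd hp.pos hd
  nlinarith [hs.two_le, hp.pos]

/-- A normal member gives a proper Hughes subgroup or a Frobenius complement. -/
theorem normal_case (hnil : Group.IsNilpotent ↥(P.comp a₀)) :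
    (∃ p : ℕ, p.Prime ∧ closure {g : G | g ^ p ≠ 1} ≠ ⊤) ∨ ∃ H : Subgroup G, Cfsg.IsFrobeniusComplement H := by
  by_cases hT : ∃ p, P.InT a₀ p
  swap
  · exact Or.inr (frobenius_of_no_commute (P.comp a₀) (P.comp_ne_bot ha) (P.ne_top ha)
      fun k hk n hn hn1 hc => hT ⟨_, P.inT_of_commute ha hk hn hn1 hc⟩)
  obtain ⟨p, hT⟩ := hT
  obtain ⟨N, hN, hAN, hNp⟩ := P.exists_pSubgroup ha hnil hT
  haveI := hN
  by_cases hNt : N = ⊤
  · refine Or.inl ⟨p, hT.1, fun e => P.ne_top ha (top_le_iff.1 (e ▸ (closure_le _).2 fun g hg => ?_))⟩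
    by_contra hgA
    exact hg ((hNp g hgA).1 (hNt ▸ mem_top g))
  refine Or.inr (frobenius_of_no_commute N (fun e => P.comp_ne_bot ha (le_bot_iff.1 (e ▸ hAN))) hNt
    fun k hk n hn hn1 hc => ?_)
  have hkA : k ∉ P.comp a₀ := fun h => hk (hAN h)
  have hkp : orderOf k ≠ p := fun e => hk ((hNp k hkA).2 (e ▸ pow_orderOf_eq_one k))
  by_cases hnA : n ∈ P.comp a₀
  · exact hkp (P.inT_unique ha hnil hT (P.inT_of_commute ha hkA hnA hn1 hc))
  have hnp : orderOf n = p := by
    haveI := Fact.mk hT.1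
    exact orderOf_eq_prime ((hNp n hnA).1 hn) hn1
  have hcop : (orderOf n).Coprime (orderOf k) := by
    rw [hnp, hT.1.coprime_iff_not_dvd]
    exact fun hd => hkp (P.orderOf_eq_of_dvd ha hT hkA hd)
  have hko := hc.orderOf_mul_eq_mul_orderOf_of_coprime hcop
  have hout : n * k ∉ P.comp a₀ := fun h => hk ((mul_mem_cancel_left hn).1 (hAN h))
  have := P.orderOf_eq_of_dvd ha hT hout (by rw [hko, hnp]; exact dvd_mul_right _ _)
  rw [hko, hnp, mul_eq_left₀ hT.1.ne_zero, orderOf_eq_one_iff] at this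
  exact hk (this ▸ one_mem N)

end Cfsg.Lib.Partition.Data
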