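import Cfsg.Agent.Lib.Partition.Invol
import Cfsg.Agent.Lib.Partition.Normal
import Cfsg.Agent.Lib.CIT.Consumers.Inputs
import Cfsg.Agent.Lib.CIT.Consumers.FrobSystem
import Cfsg.Agent.Lib.CIT.CN
import Cfsg.Agent.Lib.CIT.PSLList
import Cfsg.Agent.Lib.GW.Main
import Cfsg.Agent.S0035

/-!
# Simple groups with a partition

They are `PSL₂(q)` or Suzuki groups.
-/

set_option autoImplicit false
set_option linter.style.haveILetI false

namespace Cfsg.Lib.Partition.Data

open Subgroup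
open Cfsg.Lib

universe u

variable {G : Type u} [Group G] [Finite G] [IsSimpleGroup G]

/-- In a simple group all members are nilpotent. -/
theorem nilpotent_of_simple (P : Data G) {a : G} (ha : a ≠ 1) : Group.IsNilpotent ↥(P.comp a) := by
  refine P.isNilpotent_of_ne ha fun h => ?_
  obtain ⟨N, -, hN, hc⟩ := Cfsg.Agent.S0035.result _ (P.isFrobeniusComplement ha h)
  rcases hN.eq_bot_or_eq_top with rfl | rfl
  · exact P.ne_top ha (Subgroup.isComplement'_bot_left.1 hc)
  · exact P.comp_ne_bot ha (Subgroup.isComplement'_top_left.1 hc)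

theorem not_iso_alternating_seven (P : Data G) : IsEmpty (G ≃* alternatingGroup (Fin 7)) := by
  refine ⟨fun e => ?_⟩
  let g : alternatingGroup (Fin 7) :=
    ⟨Equiv.swap 0 1 * Equiv.swap 2 3 * (Equiv.swap 4 5 * Equiv.swap 5 6),
      by rw [Equiv.Perm.mem_alternatingGroup]; decide +kernel⟩
  let h : alternatingGroup (Fin 7) :=
    ⟨Equiv.swap 0 2 * Equiv.swap 2 1 * Equiv.swap 1 3 * Equiv.swap 4 5,
      by rw [Equiv.Perm.mem_alternatingGroup]; decide +kernel⟩
  have hgh : g ^ 3 = h ^ 2 := Subtype.ext (by decide +kernel)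
  have hne : g ^ 3 ≠ 1 := fun e => absurd (congrArg Subtype.val e) (by decide +kernel)
  have hnc : g ^ 2 * h ≠ h * g ^ 2 := fun e => absurd (congrArg Subtype.val e) (by decide +kernel)
  have h6 : g ^ 6 = 1 := Subtype.ext (by decide +kernel)
  have h4 : h ^ 4 = 1 := Subtype.ext (by decide +kernel)
  have ha : e.symm g ^ 3 ≠ 1 := by rw [← map_pow]; exact fun e' => hne (e.symm.map_eq_one_iff.1 e')
  have heq : P.comp (e.symm g) = P.comp (e.symm h) := by
    have e2 : e.symm g ^ 3 = e.symm h ^ 2 := by rw [← map_pow, ← map_pow, hgh]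
    rw [← P.comp_pow ha, e2, P.comp_pow (e2 ▸ ha)]
  have hg1 : e.symm g ≠ 1 := fun e' => ha (by rw [e', one_pow])
  haveI := P.nilpotent_of_simple hg1
  have hc := (PGroup.commute_of_coprime_orderOf
    (⟨e.symm g ^ 2, pow_mem (P.self_mem _) 2⟩ : ↥(P.comp (e.symm g)))
    ⟨e.symm h, heq ▸ P.self_mem _⟩ (by
      rw [orderOf_mk, orderOf_mk]
      refine Nat.Coprime.coprime_dvd_left (orderOf_dvd_of_pow_eq_one (n := 3) ?_)
        (Nat.Coprime.coprime_dvd_right (orderOf_dvd_of_pow_eq_one (n := 4) ?_) (by norm_num))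
      · rw [← pow_mul, ← map_pow, h6, map_one]
      · rw [← map_pow, h4, map_one])).map (P.comp (e.symm g)).subtype
  exact hnc (e.symm.injective (by simpa using hc.eq))

omit [IsSimpleGroup G] in
theorem sylowDihedral_of {S : Sylow 2 G} {n : ℕ} (hn : 2 ≤ n) (e : (S : Subgroup G) ≃* DihedralGroup n) :
    GW.SylowDihedral G := fun T => by
  haveI : Fact (Nat.Prime 2) := ⟨Nat.prime_two⟩
  exact ⟨n, hn, ⟨(T.equiv S).trans e⟩⟩

/-- The case of a centralizer of an involution outside its member. -/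
theorem of_out (P : Data G) (hna : ¬ IsMulCommutative G) (S : Sylow 2 G) {w : G} (hw : orderOf w = 2)
    (hwS : w ∈ (S : Subgroup G)) (hS : ∀ s ∈ (S : Subgroup G), Commute s w) (hO : P.Out w) :
    (∃ (F : Type) (_ : Field F) (_ : Fintype F),
      Nonempty (G ≃* Matrix.ProjectiveSpecialLinearGroup (Fin 2) F)) ∨ Cfsg.Lie.IsoSuzuki G := by
  haveI : Fact (Nat.Prime 2) := ⟨Nat.prime_two⟩
  have hdi : ∀ (T : Sylow 2 G) (v : G), orderOf v = 2 → v ∈ (T : Subgroup G) →
      (∀ s ∈ (T : Subgroup G), Commute s v) → P.Out v → P.Big v →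
      ∃ (F : Type) (_ : Field F) (_ : Fintype F),
        Nonempty (G ≃* Matrix.ProjectiveSpecialLinearGroup (Fin 2) F) := by
    intro T v hv hvT hT hOv hBv
    obtain ⟨n, hn, ⟨e⟩⟩ := P.exists_dihedral hv hna T hvT hT hOv hBv
    rcases GW.simpleGW G hna (sylowDihedral_of hn e) with ⟨F, i, j, -, -, e'⟩ | ⟨⟨e'⟩⟩
    · exact ⟨F, i, j, e'⟩
    · exact ((P.not_iso_alternating_seven).false e').elim
  by_cases hB : P.Big w
  · exact Or.inl (hdi S w hw hwS hS hO hB)
  -- the centralizer is an elementary abelian Sylow 2-subgroup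
  have hCS : ∀ v : G, v ∈ centralizer ({v} : Set G) := fun v => mem_centralizer_singleton_iff.2 rfl
  have hExp : ∀ v : G, orderOf v = 2 → ¬ P.Big v → (S : Subgroup G) ≤ centralizer ({v} : Set G) →
      ∀ x, Commute x v → x ∈ (S : Subgroup G) := by
    intro v hv hBv hSv x hx
    have hp : IsPGroup 2 ↥(centralizer ({v} : Set G)) := fun y => ⟨1, Subtype.ext (by
      simpa [pow_two] using P.mul_self_eq_one_of_not_big hv hBv
        (mem_centralizer_singleton_iff.1 y.2 : Commute (y : G) v))⟩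
    have e : centralizer ({v} : Set G) = S := S.3 hp hSv
    exact e ▸ (mem_centralizer_singleton_iff.2 hx.eq : x ∈ centralizer ({v} : Set G))
  have hSle : (S : Subgroup G) ≤ centralizer ({w} : Set G) := fun s hs => mem_centralizer_singleton_iff.2 (hS s hs).eq
  have hSw := hExp w hw hB hSle
  have hab : ∀ s ∈ (S : Subgroup G), ∀ t ∈ (S : Subgroup G), Commute s t := by
    intro s hs t ht
    have e : ∀ x ∈ (S : Subgroup G), x⁻¹ = x := fun x hx => inv_eq_of_mul_eq_one_right
      (P.mul_self_eq_one_of_not_big hw hB (hS x hx))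
    have := e _ (mul_mem hs ht)
    rw [mul_inv_rev, e s hs, e t ht] at this
    exact this.symm
  by_cases hex : ∃ v ∈ (S : Subgroup G), orderOf v = 2 ∧ P.Out v ∧ P.Big v
  · obtain ⟨v, hvS, hv, hOv, hBv⟩ := hex
    exact Or.inl (hdi S v hv hvS (fun s hs => hab s hs v hvS) hOv hBv)
  push Not at hex
  have hcent : ∀ v ∈ (S : Subgroup G), orderOf v = 2 → ∀ x, Commute x v → x ∈ (S : Subgroup G) := by
    intro v hvS hv
    have hv1 := Invol.ne_one hv
    by_cases hOv : P.Out v
    · exact hExp v hv (hex v hvS hv hOv) fun s hs => mem_centralizer_singleton_iff.2 (hab s hs v hvS).eq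
    simp only [Out, not_exists, not_and, not_not] at hOv
    intro x hx
    refine PGroup.mem_of_ordCompl_pow_mem fun q hq hqd => ?_
    have hto := PGroup.orderOf_ordCompl_pow (g := x) hq
    set t := x ^ (orderOf x / q ^ (orderOf x).factorization q) with htdef
    have htv : Commute t v := hx.pow_left _
    haveI := P.nilpotent_of_simple hv1
    by_cases hq2 : q = 2
    · subst hq2
      have hwv : Commute w v := (hS v hvS).symm
      by_cases hts : t ∈ (S : Subgroup G)
      · exact hts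
      exfalso
      refine hts (Local.SylowFix.mem_of_normalizes S le_rfl ⟨_, hto⟩ ?_)
      have hSA : (S : Subgroup G) ≤ P.comp v := fun s hs => hOv s (hab s hs v hvS)
      have htA : t ∈ P.comp v := hOv t htv
      -- `S` is normal in the nilpotent member
      haveI hN : (S.subtype hSA : Subgroup ↥(P.comp v)).Normal :=
        ((Group.isNilpotent_of_finite_tfae (G := ↥(P.comp v))).out 0 3 rfl rfl).mp
          (P.nilpotent_of_simple hv1) 2 inferInstance _
      exact Subgroup.mem_normalizer_iff.2 fun s => ⟨fun hs => hN.conj_mem ⟨s, hSA hs⟩ hs ⟨t, htA⟩,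
        fun hs => by
          have h1 : t⁻¹ * (t * s * t⁻¹) * t⁻¹⁻¹ ∈ (S : Subgroup G) :=
            hN.conj_mem ⟨t * s * t⁻¹, hSA hs⟩ hs ⟨t⁻¹, inv_mem htA⟩
          simpa [mul_assoc] using h1⟩
    · exfalso
      have hq1 : t ≠ 1 := fun e => by
        rw [e, orderOf_one] at hto
        have := Nat.Prime.factorization_pos_of_dvd hq (orderOf_pos x).ne' hqd
        exact absurd hto (Nat.one_lt_pow this.ne' hq.one_lt).ne
      have htw : Commute t w := (PGroup.commute_of_coprime_orderOf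
        (⟨t, hOv t htv⟩ : ↥(P.comp v)) ⟨w, hOv w (hS v hvS).symm⟩ (by
          rw [orderOf_mk, orderOf_mk, hto, hw]
          exact ((Nat.coprime_primes hq Nat.prime_two).2 hq2).pow_left _)).map (P.comp v).subtype
      have h2 := orderOf_dvd_natCard _ (hSw t htw)
      rw [hto] at h2
      obtain ⟨c, hc⟩ := IsPGroup.iff_card.1 S.2
      rw [hc] at h2
      have h3 : q ∣ 2 ^ c := (dvd_pow_self q (Nat.Prime.factorization_pos_of_dvd hq (orderOf_pos x).ne' hqd).ne').trans h2
      exact hq2 ((Nat.prime_dvd_prime_iff_eq hq Nat.prime_two).1 (hq.dvd_of_dvd_pow h3))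
  -- transfer to all Sylow subgroups
  have hall : ∀ (T : Sylow 2 G), ∀ v ∈ (T : Subgroup G), orderOf v = 2 → ∀ x, Commute x v →
      x ∈ (T : Subgroup G) := by
    intro T v hv hv2 x hx
    obtain ⟨g, rfl⟩ := MulAction.exists_smul_eq G S T
    rw [Sylow.coe_subgroup_smul, mem_pointwise_smul_iff_inv_smul_mem] at hv ⊢
    simp only [MulAut.smul_def, MulAut.inv_def, MulAut.conj_symm_apply] at hv ⊢
    refine hcent _ hv (by simpa using (Invol.orderOf_conj_eq g⁻¹ v).trans hv2) _ ?_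
    simpa using hx.map (MulAut.conj g⁻¹).toMonoidHom
  have hCIT : CIT.IsCIT G := by
    intro t ht
    obtain ⟨T, hT⟩ := (IsPGroup.of_card (n := 1) (by rw [Nat.card_zpowers, ht, pow_one]) :
      IsPGroup 2 (zpowers t)).exists_le_sylow
    exact T.2.to_le fun x hx => hall T t (hT (mem_zpowers t)) ht x (mem_centralizer_singleton_iff.1 hx)
  have hTI : CIT.SylowTI G := by
    intro T T' hne
    by_contra hi
    obtain ⟨x, ⟨hxT, hxT'⟩, hx1⟩ := (bot_or_exists_ne_one _).resolve_left hi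
    obtain ⟨k, hk⟩ := IsPGroup.iff_orderOf.1 T.2 ⟨x, hxT⟩
    have hx2 : 2 ∣ orderOf x := by
      rw [← orderOf_mk x hxT, hk]
      refine dvd_pow_self 2 fun k0 => hx1 ?_
      rw [k0, pow_zero, orderOf_eq_one_iff] at hk
      exact congrArg Subtype.val hk
    have hv : orderOf (x ^ (orderOf x / 2)) = 2 := orderOf_pow_orderOf_div (orderOf_pos x).ne' hx2
    have hab' : ∀ (R : Sylow 2 G), ∀ s ∈ (R : Subgroup G), ∀ t ∈ (R : Subgroup G), Commute s t := by
      intro R s hs t ht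
      obtain ⟨g, rfl⟩ := MulAction.exists_smul_eq G S R
      rw [Sylow.coe_subgroup_smul, mem_pointwise_smul_iff_inv_smul_mem] at hs ht
      simp only [MulAut.smul_def, MulAut.inv_def, MulAut.conj_symm_apply] at hs ht
      have := (hab _ hs _ ht).map (MulAut.conj g).toMonoidHom
      simpa [mul_assoc] using this
    refine hne (Sylow.ext (T'.3 T.2 fun s hs => ?_))
    exact hall T _ (pow_mem hxT _) hv s (hab' T' s hs _ (pow_mem hxT' _))
  exact (CIT.of_sylowTI CIT.tiHolds hna hCIT hTI).imp id (CIT.suzukiIso G hna hCIT)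

omit [IsSimpleGroup G] in
/-- A `p`-element normalising a subgroup of order divisible by `p` centralises an element of order `p` of it. -/
theorem exists_fixed_of_normal {K : Type u} [Group K] [Finite K] (N : Subgroup K) [N.Normal] {p : ℕ}
    [Fact p.Prime] (hp : p ∣ Nat.card N) {j : K} (hj : orderOf j = p) :
    ∃ a ∈ N, orderOf a = p ∧ Commute a j := by
  obtain ⟨a, hao⟩ := exists_prime_orderOf_dvd_card' p hp
  obtain ⟨Q, hQ⟩ := (IsPGroup.of_card (n := 1) (by rw [Nat.card_zpowers, hj, pow_one]) :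
    IsPGroup p (zpowers j)).exists_le_sylow
  obtain ⟨R, hR⟩ := (IsPGroup.of_card (n := 1) (by rw [Nat.card_zpowers, orderOf_coe, hao, pow_one]) :
    IsPGroup p (zpowers (a : K))).exists_le_sylow
  obtain ⟨g, hg⟩ := MulAction.exists_smul_eq K R Q
  have haQ : g * (a : K) * g⁻¹ ∈ (Q : Subgroup K) := by
    rw [← hg, Sylow.coe_subgroup_smul, mem_pointwise_smul_iff_inv_smul_mem]
    simpa [mul_assoc] using hR (mem_zpowers (a : K))
  have hne : N.subgroupOf (Q : Subgroup K) ≠ ⊥ := fun e => by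
    have h' : (⟨_, haQ⟩ : (Q : Subgroup K)) ∈ N.subgroupOf (Q : Subgroup K) := ‹N.Normal›.conj_mem _ a.2 g
    rw [e, mem_bot] at h'
    have h1 : (a : K) = 1 := conj_eq_one_iff.1 (congrArg Subtype.val h')
    rw [← orderOf_coe, h1, orderOf_one] at hao
    exact (Fact.out : p.Prime).ne_one hao.symm
  obtain ⟨z, hzN, hzc, hzo⟩ := PGroup.exists_mem_center_orderOf_eq Q.2 hne
  exact ⟨z, hzN, by rw [orderOf_coe, hzo],
    (congrArg Subtype.val (mem_center_iff.1 hzc ⟨j, hQ (mem_zpowers j)⟩) : j * (z : K) = z * j).symm⟩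

/-- The case where the centralizers of central involutions lie in their members. -/
theorem of_in (P : Data G) (hna : ¬ IsMulCommutative G)
    (hin : ∀ (T : Sylow 2 G) (v : G), orderOf v = 2 → v ∈ (T : Subgroup G) →
      (∀ s ∈ (T : Subgroup G), Commute s v) → ¬ P.Out v)
    (S : Sylow 2 G) {v : G} (hv : orderOf v = 2) (hvS : v ∈ (S : Subgroup G))
    (hS : ∀ s ∈ (S : Subgroup G), Commute s v) :
    (∃ (F : Type) (_ : Field F) (_ : Fintype F),
      Nonempty (G ≃* Matrix.ProjectiveSpecialLinearGroup (Fin 2) F)) ∨ Cfsg.Lie.IsoSuzuki G := by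
  haveI : Fact (Nat.Prime 2) := ⟨Nat.prime_two⟩
  have hv1 := Invol.ne_one hv
  obtain ⟨A, hA⟩ : ∃ A, A = P.comp v := ⟨_, rfl⟩
  have hCv : ∀ x, Commute x v → x ∈ A := by
    intro x hx
    by_contra h
    exact hin S v hv hvS hS ⟨x, hx, hA ▸ h⟩
  have hSA : (S : Subgroup G) ≤ A := fun s hs => hCv s (hS s hs)
  haveI hnil : Group.IsNilpotent ↥A := hA ▸ P.nilpotent_of_simple hv1
  have hmemA : ∀ {x : G}, x ∈ A → x ≠ 1 → P.comp x = A := fun hx hx1 => by
    subst hA; exact P.eq_of_mem hv1 hx1 hx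
  haveI hSn : (S.subtype hSA : Subgroup ↥A).Normal :=
    ((Group.isNilpotent_of_finite_tfae (G := ↥A)).out 0 3 rfl rfl).mp hnil 2 inferInstance _
  -- two-elements of `A` lie in `S`, those of the normalizer in `A`
  have hAS : ∀ x ∈ A, Local.SylowFix.IsPel 2 x → x ∈ (S : Subgroup G) := fun x hx hx2 =>
    Local.SylowFix.mem_of_normalizes S le_rfl hx2 (Subgroup.mem_normalizer_iff.2 fun s =>
      ⟨fun hs => hSn.conj_mem ⟨s, hSA hs⟩ hs ⟨x, hx⟩, fun hs => by
        have h1 : x⁻¹ * (x * s * x⁻¹) * x⁻¹⁻¹ ∈ (S : Subgroup G) :=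
          hSn.conj_mem ⟨x * s * x⁻¹, hSA hs⟩ hs ⟨x⁻¹, inv_mem hx⟩
        simpa [mul_assoc] using h1⟩)
  have hNA : ∀ x ∈ normalizer (A : Set G), Local.SylowFix.IsPel 2 x → x ∈ A := fun x hx hx2 =>
    Local.SylowFix.mem_of_normalizes S hSA hx2 hx
  have hinv : ∀ {x : G}, orderOf x = 2 → Local.SylowFix.IsPel 2 x := fun hx => ⟨1, by rw [pow_one]; exact hx⟩
  have hCw : ∀ u ∈ A, orderOf u = 2 → ∀ x, Commute x u → x ∈ A := by
    intro u hu hu2 x hx
    by_contra h
    have hu1 := Invol.ne_one hu2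
    have hcomp := hmemA hu hu1
    have hx1 : x ≠ 1 := fun e => h (e ▸ one_mem _)
    have ho := (P.commute_orderOf hx1 hu1 hx (fun e => h (by rw [← hcomp, ← e]; exact P.self_mem x))).2
    rw [hu2] at ho
    exact h (hNA x (hcomp ▸ P.commute_mem_normalizer hu1 hx) (hinv ho.symm))
  have hti : ∀ g : G, g ∉ normalizer (A : Set G) → A ⊓ A.map (MulAut.conj g).toMonoidHom = ⊥ := by
    subst hA
    exact fun g hg => P.inf_conj_eq_bot hv1 hg
  by_cases hodd : ∀ a ∈ A, a ∈ (S : Subgroup G)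
  · -- CIT with TI Sylow subgroups
    have hAeq : A = S := le_antisymm hodd hSA
    have hCIT : CIT.IsCIT G := by
      intro t ht
      obtain ⟨T, hT⟩ := (IsPGroup.of_card (n := 1) (by rw [Nat.card_zpowers, ht, pow_one]) :
        IsPGroup 2 (zpowers t)).exists_le_sylow
      obtain ⟨g, rfl⟩ := MulAction.exists_smul_eq G S T
      have htT := hT (mem_zpowers t)
      rw [Sylow.coe_subgroup_smul, mem_pointwise_smul_iff_inv_smul_mem] at htT
      simp only [MulAut.smul_def, MulAut.inv_def, MulAut.conj_symm_apply] at htT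
      refine (g • S).2.to_le fun x hx => ?_
      rw [Sylow.coe_subgroup_smul, mem_pointwise_smul_iff_inv_smul_mem]
      simp only [MulAut.smul_def, MulAut.inv_def, MulAut.conj_symm_apply]
      refine hodd _ (hCw _ (hSA htT) (by simpa using (Invol.orderOf_conj_eq g⁻¹ t).trans ht) _ ?_)
      simpa using (show Commute x t from mem_centralizer_singleton_iff.1 hx).map (MulAut.conj g⁻¹).toMonoidHom
    have hTI : CIT.SylowTI G := by
      have key : ∀ g : G, g • S ≠ S → (S : Subgroup G) ⊓ ((g • S : Sylow 2 G) : Subgroup G) = ⊥ := by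
        intro g hg
        rw [Sylow.coe_subgroup_smul, ← hAeq]
        refine hti g fun hn => hg (Sylow.smul_eq_iff_mem_normalizer.2 ?_)
        rwa [hAeq] at hn
      intro T T' hne
      obtain ⟨g, rfl⟩ := MulAction.exists_smul_eq G S T
      obtain ⟨k, rfl⟩ := MulAction.exists_smul_eq G S T'
      have h1 := key (g⁻¹ * k) fun e => hne (by
        have := congrArg (g • ·) e
        simpa [← mul_smul] using this.symm)
      refine (bot_or_exists_ne_one _).resolve_right ?_
      rintro ⟨x, ⟨(hx1' : x ∈ ((g • S : Sylow 2 G) : Subgroup G)),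
        (hx2' : x ∈ ((k • S : Sylow 2 G) : Subgroup G))⟩, hx⟩
      have h2 : g⁻¹ * x * g ∈ (S : Subgroup G) ⊓ (((g⁻¹ * k) • S : Sylow 2 G) : Subgroup G) := by
        rw [Sylow.coe_subgroup_smul, mem_pointwise_smul_iff_inv_smul_mem] at hx1' hx2'
        rw [Sylow.coe_subgroup_smul, Subgroup.mem_inf, mem_pointwise_smul_iff_inv_smul_mem]
        simp only [MulAut.smul_def, MulAut.inv_def, MulAut.conj_symm_apply] at hx1' hx2' ⊢
        exact ⟨hx1', by simpa [mul_assoc] using hx2'⟩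
      rw [h1, mem_bot] at h2
      exact hx (conj_eq_one_iff.1 (by rwa [inv_inv] at *  : g⁻¹ * x * g⁻¹⁻¹ = 1))
    exact (CIT.of_sylowTI CIT.tiHolds hna hCIT hTI).imp id (CIT.suzukiIso G hna hCIT)
  -- otherwise a Zassenhaus group of impossible degree
  exfalso
  push Not at hodd
  obtain ⟨a₀, ha₀A, ha₀S⟩ := hodd
  have hAn : normalizer (A : Set G) ≠ ⊤ := fun e => by
    rcases (normalizer_eq_top_iff.1 e).eq_bot_or_eq_top with e' | e'
    · exact hv1 (mem_bot.1 (e' ▸ (hA ▸ P.self_mem v : v ∈ A)))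
    · exact P.ne_top hv1 (hA ▸ e')
  have hmemN : ∀ {a g : G}, a ∈ A → a ≠ 1 → g * a * g⁻¹ ∈ A → g ∈ normalizer (A : Set G) := fun {a g} ha ha1 hg => by
    rw [← hmemA ha ha1] at hg ⊢
    exact (P.mem_normalizer_iff ha1).2 hg
  have hvA : v ∈ A := hA ▸ P.self_mem v
  obtain ⟨t, ht, htN⟩ : ∃ t, orderOf t = 2 ∧ t ∉ normalizer (A : Set G) := by
    by_contra hc
    push Not at hc
    refine hAn (eq_top_iff.2 fun g _ => hmemN hvA hv1 ?_)
    have h2 : orderOf (g * v * g⁻¹) = 2 := by rw [Invol.orderOf_conj_eq, hv]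
    exact hNA _ (hc _ h2) (hinv h2)
  -- all involutions are conjugate
  have hconjA : ∀ a ∈ A, orderOf a = 2 → ∀ s, orderOf s = 2 → s ∉ normalizer (A : Set G) → IsConj a s := by
    intro a ha ha2 s hs2 hs
    refine Invol.isConj_of_odd ha2 hs2 (Nat.not_even_iff_odd.1 fun he => ?_)
    obtain ⟨hc2, hca, hcs⟩ := Invol.central_involution ha2 hs2 he
    exact hs (le_normalizer (hCw _ (hCw a ha ha2 _ hca) hc2 s hcs.symm))
  have hcentral : ∀ a ∈ A, orderOf a = 2 → ∀ h ∈ A, Commute h a := by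
    intro a ha ha2 h hh
    obtain ⟨g, hg⟩ := isConj_iff.1 ((hconjA v hvA hv t ht htN).trans (hconjA a ha ha2 t ht htN).symm)
    have hgN := hmemN hvA hv1 (hg ▸ ha : g * v * g⁻¹ ∈ A)
    have hh' : g⁻¹ * h * g ∈ A := (Subgroup.mem_normalizer_iff''.1 hgN h).1 hh
    have hvc : Commute (g⁻¹ * h * g) v := by
      refine mem_centralizer_singleton_iff.1 (PGroup.mem_of_ordCompl_pow_mem
        (H := centralizer ({v} : Set G)) fun q hq _ => mem_centralizer_singleton_iff.2 ?_)
      have hto := PGroup.orderOf_ordCompl_pow (g := g⁻¹ * h * g) hq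
      set x := (g⁻¹ * h * g) ^ (orderOf (g⁻¹ * h * g) / q ^ (orderOf (g⁻¹ * h * g)).factorization q)
      have hxA : x ∈ A := pow_mem hh' _
      by_cases hq2 : q = 2
      · exact (hS x (hAS x hxA ⟨_, hq2 ▸ hto⟩)).eq
      · refine ((PGroup.commute_of_coprime_orderOf (⟨x, hxA⟩ : ↥A) ⟨v, hvA⟩ ?_).map A.subtype).eq
        rw [orderOf_mk, orderOf_mk, hto, hv]
        exact ((Nat.coprime_primes hq Nat.prime_two).2 hq2).pow_left _
    have := hvc.map (MulAut.conj g).toMonoidHom
    simpa [hg, mul_assoc] using this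
  -- the member of `t`
  obtain ⟨g₀, hg₀⟩ := isConj_iff.1 (hconjA v hvA hv t ht htN)
  have ht1 := Invol.ne_one ht
  have htA' : P.comp t = A.map (MulAut.conj g₀).toMonoidHom := by rw [← hg₀, hA, P.map_conj]
  have hCt : ∀ x, Commute x t → x ∈ P.comp t := fun x hx => by
    rw [← hg₀, P.mem_conj, ← hA]
    refine hCv _ ?_
    have := hx.map (MulAut.conj g₀⁻¹).toMonoidHom
    simpa [← hg₀, mul_assoc] using this
  have htcent : ∀ x ∈ P.comp t, Commute x t := fun x hx => by
    rw [← hg₀, P.mem_conj, ← hA] at hx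
    have := (hcentral v hvA hv _ hx).map (MulAut.conj g₀).toMonoidHom
    simpa [← hg₀, mul_assoc] using this
  have hA't : ∀ y ∈ A, y ∈ P.comp t → y = 1 := fun y hy hy' => by
    by_contra hy1
    refine htN (le_normalizer ?_)
    rw [← hmemA hy hy1, P.eq_of_mem ht1 hy1 hy']
    exact P.self_mem t
  have hJ : ∀ x ∈ normalizer (A : Set G), ∃ j, x⁻¹ * j ∈ A ∧ t * j * t⁻¹ = j⁻¹ := by
    intro x hx
    obtain ⟨c, hc⟩ : ∃ c, c = t * (x * v * x⁻¹) * t⁻¹ := ⟨_, rfl⟩
    have hb2 : orderOf (x * v * x⁻¹) = 2 := by rw [Invol.orderOf_conj_eq, hv]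
    have hbA : x * v * x⁻¹ ∈ A := (Subgroup.mem_normalizer_iff.1 hx v).1 hvA
    have hc2 : orderOf c = 2 := by rw [hc, Invol.orderOf_conj_eq, hb2]
    have hcA : c ∉ A := fun h => htN (hmemN hbA (Invol.ne_one hb2) (hc ▸ h))
    obtain ⟨m, hm⟩ : Odd (orderOf (v * c)) := Nat.not_even_iff_odd.1 fun he => by
      obtain ⟨hd2, hdv, hdc⟩ := Invol.central_involution hv hc2 he
      exact hcA (hCw _ (hCv _ hdv) hd2 c hdc.symm)
    obtain ⟨r, hr⟩ : ∃ r, r = v * c := ⟨_, rfl⟩
    rw [← hr] at hm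
    have hvr : v * r * v⁻¹ = r⁻¹ := by rw [hr]; exact Invol.conj_mul_left hv hc2
    obtain ⟨w, hw⟩ : ∃ w, w = r ^ (m : ℤ) * v := ⟨_, rfl⟩
    have hww : w * w = 1 := by
      rw [hw, show r ^ (m : ℤ) * v * (r ^ (m : ℤ) * v) = r ^ (m : ℤ) * (v * r ^ (m : ℤ) * v⁻¹) * (v * v) by group,
        Invol.conj_zpow_of_inverts hvr, Invol.inv_mul_self hv, mul_one, ← zpow_add, add_neg_cancel, zpow_zero]
    have hwv : w * v * w⁻¹ = c := by
      rw [show w⁻¹ = w from inv_eq_of_mul_eq_one_right hww, hw]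
      calc r ^ (m : ℤ) * v * v * (r ^ (m : ℤ) * v) = r ^ (m : ℤ) * (v * v) * r ^ (m : ℤ) * v := by group
        _ = r ^ ((orderOf r : ℤ) + (-1)) * v := by
            rw [Invol.inv_mul_self hv, mul_one, ← zpow_add, hm]; push_cast; ring_nf
        _ = r⁻¹ * v := by rw [zpow_add, zpow_natCast, pow_orderOf_eq_one, one_mul, zpow_neg_one]
        _ = c := by
            rw [hr, mul_inv_rev, inv_mul_cancel_right, Invol.inv_eq_self hc2]
    refine ⟨t * w, ?_, ?_⟩
    · refine hCv _ ?_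
      have h1 : t * w * v * (t * w)⁻¹ = x * v * x⁻¹ := by
        rw [show t * w * v * (t * w)⁻¹ = t * (w * v * w⁻¹) * t⁻¹ by group, hwv, hc,
          show t * (t * (x * v * x⁻¹) * t⁻¹) * t⁻¹ = (t * t) * (x * v * x⁻¹) * (t * t)⁻¹ by group,
          Invol.inv_mul_self ht]
        group
      show x⁻¹ * (t * w) * v = v * (x⁻¹ * (t * w))
      rw [mul_inv_eq_iff_eq_mul] at h1
      rw [mul_assoc x⁻¹ (t * w) v, h1]
      group
    · rw [mul_inv_rev, inv_eq_of_mul_eq_one_right hww, show t * (t * w) * t⁻¹ = t * t * w * t⁻¹ by group,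
        Invol.inv_mul_self ht, one_mul]
  have hcent : ∀ a ∈ A, a ≠ 1 → centralizer ({a} : Set G) ≤ A := by
    intro a ha ha1 x hx
    by_contra hxA
    have hxa : Commute x a := mem_centralizer_singleton_iff.1 hx
    have hx1 : x ≠ 1 := fun e => hxA (e ▸ one_mem _)
    have hxN : x ∈ normalizer (A : Set G) := hmemA ha ha1 ▸ P.commute_mem_normalizer ha1 hxa
    obtain ⟨hp, hpa⟩ := P.commute_orderOf hx1 ha1 hxa (fun e => hxA (by rw [← hmemA ha ha1, ← e]; exact P.self_mem x))
    obtain ⟨p, hpx⟩ : ∃ p, p = orderOf x := ⟨_, rfl⟩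
    rw [← hpx] at hp hpa
    haveI := Fact.mk hp
    have hp2 : p ≠ 2 := fun e => hxA (hNA x hxN (hinv (hpx.symm.trans e)))
    obtain ⟨j, hjx, hjt⟩ := hJ x hxN
    have hjN : j ∈ normalizer (A : Set G) := by
      have := mul_mem hxN (le_normalizer hjx)
      rwa [mul_inv_cancel_left] at this
    have hjA : j ∉ A := fun h => hxA (by
      have := mul_mem h (inv_mem hjx)
      simpa [mul_assoc] using this)
    have hjp : j ^ p ∈ A := by
      have := mul_pow_mem (A := A) ((Subgroup.mem_normalizer_iff.1 hxN _).1 hjx) hxN p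
      rwa [show x * (x⁻¹ * j) * x⁻¹ * x = j by group, hpx, pow_orderOf_eq_one, inv_one, mul_one, ← hpx] at this
    have hj1 : j ≠ 1 := fun e => hjA (e ▸ one_mem _)
    have hjo : orderOf j = p := orderOf_eq_prime (by
      rw [hA] at hjA hjp
      exact P.pow_eq_one hv1 hjA hjp) hj1
    obtain ⟨a₁, ha₁, ha₁o, ha₁c⟩ := exists_fixed_of_normal (K := ↥(normalizer (A : Set G)))
      (A.subgroupOf (normalizer (A : Set G))) (p := p) (by
        rw [Nat.card_congr (subgroupOfEquivOfLe le_normalizer).toEquiv, ← hpa]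
        exact orderOf_dvd_natCard _ ha) (j := ⟨j, hjN⟩) (by rw [orderOf_mk, hjo])
    replace ha₁c : Commute (a₁ : G) j := congrArg Subtype.val ha₁c.eq
    have hfix : ∀ d, Commute d j → Commute d t → d = 1 := by
      intro d hdj hdt
      by_contra hd1
      have hdA' := hCt d hdt
      have hd : P.comp d = P.comp t := P.eq_of_mem ht1 hd1 hdA'
      have hjn : j ∈ normalizer (P.comp t : Set G) := hd ▸ P.commute_mem_normalizer hd1 hdj.symm
      have h1 : j⁻¹ * t * j ∈ P.comp t := (Subgroup.mem_normalizer_iff''.1 hjn t).1 (P.self_mem t)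
      have h2 : j⁻¹ * t * j = t * j ^ 2 := by
        rw [← hjt, pow_two, Invol.inv_eq_self ht, mul_assoc (t * j), Invol.inv_mul_self ht, mul_one]
        group
      rw [h2] at h1
      have h3 : j ^ 2 ∈ P.comp t := by
        have := mul_mem (inv_mem (P.self_mem t)) h1
        rwa [inv_mul_cancel_left] at this
      obtain ⟨k, hk⟩ := exists_pow_eq_self_of_coprime (x := j) (n := 2)
        (by rw [hjo]; exact (Nat.coprime_primes Nat.prime_two hp).2 (Ne.symm hp2))
      have hjT : j ∈ P.comp t := hk ▸ pow_mem h3 k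
      rw [← (htcent j hjT).eq, mul_inv_cancel_right, eq_inv_iff_mul_eq_one, ← pow_two] at hjt
      have h5 := orderOf_dvd_of_pow_eq_one hjt
      rw [hjo] at h5
      exact hp2 ((Nat.prime_dvd_prime_iff_eq hp Nat.prime_two).1 h5)
    -- `t` inverts `C(j)`
    have htC : ∀ c ∈ centralizer ({j} : Set G), t * c * t⁻¹ ∈ centralizer ({j} : Set G) := by
      intro c hc
      rw [mem_centralizer_singleton_iff] at hc ⊢
      have h1 : Commute (t * c * t⁻¹) (t * j * t⁻¹) := (show Commute c j from hc).map (MulAut.conj t).toMonoidHom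
      rw [hjt] at h1
      simpa using h1.inv_right.eq
    let f : ↥(centralizer ({j} : Set G)) → ↥(centralizer ({j} : Set G)) := fun c =>
      ⟨(c : G)⁻¹ * (t * c * t⁻¹), mul_mem (inv_mem c.2) (htC c c.2)⟩
    have hf : Function.Injective f := by
      intro c d h
      have h' : (c : G)⁻¹ * (t * c * t⁻¹) = (d : G)⁻¹ * (t * d * t⁻¹) := congrArg Subtype.val h
      have h2 : Commute ((d : G) * (c : G)⁻¹) t := by
        show (d : G) * (c : G)⁻¹ * t = t * ((d : G) * (c : G)⁻¹)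
        calc (d : G) * (c : G)⁻¹ * t = (d : G) * ((c : G)⁻¹ * (t * c * t⁻¹)) * (t * (c : G)⁻¹) := by group
          _ = (d : G) * ((d : G)⁻¹ * (t * d * t⁻¹)) * (t * (c : G)⁻¹) := by rw [h']
          _ = t * ((d : G) * (c : G)⁻¹) := by group
      have h3 := hfix _ (mem_centralizer_singleton_iff.1 (mul_mem d.2 (inv_mem c.2))) h2
      exact Subtype.ext (mul_inv_eq_one.1 h3).symm
    obtain ⟨c, hc⟩ := (Finite.injective_iff_surjective.1 hf) ⟨a₁, mem_centralizer_singleton_iff.2 ha₁c.eq⟩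
    have hta : t * (a₁ : G) * t⁻¹ = (a₁ : G)⁻¹ := by
      have hc' : (c : G)⁻¹ * (t * c * t⁻¹) = a₁ := congrArg Subtype.val hc
      rw [← hc', show t * ((c : G)⁻¹ * (t * c * t⁻¹)) * t⁻¹ = t * (c : G)⁻¹ * t⁻¹ * ((t * t) * c * (t * t)⁻¹) by group,
        Invol.inv_mul_self ht, one_mul, inv_one, mul_one]
      group
    refine htN (hmemN (mem_subgroupOf.1 ha₁) (fun e => hp.ne_one ?_) (hta ▸ inv_mem (mem_subgroupOf.1 ha₁)))
    rw [← ha₁o, ← orderOf_coe, e, orderOf_one]
  have hD : CIT.TIData A := by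
    refine ⟨hAn, CIT.Consumers.coprime_index_of_cent hcent, hti, hcent,
      ⟨v, hvA, hv, fun h hh => (hcentral v hvA hv h hh).eq⟩, ?_⟩
    by_contra h2
    push Not at h2
    have hcenter : v ∈ center G := ZStar.mem_center_of_isolated (CIT.oddCore_eq_bot hna)
      (ZStar.isolated_of_unique_involution S hv fun x hx hx2 => h2 x (hSA hx) v hvA hx2 hv)
    rcases (inferInstance : (center G).Normal).eq_bot_or_eq_top with e | e
    · exact hv1 (mem_bot.1 (e ▸ hcenter))
    · exact hna ⟨⟨fun a b => (mem_center_iff.1 (e ▸ mem_top a : a ∈ center G) b).symm⟩⟩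
  obtain ⟨E, s, hE⟩ := CIT.exists_tiShape hD
  haveI := Fintype.ofFinite (G ⧸ normalizer (A : Set G))
  have hpp := Cfsg.Agent.S0346.result (CIT.isZassenhausGroup hD)
  rw [← Nat.card_eq_fintype_card, ← index, hE.index_eq, Nat.add_sub_cancel] at hpp
  obtain ⟨r, -, huniq⟩ := (isPrimePow_iff_unique_prime_dvd).1 hpp
  refine ha₀S (PGroup.mem_of_ordCompl_pow_mem fun q hq hqd => ?_)
  have h2 : q = 2 := (huniq q ⟨hq, hqd.trans (orderOf_dvd_natCard A ha₀A)⟩).trans
    (huniq 2 ⟨Nat.prime_two, hD.two_dvd⟩).symm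
  subst h2
  exact hAS _ (pow_mem ha₀A _) ⟨_, PGroup.orderOf_ordCompl_pow hq⟩

/-- Simple groups with a partition. -/
theorem simple_case (P : Data G) (hna : ¬ IsMulCommutative G) :
    (∃ (F : Type) (_ : Field F) (_ : Fintype F), 4 ≤ Fintype.card F ∧
      Nonempty (G ≃* Matrix.ProjectiveSpecialLinearGroup (Fin 2) F)) ∨ Cfsg.Lie.IsoSuzuki G := by
  haveI : Fact (Nat.Prime 2) := ⟨Nat.prime_two⟩
  obtain ⟨S⟩ : Nonempty (Sylow 2 G) := inferInstance
  have h2 := CIT.two_dvd_card hna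
  haveI : Nontrivial ↥(S : Subgroup G) := (nontrivial_iff_ne_bot _).2 (S.ne_bot_of_dvd_card h2)
  obtain ⟨z, -, hzc, hz⟩ := PGroup.exists_mem_center_orderOf_eq S.2
    (N := (⊤ : Subgroup ↥(S : Subgroup G))) top_ne_bot
  have hz2 : orderOf (z : G) = 2 := by rw [orderOf_coe, hz]
  have hSz : ∀ s ∈ (S : Subgroup G), Commute s (z : G) := fun s hs =>
    congrArg Subtype.val (mem_center_iff.1 hzc ⟨s, hs⟩)
  have hmain : (∃ (F : Type) (_ : Field F) (_ : Fintype F),
      Nonempty (G ≃* Matrix.ProjectiveSpecialLinearGroup (Fin 2) F)) ∨ Cfsg.Lie.IsoSuzuki G := by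
    by_cases h : ∃ (T : Sylow 2 G) (v : G), orderOf v = 2 ∧ v ∈ (T : Subgroup G) ∧
        (∀ s ∈ (T : Subgroup G), Commute s v) ∧ P.Out v
    · obtain ⟨T, v, hv, hvT, hT, hO⟩ := h
      exact P.of_out hna T hv hvT hT hO
    · push Not at h
      exact P.of_in hna h S hz2 z.2 hSz
  exact hmain.imp (fun ⟨F, i, j, ⟨e⟩⟩ => ⟨F, i, j, CIT.four_le_of_iso hna e, ⟨e⟩⟩) id

end Cfsg.Lib.Partition.Data
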