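import Cfsg.Agent.Lib.Partition.Reduce
import Cfsg.Agent.Lib.Partition.Field
import Cfsg.Agent.S2126
import Cfsg.Agent.Lib.Linear.Suzuki.Tori

/-!
# Automorphism groups of Suzuki groups with a partition

A group of automorphisms of a Suzuki group which contains the inner ones and has a partition with nilpotent
members consists of inner automorphisms.
-/

set_option autoImplicit false
set_option linter.style.haveILetI false

namespace Cfsg.Lib.Partition.Suz

open Subgroup Cfsg.Lib Cfsg.Lib.Linear.Suz Cfsg.Agent.S2126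

variable {F : Type} [Field F] [Fintype F] {m : ℕ} (h : Params F m)

/-- Every automorphism is inner times a field automorphism. -/
theorem exists_decomp (α : MulAut ↥(Cfsg.Sz F m)) :
    ∃ (g : ↥(Cfsg.Sz F m)) (σ : F ≃+* F), α = MulAut.conj g * frobS h σ := by
  classical
  haveI : Fact (Nat.Prime 2) := ⟨Nat.prime_two⟩
  have hp : IsPGroup 2 ↥(US h) := IsPGroup.of_card (n := (2 * m + 1) * 2) (by rw [card_US h, ← pow_mul])
  obtain ⟨P, hP⟩ := (hp.map α.toMonoidHom).exists_le_sylow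
  obtain ⟨g, hg⟩ := sylow_conj h P
  have hPeq : (US h).map α.toMonoidHom = (US h).map (MulAut.conj g).toMonoidHom := by
    rw [← hg]
    refine Subgroup.eq_of_le_of_card_ge hP ?_
    rw [hg, Subgroup.card_map_of_injective (MulAut.conj g).injective,
      Subgroup.card_map_of_injective α.injective]
  have hmem : ∀ u ∈ US h, g⁻¹ * α u * g ∈ US h := fun u hu => by
    have : α u ∈ (US h).map α.toMonoidHom := ⟨u, hu, rfl⟩
    rw [hPeq] at this
    obtain ⟨v, hv, e⟩ := this
    change g * v * g⁻¹ = α u at e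
    rw [← e, show g⁻¹ * (g * v * g⁻¹) * g = v by group]
    exact hv
  obtain ⟨β, hβ⟩ : ∃ β, β = MulAut.conj g⁻¹ * α := ⟨_, rfl⟩
  have hUβ : (US h).map β.toMonoidHom = US h := by
    refine Subgroup.eq_of_le_of_card_ge ?_ (le_of_eq (Subgroup.card_map_of_injective β.injective).symm)
    rintro _ ⟨u, hu, rfl⟩
    show β u ∈ US h
    rw [hβ, MulAut.mul_apply, MulAut.conj_apply, inv_inv]
    exact hmem u hu
  obtain ⟨a, b, hab⟩ : ∃ a b, (β (wS h)).1 • Cfsg.suzukiPointInfinity F = pA m a b := by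
    refine (mem_ovoid_iff.mp (mem_Sz_iff.mp (β (wS h)).2 _ (mem_inf m))).resolve_left fun e => ?_
    have hn : β (wS h) ∈ Subgroup.normalizer (((US h).map β.toMonoidHom) : Set ↥(Cfsg.Sz F m)) := by
      rw [hUβ, normalizer_US h]; exact e
    rw [← Subgroup.map_equiv_normalizer_eq, normalizer_US h] at hn
    obtain ⟨x, hx, hxw⟩ := hn
    have hxw' : x = wS h := β.injective hxw
    rw [hxw'] at hx
    change wSL F • Cfsg.suzukiPointInfinity F = Cfsg.suzukiPointInfinity F at hx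
    rw [wSL_inf h] at hx
    exact inf_ne_pA m _ _ hx.symm
  obtain ⟨γ, hγ⟩ : ∃ γ, γ = MulAut.conj (uS h a b)⁻¹ * β := ⟨_, rfl⟩
  have hUγ : (US h).map γ.toMonoidHom = US h := by
    refine Subgroup.eq_of_le_of_card_ge ?_ (le_of_eq (Subgroup.card_map_of_injective γ.injective).symm)
    rintro _ ⟨u, hu, rfl⟩
    show γ u ∈ US h
    rw [hγ, MulAut.mul_apply, MulAut.conj_apply, inv_inv]
    have h1 : β u ∈ US h := hUβ ▸ ⟨u, hu, rfl⟩
    exact mul_mem (mul_mem (inv_mem ⟨a, b, rfl⟩) h1) ⟨a, b, rfl⟩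
  have hγw : (γ (wS h)).1 • Cfsg.suzukiPointInfinity F = pA m (0 : F) 0 := by
    rw [hγ, MulAut.mul_apply, MulAut.conj_apply, inv_inv, Subgroup.coe_mul, Subgroup.coe_mul, mul_smul,
      mul_smul]
    show (uSL m a b)⁻¹ • ((β (wS h)).1 • (uSL m a b • _)) = _
    rw [uSL_inf, hab, inv_smul_eq_iff, uSL_zero_pt h]
  obtain ⟨c, σ, hcσ⟩ := semilinear h hUγ hγw
  refine ⟨g * uS h a b * dS h c, σ, ?_⟩
  rw [hγ, hβ, map_inv, map_inv, inv_mul_eq_iff_eq_mul, inv_mul_eq_iff_eq_mul] at hcσ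
  rw [hcσ, map_mul, map_mul]
  simp only [mul_assoc]

variable {H : Subgroup (MulAut ↥(Cfsg.Sz F m))} [Finite ↥H] (P : Data ↥H)

include h in
/-- All elements of `H` are inner. -/
theorem le_conj_range (hnil : ∀ a : ↥H, a ≠ 1 → Group.IsNilpotent ↥(P.comp a))
    (hH : ∀ s : ↥(Cfsg.Sz F m), MulAut.conj s ∈ H) : H ≤ (MulAut.conj : ↥(Cfsg.Sz F m) →* _).range := by
  intro β hβ
  obtain ⟨g, σ, rfl⟩ := exists_decomp h β
  by_cases h1 : σ = 1
  · exact ⟨g, by rw [h1, map_one, mul_one]⟩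
  exfalso
  have hσH : frobS h σ ∈ H := by
    have := mul_mem (inv_mem (hH g)) hβ
    rwa [inv_mul_cancel_left] at this
  haveI : Finite (F ≃+* F) := Finite.of_injective _ DFunLike.coe_injective
  haveI := charP_two h
  obtain ⟨r, hr, hd⟩ := Nat.exists_prime_and_dvd (mt orderOf_eq_one_iff.1 h1)
  -- the field automorphisms have odd order
  have hr2 : r ≠ 2 := by
    rintro rfl
    letI : Algebra (ZMod 2) F := ZMod.algebra F 2
    have hdv : orderOf σ ∣ 2 * m + 1 := by
      refine orderOf_dvd_of_pow_eq_one (RingEquiv.ext fun x => ?_)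
      obtain ⟨σ', hσ'⟩ : ∃ σ' : F ≃ₐ[ZMod 2] F, ∀ x, σ' x = σ x :=
        ⟨AlgEquiv.ofRingEquiv (f := σ) fun z =>
          RingHom.congr_fun (Subsingleton.elim (σ.toRingHom.comp (algebraMap (ZMod 2) F)) (algebraMap (ZMod 2) F)) z,
          fun _ => rfl⟩
      have hn : Nat.card (F ≃ₐ[ZMod 2] F) = 2 * m + 1 := by
        rw [IsGalois.card_aut_eq_finrank]
        have := Module.card_eq_pow_finrank (K := ZMod 2) (V := F)
        rw [h.card, ZMod.card] at this
        exact (Nat.pow_right_injective le_rfl this).symm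
      have hp : ∀ k : ℕ, ∀ x, (σ' ^ k) x = (σ ^ k) x := by
        intro k
        induction k with
        | zero => intro x; rfl
        | succ k ih => intro x; rw [pow_succ', pow_succ', AlgEquiv.mul_apply, RingAut.mul_apply, ih, hσ']
      rw [← hp, ← hn, pow_card_eq_one']
      rfl
    have := hd.trans hdv
    omega
  have hσr : orderOf (σ ^ (orderOf σ / r)) = r := orderOf_pow_orderOf_div (orderOf_pos σ).ne' hd
  have hrH : frobS h (σ ^ (orderOf σ / r)) ∈ H := by rw [map_pow]; exact pow_mem hσH _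
  generalize σ ^ (orderOf σ / r) = τ at hσr hrH
  have hτ1 : τ ≠ 1 := fun e => hr.ne_one (by rw [← hσr, e, orderOf_one])
  haveI : Fact (Nat.Prime 2) := ⟨Nat.prime_two⟩
  let I : ↥(Cfsg.Sz F m) →* ↥H := (MulAut.conj : ↥(Cfsg.Sz F m) →* _).codRestrict H hH
  have hIinj : Function.Injective I := by
    rw [← MonoidHom.ker_eq_bot_iff, eq_bot_iff_forall]
    intro x hx
    have e : MulAut.conj x = 1 := congrArg Subtype.val (MonoidHom.mem_ker.1 hx)
    by_contra hx1
    obtain ⟨c, hc⟩ : ∃ c, c = x := ⟨_, rfl⟩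
    have hall : ∀ y, Commute x y := fun y => by
      have := DFunLike.congr_fun e y
      rw [MulAut.conj_apply, MulAut.one_apply, mul_inv_eq_iff_eq_mul] at this
      exact this
    have hxU : x ∈ US h := centralizer_US h (u := uS h 0 1) ⟨0, 1, rfl⟩
      (fun e => one_ne_zero (uS_inj h (e.trans (uS_zero h).symm)).2)
      (mem_centralizer_singleton_iff.2 (hall _).eq)
    obtain ⟨a, b, rfl⟩ := hxU
    refine inf_ne_pA m (0 : F) 0 (fix_unique h hx1 (mem_pA m 0 0) ?_).symm
    rw [← wSL_inf h]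
    show uSL m a b • (wSL F • Cfsg.suzukiPointInfinity F) = _
    rw [← mul_smul, show uSL m a b * wSL F = wSL F * uSL m a b from congrArg Subtype.val (hall (wS h)).eq,
      mul_smul, uSL_inf]
  obtain ⟨φ, hφd⟩ : ∃ φ : ↥H, φ = ⟨frobS h τ, hrH⟩ := ⟨_, rfl⟩
  have hcomm : ∀ s : ↥(Cfsg.Sz F m), frobS h τ s = s → Commute φ (I s) := fun s hs => by
    refine Subtype.ext (MulEquiv.ext fun x => ?_)
    show (φ : MulAut ↥(Cfsg.Sz F m)) (MulAut.conj s x) = MulAut.conj s ((φ : MulAut ↥(Cfsg.Sz F m)) x)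
    rw [hφd, MulAut.conj_apply, MulAut.conj_apply, map_mul, map_mul, map_inv, hs]
  have hφo : orderOf φ = r := by
    rw [hφd, Subgroup.orderOf_mk]
    haveI := Fact.mk hr
    refine orderOf_eq_prime (by rw [← map_pow, ← hσr, pow_orderOf_eq_one, map_one]) fun e => hτ1 ?_
    refine RingEquiv.ext fun a => ?_
    have := DFunLike.congr_fun e (uS h a 0)
    rw [frobS_uS, MulAut.one_apply] at this
    exact (uS_inj h this).1
  have hφ1 : φ ≠ 1 := fun e => hr.ne_one (by rw [← hφo, e, orderOf_one])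
  have hw2 : orderOf (I (wS h)) = 2 := by
    rw [orderOf_injective I hIinj]
    refine orderOf_eq_prime (by rw [pow_two]; exact wS_mul_self h) fun e => ?_
    have e' : wSL F • Cfsg.suzukiPointInfinity F = Cfsg.suzukiPointInfinity F := by
      rw [show wSL F = (1 : Matrix.SpecialLinearGroup (Fin 4) F) from congrArg Subtype.val e, one_smul]
    rw [wSL_inf h] at e'
    exact inf_ne_pA m _ _ e'.symm
  have hu1 : (uS h 0 1 : ↥(Cfsg.Sz F m)) ≠ 1 := fun e => one_ne_zero (uS_inj h (e.trans (uS_zero h).symm)).2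
  have hu2 : orderOf (I (uS h 0 1)) = 2 := by
    rw [orderOf_injective I hIinj]
    refine orderOf_eq_prime ?_ hu1
    rw [pow_two, uS_mul h, add_self h, add_self h, zero_add, mul_zero, uS_zero h]
  have hwB : I (wS h) ∈ P.comp φ := by
    rw [P.comp_eq_of_commute hφ1 (Invol.ne_one hw2) (hcomm _ (frobS_wS h τ)) (by rw [hφo, hw2]; exact hr2)]
    exact P.self_mem _
  have huB : I (uS h 0 1) ∈ P.comp φ := by
    rw [P.comp_eq_of_commute hφ1 (Invol.ne_one hu2)
      (hcomm _ (by rw [frobS_uS, map_zero, map_one])) (by rw [hφo, hu2]; exact hr2)]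
    exact P.self_mem _
  obtain ⟨k, hk⟩ := Field.isPel_mul (hnil φ hφ1) (p := 2) huB hwB ⟨1, by rw [hu2, pow_one]⟩ ⟨1, by rw [hw2, pow_one]⟩
  have hwfix : ∀ z : ↥(Cfsg.Sz F m), z ≠ 1 → Commute z (uS h 0 1) → ¬ Commute z (wS h) := by
    intro z hz hc hc'
    obtain ⟨a, b, rfl⟩ := centralizer_US h (u := uS h 0 1) ⟨0, 1, rfl⟩ hu1 (mem_centralizer_singleton_iff.2 hc.eq)
    refine inf_ne_pA m (0 : F) 0 (fix_unique h hz (mem_pA m 0 0) ?_).symm
    rw [← wSL_inf h]
    show uSL m a b • (wSL F • Cfsg.suzukiPointInfinity F) = _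
    rw [← mul_smul, show uSL m a b * wSL F = wSL F * uSL m a b from congrArg Subtype.val hc'.eq,
      mul_smul, uSL_inf]
  have hu2' : orderOf (uS h 0 1 : ↥(Cfsg.Sz F m)) = 2 := (orderOf_injective I hIinj _).symm.trans hu2
  have hw2' : orderOf (wS h : ↥(Cfsg.Sz F m)) = 2 := (orderOf_injective I hIinj _).symm.trans hw2
  rw [← map_mul, orderOf_injective I hIinj] at hk
  cases k with
  | zero =>
    rw [pow_zero, orderOf_eq_one_iff, mul_eq_one_iff_eq_inv, Invol.inv_eq_self hw2'] at hk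
    refine hwfix (uS h 0 1) hu1 (Commute.refl _) ?_
    rw [hk]
  | succ k =>
    obtain ⟨hz2, hzu, hzw⟩ := Invol.central_involution hu2' hw2'
      (by rw [hk, pow_succ]; exact even_two.mul_left _)
    exact hwfix _ (Invol.ne_one hz2) hzu hzw

end Cfsg.Lib.Partition.Suz
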