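import Cfsg.Agent.Lib.Partition.Normal
import Cfsg.Agent.Lib.Partition.Elementary
import Cfsg.Agent.Lib.Partition.Simple
import Cfsg.Agent.Lib.Partition.Field
import Cfsg.Agent.Lib.Partition.Suz
import Cfsg.Agent.Lib.CpClosed.AbelianTwo.Small

/-!
# The classification of groups with a partition
-/

set_option autoImplicit false
set_option linter.style.haveILetI false

namespace Cfsg.Lib.Partition

open Subgroup
open Cfsg.Lib
open scoped commutatorElement

universe u

variable {G : Type u} [Group G] [Finite G]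

theorem exists_elementary_normal {N : Subgroup G} [N.Normal] (hs : Group.IsSolvable ↥N) (hN : N ≠ ⊥) :
    ∃ (U : Subgroup G) (p : ℕ), p.Prime ∧ U.Normal ∧ U ≠ ⊥ ∧ (∀ v ∈ U, v ^ p = 1) ∧
      ∀ v ∈ U, ∀ w ∈ U, Commute v w := by
  obtain ⟨R, hR⟩ := (Set.toFinite {R : Subgroup G | R.Normal ∧ R ≠ ⊥ ∧ R ≤ N}).exists_minimal
    ⟨N, inferInstance, hN, le_rfl⟩
  obtain ⟨hRn, hR0, hRN⟩ := hR.prop
  haveI := hRn
  haveI := hs
  haveI : Group.IsSolvable ↥R := Group.isSolvable_of_isSolvable_injective (inclusion_injective hRN)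
  haveI : Nontrivial R := (nontrivial_iff_ne_bot R).2 hR0
  have hbot : ⁅R, R⁆ = ⊥ := by
    by_contra hb
    have e := le_antisymm (commutator_le_self R)
      (hR.le_of_le ⟨inferInstance, hb, (commutator_le_self R).trans hRN⟩ (commutator_le_self R))
    refine (Group.IsSolvable.commutator_lt_top_of_nontrivial R).ne (map_injective R.subtype_injective ?_)
    rw [map_subtype_commutator, e, ← MonoidHom.range_eq_map, range_subtype]
  have hc : ∀ a ∈ R, ∀ b ∈ R, Commute a b := fun a ha b hb => by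
    have h1 : ⁅a, b⁆ ∈ ⁅R, R⁆ := commutator_mem_commutator ha hb
    rwa [hbot, mem_bot, commutatorElement_eq_one_iff_commute] at h1
  obtain ⟨x, hx, hx1⟩ := (bot_or_exists_ne_one R).resolve_left hR0
  obtain ⟨q, hq, hd⟩ := Nat.exists_prime_and_dvd (mt orderOf_eq_one_iff.1 hx1)
  let E : Subgroup G :=
    { carrier := {r | r ∈ R ∧ r ^ q = 1}
      one_mem' := ⟨one_mem R, one_pow q⟩
      mul_mem' := fun {a b} ha hb => ⟨mul_mem ha.1 hb.1, by rw [(hc a ha.1 b hb.1).mul_pow, ha.2, hb.2, one_mul]⟩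
      inv_mem' := fun {a} ha => ⟨inv_mem ha.1, by rw [inv_pow, ha.2, inv_one]⟩ }
  refine ⟨E, q, hq, ⟨fun r hr g => ⟨hRn.conj_mem r hr.1 g, by rw [conj_pow, hr.2, mul_one, mul_inv_cancel]⟩⟩,
    fun e => ?_, fun r hr => hr.2, fun v hv w hw => hc v hv.1 w hw.1⟩
  have ho : orderOf (x ^ (orderOf x / q)) = q := orderOf_pow_orderOf_div (orderOf_pos x).ne' hd
  have hmem : x ^ (orderOf x / q) ∈ E :=
    ⟨pow_mem hx _, (congrArg ((x ^ (orderOf x / q)) ^ ·) ho.symm).trans (pow_orderOf_eq_one _)⟩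
  rw [e, mem_bot] at hmem
  rw [hmem, orderOf_one] at ho
  exact hq.ne_one ho.symm

/-- Almost simple groups over `PSL₂(q)`. -/
theorem of_psl (P : Data G) (hnil : ∀ a : G, a ≠ 1 → Group.IsNilpotent ↥(P.comp a)) {T : Subgroup G} [T.Normal]
    {F : Type} [Field F] [Fintype F] (h5 : 5 ≤ Fintype.card F)
    (e : T ≃* Matrix.ProjectiveSpecialLinearGroup (Fin 2) F) (hC : centralizer (T : Set G) = ⊥) :
    Nonempty (G ≃* Matrix.ProjectiveSpecialLinearGroup (Fin 2) F) ∨
      (Odd (Fintype.card F) ∧ Nonempty (G ≃* Matrix.ProjGenLinGroup (Fin 2) F)) := by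
  have hinj := GW.PGL.autHom_injective e hC
  let er := MonoidHom.ofInjective hinj
  haveI : Finite ↥(GW.PGL.autHom e).range := Finite.of_equiv G er.toEquiv
  have hin : ∀ s, IIGroups.inn s ∈ (GW.PGL.autHom e).range := fun s => by
    refine ⟨(e.symm (QuotientGroup.mk s) : ↥T), ?_⟩
    rw [GW.PGL.autHom_mem e (e.symm (QuotientGroup.mk s)).2, Subtype.coe_eta, e.apply_symm_apply,
      Linear.AutPSL.conj_mk]
    rfl
  have hle := Field.le_innd_range (P.transport er) (fun a ha => P.transport_nilpotent er hnil ha) hin h5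
  have hd : GW.PGL.diag e = ⊤ := eq_top_iff.2 fun x _ => hle ⟨x, rfl⟩
  rcases Nat.even_or_odd (Fintype.card F) with hev | hodd
  · refine Or.inl ⟨(topEquiv.symm.trans (MulEquiv.subgroupCongr (?_ : ⊤ = T))).trans e⟩
    refine le_antisymm (fun x _ => ?_) le_top
    obtain ⟨A, hA⟩ : GW.PGL.autHom e x ∈ _ := hle ⟨x, rfl⟩
    obtain ⟨s, hs⟩ := IIGroups.exists_inn (A := A) (IIGroups.units_isSquare (FiniteField.isSquare_of_char_two
      (FiniteField.even_card_iff_char_two.2 (Nat.even_iff.1 hev)) _))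
    have hx : x = ((e.symm (QuotientGroup.mk s) : ↥T) : G) := by
      refine hinj ?_
      rw [GW.PGL.autHom_mem e (e.symm (QuotientGroup.mk s)).2, Subtype.coe_eta, e.apply_symm_apply,
        Linear.AutPSL.conj_mk, ← hA, hs]
      rfl
    rw [hx]
    exact (e.symm _).2
  · exact (GW.PGL.psl_or_pgl e hodd hC hd).imp id fun h => ⟨hodd, h⟩

/-- Almost simple groups over a Suzuki group. -/
theorem of_suzuki (P : Data G) (hnil : ∀ a : G, a ≠ 1 → Group.IsNilpotent ↥(P.comp a)) {T : Subgroup G} [T.Normal]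
    (hT : Cfsg.Lie.IsoSuzuki ↥T) (hC : centralizer (T : Set G) = ⊥) : Cfsg.Lie.IsoSuzuki G := by
  obtain ⟨F, _, _, m, hm, hF, ⟨e₀⟩⟩ := hT
  have h : Linear.Suz.Params F m := ⟨hm, hF⟩
  obtain ⟨e₁, -⟩ := Linear.Suz.exists_lie_equiv h
  let e := e₀.trans e₁.symm
  let f : G →* MulAut ↥(Cfsg.Sz F m) := (MulAut.congr e).toMonoidHom.comp MulAut.conjNormal
  have hf : ∀ (x : G) (y : ↥(Cfsg.Sz F m)), f x y = e (MulAut.conjNormal x (e.symm y)) := fun _ _ => rfl
  have hinj : Function.Injective f := by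
    rw [← MonoidHom.ker_eq_bot_iff, eq_bot_iff]
    intro x hx
    rw [← hC, mem_centralizer_iff]
    intro y hy
    have h' := DFunLike.congr_fun (MonoidHom.mem_ker.1 hx) (e ⟨y, hy⟩)
    rw [hf, e.symm_apply_apply, MulAut.one_apply, e.apply_eq_iff_eq] at h'
    have h'' := congrArg Subtype.val h'
    rw [MulAut.conjNormal_apply] at h''
    exact (mul_inv_eq_iff_eq_mul.1 h'').symm
  have hfT : ∀ t : ↥T, f t = MulAut.conj (e t) := fun t => MulEquiv.ext fun y => by
    have e' : MulAut.conjNormal (t : G) (e.symm y) = t * e.symm y * t⁻¹ :=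
      Subtype.ext (by rw [MulAut.conjNormal_apply]; rfl)
    rw [hf, MulAut.conj_apply, e', map_mul, map_mul, map_inv, e.apply_symm_apply]
  let er := MonoidHom.ofInjective hinj
  haveI : Finite ↥f.range := Finite.of_equiv G er.toEquiv
  have hle := Suz.le_conj_range h (P.transport er) (fun a ha => P.transport_nilpotent er hnil ha)
    fun s => ⟨(e.symm s : ↥T), by rw [hfT, e.apply_symm_apply]⟩
  have htop : ⊤ = T := le_antisymm (fun x _ => by
    obtain ⟨s, hs⟩ := hle (⟨x, rfl⟩ : f x ∈ f.range)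
    have hx : x = ((e.symm s : ↥T) : G) := hinj (by rw [hfT, e.apply_symm_apply, hs])
    rw [hx]
    exact (e.symm s).2) le_top
  exact ⟨F, inferInstance, inferInstance, m, hm, hF, ⟨(topEquiv.symm.trans (MulEquiv.subgroupCongr htop)).trans e₀⟩⟩

/-- The classification of groups with a nontrivial partition. -/
theorem classify (P : Data G) [Nontrivial G] :
    Nonempty (G ≃* Equiv.Perm (Fin 4)) ∨
    (∃ p : ℕ, p.Prime ∧ Subgroup.closure {g : G | g ^ p ≠ 1} ≠ ⊤) ∨
    (∃ H : Subgroup G, Cfsg.IsFrobeniusComplement H) ∨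
    (∃ (F : Type) (_ : _root_.Field F) (_ : Fintype F), 4 ≤ Fintype.card F ∧
        Nonempty (G ≃* Matrix.ProjectiveSpecialLinearGroup (Fin 2) F)) ∨
    (∃ (F : Type) (_ : _root_.Field F) (_ : Fintype F), 5 ≤ Fintype.card F ∧ Odd (Fintype.card F) ∧
        Nonempty (G ≃* (GL (Fin 2) F ⧸ Subgroup.center (GL (Fin 2) F)))) ∨
    Cfsg.Lie.IsoSuzuki G := by
  rcases P.frobenius_or_nilpotent with hF | hall
  · exact Or.inr (Or.inr (Or.inl hF))
  have hnil : ∀ a : G, a ≠ 1 → Group.IsNilpotent ↥(P.comp a) := fun a ha => (hall a ha).2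
  by_cases hZ : center G = ⊥
  swap
  · exact Or.inr (Or.inl (P.hughes_of_center hZ))
  by_cases hn : ∃ a : G, a ≠ 1 ∧ (P.comp a).Normal
  · obtain ⟨a, ha, hA⟩ := hn
    rcases P.normal_case ha (hnil a ha) with hH | hF
    · exact Or.inr (Or.inl hH)
    · exact Or.inr (Or.inr (Or.inl hF))
  push Not at hn
  by_cases hab : ∃ N : Subgroup G, N.Normal ∧ Group.IsSolvable ↥N ∧ N ≠ ⊥
  · obtain ⟨N, hNn, hs, hN⟩ := hab
    obtain ⟨U, p, hp, hUn, hU0, hUp, hUc⟩ := exists_elementary_normal hs hN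
    have hE : Data.Elem P U p := ⟨hp, hUn, hU0, hUp, hUc, hZ, hn, hnil⟩
    rcases hE.elementary_case with hF | hS4
    · exact Or.inr (Or.inr (Or.inl hF))
    · exact Or.inl hS4
  push Not at hab
  obtain ⟨T, hTn, hTs, hna, hTns, hC⟩ := P.exists_simple_normal hnil fun N hN hs => hab N hN hs
  haveI := hTn
  haveI := hTs
  have hT : ∀ x ∈ T, x ≠ 1 → ¬ T ≤ P.comp x := fun x _ hx hle => hTns (by
    haveI := hnil x hx
    haveI : Group.IsNilpotent ↥T := Group.nilpotent_of_mulEquiv (subgroupOfEquivOfLe hle)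
    infer_instance)
  rcases Data.simple_case (P.restrict T hT) hna with ⟨F, i, j, h4, ⟨e⟩⟩ | hS
  · obtain ⟨F, i, j, h5, ⟨e⟩⟩ : ∃ (F : Type) (_ : _root_.Field F) (_ : Fintype F), 5 ≤ Fintype.card F ∧
        Nonempty (↥T ≃* Matrix.ProjectiveSpecialLinearGroup (Fin 2) F) := by
      rcases eq_or_ne (Fintype.card F) 4 with hF | hF
      · haveI : Fact (Nat.Prime 5) := ⟨by norm_num⟩
        obtain ⟨e5⟩ := CpClosed.AbelianTwo.psl_two_four_equiv hF
        exact ⟨ZMod 5, inferInstance, inferInstance, by rw [ZMod.card], ⟨e.trans e5⟩⟩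
      · exact ⟨F, i, j, by omega, ⟨e⟩⟩
    rcases of_psl P hnil h5 e hC with he | ⟨hodd, he⟩
    · exact Or.inr (Or.inr (Or.inr (Or.inl ⟨F, i, j, by omega, he⟩)))
    · exact Or.inr (Or.inr (Or.inr (Or.inr (Or.inl ⟨F, i, j, h5, hodd, he⟩))))
  · exact Or.inr (Or.inr (Or.inr (Or.inr (Or.inr (of_suzuki P hnil hS hC)))))

end Cfsg.Lib.Partition
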