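import Cfsg.Agent.Lib.Partition.Basic
import Cfsg.Agent.S0144
import Cfsg.Agent.S0205

/-!
# A group with nilpotent members and no solvable normal subgroup

It has a normal simple subgroup with trivial centralizer.
-/

set_option autoImplicit false
set_option linter.style.haveILetI false

namespace Cfsg.Lib.Partition.Data

open Subgroup
open Cfsg.Lib

universe u v

variable {G : Type u} [Group G]

omit [Group G] in
theorem exists_two_primes {n : ℕ} (hn : n ≠ 0) (h : ∀ p k : ℕ, p.Prime → n ≠ p ^ k) :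
    ∃ p q : ℕ, p.Prime ∧ q.Prime ∧ p ≠ q ∧ p ∣ n ∧ q ∣ n := by
  obtain ⟨p, hp, hpn⟩ := Nat.exists_prime_and_dvd (n := n) fun e => h 2 0 Nat.prime_two (by rw [e, pow_zero])
  by_contra hc
  push Not at hc
  exact h p _ hp (Nat.eq_prime_pow_of_unique_prime_dvd hn fun {d} hd hdn =>
    by_contra fun hne => hc d p hd hp hne hdn hpn)

/-- The partition carried over by an isomorphism. -/
def transport {H : Type v} [Group H] (P : Data G) (e : G ≃* H) : Data H where
  comp x := (P.comp (e.symm x)).comap e.symm.toMonoidHom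
  self_mem x := P.self_mem _
  eq_of_mem {x y} hx hy h := by
    rw [P.eq_of_mem (x := e.symm x) (y := e.symm y) (fun e' => hx (e.symm.map_eq_one_iff.1 e'))
      (fun e' => hy (e.symm.map_eq_one_iff.1 e')) h]
  ne_top {x} hx := fun h => P.ne_top (x := e.symm x) (fun e' => hx (e.symm.map_eq_one_iff.1 e'))
    (eq_top_iff.2 fun g _ => by simpa using (h ▸ mem_top (e g) : e g ∈ (P.comp (e.symm x)).comap e.symm.toMonoidHom))
  mem_conj {g x y} := by
    show e.symm y ∈ P.comp (e.symm (g * x * g⁻¹)) ↔ e.symm (g⁻¹ * y * g) ∈ P.comp (e.symm x)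
    simp only [map_mul, map_inv]
    exact P.mem_conj

theorem transport_nilpotent {H : Type v} [Group H] (P : Data G) (e : G ≃* H)
    (hnil : ∀ a : G, a ≠ 1 → Group.IsNilpotent ↥(P.comp a)) {x : H} (hx : x ≠ 1) :
    Group.IsNilpotent ↥((P.transport e).comp x) := by
  haveI := hnil (e.symm x) fun e' => hx (e.symm.map_eq_one_iff.1 e')
  exact Group.nilpotent_of_mulEquiv (((P.comp (e.symm x)).equivMapOfInjective e.toMonoidHom e.injective).trans
    (MulEquiv.subgroupCongr (Subgroup.map_equiv_eq_comap_symm e (P.comp (e.symm x)))))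

variable [Finite G] (P : Data G)

/-- Two nonsolvable subgroups do not centralize each other, if the first is minimal. -/
theorem false_of_commute (hnil : ∀ a : G, a ≠ 1 → Group.IsNilpotent ↥(P.comp a)) {X Y : Subgroup G}
    (hX : ¬ Group.IsSolvable ↥X) (hY : ¬ Group.IsSolvable ↥Y)
    (hmin : ∀ K : Subgroup G, K ≤ X → K ≠ ⊥ → (∀ g ∈ normalizer (X : Set G), ∀ k ∈ K, g * k * g⁻¹ ∈ K) → K = X)
    (hc : ∀ x ∈ X, ∀ y ∈ Y, Commute x y) : False := by
  obtain ⟨q₁, q₂, hq₁, hq₂, hne, hd₁, hd₂⟩ := exists_two_primes (n := Nat.card Y) Nat.card_pos.ne'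
    fun p k hp e => hY (Cfsg.Agent.S0144.result p p k 0 hp hp (by rw [e, pow_zero, mul_one]))
  haveI := Fact.mk hq₁
  haveI := Fact.mk hq₂
  obtain ⟨y₁, hy₁⟩ := exists_prime_orderOf_dvd_card' q₁ hd₁
  obtain ⟨y₂, hy₂⟩ := exists_prime_orderOf_dvd_card' q₂ hd₂
  rw [← orderOf_coe] at hy₁ hy₂
  have h₁ : (y₁ : G) ≠ 1 := fun e => hq₁.ne_one (by rw [← hy₁, e, orderOf_one])
  have h₂ : (y₂ : G) ≠ 1 := fun e => hq₂.ne_one (by rw [← hy₂, e, orderOf_one])
  have hlink₁ : ∀ x ∈ X, (orderOf x).Prime → orderOf x ≠ q₁ → P.comp x = P.comp (y₁ : G) := fun x hx hp hne =>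
    P.comp_eq_of_commute (fun e => hp.ne_one (by rw [e, orderOf_one])) h₁ (hc x hx _ y₁.2) (by rwa [hy₁])
  have hlink₂ : ∀ x ∈ X, (orderOf x).Prime → orderOf x ≠ q₂ → P.comp x = P.comp (y₂ : G) := fun x hx hp hne =>
    P.comp_eq_of_commute (fun e => hp.ne_one (by rw [e, orderOf_one])) h₂ (hc x hx _ y₂.2) (by rwa [hy₂])
  obtain ⟨r, hr, hrX, hr₁, hr₂⟩ : ∃ r, r.Prime ∧ r ∣ Nat.card X ∧ r ≠ q₁ ∧ r ≠ q₂ := by
    by_contra hc'
    push Not at hc'
    refine hX (Cfsg.Agent.S0144.result q₁ q₂ ((Nat.card X).factorization q₁) ((Nat.card X).factorization q₂) hq₁ hq₂ ?_)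
    conv_lhs => rw [← Nat.prod_factorization_pow_eq_self (Nat.card_pos (α := X)).ne']
    rw [Finsupp.prod_of_support_subset _ (s := {q₁, q₂}) ?_ _ (fun _ _ => pow_zero _), Finset.prod_pair hne]
    intro r hr
    have hmem := Nat.mem_primeFactors.1 (Nat.support_factorization (Nat.card X) ▸ hr)
    simp only [Finset.mem_insert, Finset.mem_singleton]
    by_contra hc''
    push Not at hc''
    exact hc''.2 (hc' r hmem.1 hmem.2.1 hc''.1)
  haveI := Fact.mk hr
  obtain ⟨x₀, hx₀⟩ := exists_prime_orderOf_dvd_card' r hrX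
  rw [← orderOf_coe] at hx₀
  have he : P.comp (y₂ : G) = P.comp (y₁ : G) :=
    (hlink₂ _ x₀.2 (by rwa [hx₀]) (by rwa [hx₀])).symm.trans (hlink₁ _ x₀.2 (by rwa [hx₀]) (by rwa [hx₀]))
  obtain ⟨K, hK⟩ : ∃ K, K = closure {x : G | x ∈ X ∧ (orderOf x).Prime} := ⟨_, rfl⟩
  have hKB : K ≤ P.comp (y₁ : G) := by
    rw [hK, closure_le]
    rintro x ⟨hx, hp⟩
    by_cases h : orderOf x = q₁
    · have e := hlink₂ x hx hp (h ▸ hne)
      rw [he] at e
      exact e ▸ P.self_mem x
    · exact hlink₁ x hx hp h ▸ P.self_mem x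
  have hKX : K ≤ X := by rw [hK, closure_le]; exact fun x hx => hx.1
  have heq : K = X := by
    refine hmin K hKX (fun e => ?_) fun g hg k hk => ?_
    · have : (x₀ : G) ∈ K := hK ▸ subset_closure ⟨x₀.2, by rwa [hx₀]⟩
      rw [e, mem_bot] at this
      exact hr.ne_one (by rw [← hx₀, this, orderOf_one])
    · rw [hK] at hk ⊢
      induction hk using closure_induction with
      | mem x hx =>
        refine subset_closure ⟨(Subgroup.mem_normalizer_iff.1 hg x).1 hx.1, ?_⟩
        have : orderOf (g * x * g⁻¹) = orderOf x :=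
          orderOf_injective (MulAut.conj g).toMonoidHom (MulAut.conj g).injective x
        rw [this]; exact hx.2
      | one => simp
      | mul x y _ _ hx hy =>
        rw [show g * (x * y) * g⁻¹ = g * x * g⁻¹ * (g * y * g⁻¹) by group]; exact mul_mem hx hy
      | inv x _ hx => rw [show g * x⁻¹ * g⁻¹ = (g * x * g⁻¹)⁻¹ by group]; exact inv_mem hx
  refine hX ?_
  haveI := hnil (y₁ : G) h₁
  haveI := Subgroup.isNilpotent (H := X.subgroupOf (P.comp (y₁ : G)))
  haveI : Group.IsNilpotent ↥X :=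
    Group.nilpotent_of_mulEquiv (subgroupOfEquivOfLe (heq ▸ hKB : X ≤ P.comp (y₁ : G)))
  infer_instance

/-- A normal simple subgroup with trivial centralizer. -/
theorem exists_simple_normal [Nontrivial G] (hnil : ∀ a : G, a ≠ 1 → Group.IsNilpotent ↥(P.comp a))
    (hss : ∀ N : Subgroup G, N.Normal → Group.IsSolvable ↥N → N = ⊥) :
    ∃ T : Subgroup G, T.Normal ∧ IsSimpleGroup ↥T ∧ ¬ IsMulCommutative ↥T ∧ ¬ Group.IsSolvable ↥T ∧
      centralizer (T : Set G) = ⊥ := by
  obtain ⟨N, hN⟩ := (Set.toFinite {N : Subgroup G | N.Normal ∧ N ≠ ⊥}).exists_minimal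
    ⟨⊤, inferInstance, top_ne_bot⟩
  haveI hNn : N.Normal := hN.1.1
  obtain ⟨T, hT⟩ := (Set.toFinite {T : Subgroup G | T ≤ N ∧ T ≠ ⊥ ∧ N ≤ normalizer (T : Set G)}).exists_minimal
    ⟨N, le_rfl, hN.1.2, le_normalizer⟩
  obtain ⟨hTN, hT0, hNT⟩ := hT.1
  have hmin : ∀ K : Subgroup G, K ≤ T → K ≠ ⊥ → N ≤ normalizer (K : Set G) → K = T := fun K hKT hK0 hKn =>
    le_antisymm hKT (hT.2 ⟨hKT.trans hTN, hK0, hKn⟩ hKT)
  have hconj : ∀ g : G, T.map (MulAut.conj g).toMonoidHom ≤ N ∧
      N ≤ normalizer (T.map (MulAut.conj g).toMonoidHom : Set G) := by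
    intro g
    refine ⟨?_, fun n hn => ?_⟩
    · rintro _ ⟨x, hx, rfl⟩
      exact hNn.conj_mem x (hTN hx) g
    · have hm : g⁻¹ * n * g ∈ normalizer (T : Set G) := hNT (by simpa using hNn.conj_mem n hn g⁻¹)
      rw [Subgroup.mem_normalizer_iff]
      intro x
      simp only [mem_map_equiv, MulAut.conj_symm_apply]
      rw [Subgroup.mem_normalizer_iff.1 hm]
      exact iff_of_eq (congrArg (· ∈ T) (by group))
  have hcomm : ∀ g : G, T.map (MulAut.conj g).toMonoidHom = T ∨
      ∀ x ∈ T, ∀ y ∈ T.map (MulAut.conj g).toMonoidHom, Commute x y := by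
    intro g
    obtain ⟨h1, h2⟩ := hconj g
    by_cases hi : T ⊓ T.map (MulAut.conj g).toMonoidHom = ⊥
    · refine Or.inr fun x hx y hy => ?_
      have ha : x * y * x⁻¹ * y⁻¹ ∈ T ⊓ T.map (MulAut.conj g).toMonoidHom := by
        refine Subgroup.mem_inf.2 ⟨?_, ?_⟩
        · rw [mul_assoc, mul_assoc, ← mul_assoc y]
          exact mul_mem hx ((Subgroup.mem_normalizer_iff.1 (hNT (h1 hy)) _).1 (inv_mem hx))
        · exact mul_mem ((Subgroup.mem_normalizer_iff.1 (h2 (hTN hx)) y).1 hy) (inv_mem hy)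
      rw [hi, mem_bot, mul_inv_eq_one, mul_inv_eq_iff_eq_mul] at ha
      exact ha
    · refine Or.inl (Eq.symm ?_)
      have he := hmin _ inf_le_left hi fun n hn => Subgroup.mem_normalizer_iff.2 fun x => by
        simp only [Subgroup.mem_inf]
        exact and_congr (Subgroup.mem_normalizer_iff.1 (hNT hn) x) (Subgroup.mem_normalizer_iff.1 (h2 hn) x)
      refine eq_of_le_of_card_ge (inf_eq_left.1 he) ?_
      rw [Nat.card_congr (T.equivMapOfInjective (MulAut.conj g).toMonoidHom (MulAut.conj g).injective).toEquiv]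
  have hTab : ¬ ∀ x ∈ T, ∀ y ∈ T, Commute x y := by
    intro hab
    let S : Set G := ⋃ g : G, (T.map (MulAut.conj g).toMonoidHom : Set G)
    have hmem : ∀ g : G, ∀ x ∈ T, g * x * g⁻¹ ∈ S := fun g x hx => Set.mem_iUnion.2 ⟨g, x, hx, rfl⟩
    have hS : ∀ a ∈ S, ∀ b ∈ S, a * b = b * a := by
      intro a ha b hb
      obtain ⟨g, x, hx, rfl⟩ := Set.mem_iUnion.1 ha
      obtain ⟨k, y, hy, rfl⟩ := Set.mem_iUnion.1 hb
      show Commute (g * x * g⁻¹) (k * y * k⁻¹)
      have hy' : g⁻¹ * k * y * (g⁻¹ * k)⁻¹ ∈ T.map (MulAut.conj (g⁻¹ * k)).toMonoidHom := ⟨y, hy, rfl⟩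
      have hc : Commute x (g⁻¹ * k * y * (g⁻¹ * k)⁻¹) := by
        rcases hcomm (g⁻¹ * k) with e | e
        · exact hab x hx _ (e ▸ hy')
        · exact e x hx _ hy'
      have := hc.map (MulAut.conj g).toMonoidHom
      simp only [MulEquiv.coe_toMonoidHom, MulAut.conj_apply, _root_.mul_inv_rev, inv_inv] at this
      rwa [show g * (g⁻¹ * k * y * (k⁻¹ * g)) * g⁻¹ = k * y * k⁻¹ by group] at this
    haveI := isMulCommutative_closure hS
    have hCn : (closure S).Normal := ⟨fun n hn g => by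
      induction hn using closure_induction with
      | mem x hx =>
        obtain ⟨k, y, hy, rfl⟩ := Set.mem_iUnion.1 hx
        refine subset_closure (?_ : g * (k * y * k⁻¹) * g⁻¹ ∈ S)
        rw [show g * (k * y * k⁻¹) * g⁻¹ = g * k * y * (g * k)⁻¹ by group]
        exact hmem _ _ hy
      | one => simp
      | mul x y _ _ hx hy => rw [show g * (x * y) * g⁻¹ = (g * x * g⁻¹) * (g * y * g⁻¹) by group]; exact mul_mem hx hy
      | inv x _ hx => rw [show g * x⁻¹ * g⁻¹ = (g * x * g⁻¹)⁻¹ by group]; exact inv_mem hx⟩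
    have hbot := hss _ hCn (Group.isSolvable_of_comm fun a b =>
      (inferInstance : IsMulCommutative ↥(closure S)).is_comm.comm a b)
    refine hT0 (eq_bot_iff.2 fun x hx => ?_)
    rw [← hbot]
    exact subset_closure (by simpa using hmem 1 x hx)
  have hTns : ¬ Group.IsSolvable ↥T := by
    intro hs
    have hK : N ≤ normalizer ((⁅T, T⁆ : Subgroup G) : Set G) := fun n hn => by
      have e := mem_normalizer_iff_map_conj_eq.1 (hNT hn)
      rw [mem_normalizer_iff_map_conj_eq, map_commutator, e]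
    rcases eq_or_ne ⁅T, T⁆ ⊥ with e | e
    · refine hTab fun x hx y hy => ?_
      rw [commutator_eq_bot_iff_le_centralizer] at e
      exact ((mem_centralizer_iff.1 (e hy)) x hx)
    · haveI := hs
      haveI : Nontrivial ↥T := (Subgroup.nontrivial_iff_ne_bot T).2 hT0
      have e1 := hmin _ (commutator_le_self T) e hK
      refine (Group.IsSolvable.commutator_lt_top_of_nontrivial ↥T).ne ?_
      refine map_injective T.subtype_injective ?_
      rw [map_subtype_commutator, ← MonoidHom.range_eq_map, range_subtype, e1]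
  have hkey : ∀ Y : Subgroup G, ¬ Group.IsSolvable ↥Y → ¬ ∀ x ∈ T, ∀ y ∈ Y, Commute x y := fun Y hY =>
    P.false_of_commute hnil hTns hY fun K hK hK0 hKn => hmin K hK hK0 fun n hn =>
      Subgroup.mem_normalizer_iff.2 fun k => ⟨hKn n (hNT hn) k, fun hk => by
        have := hKn n⁻¹ (inv_mem (hNT hn)) _ hk
        rwa [show n⁻¹ * (n * k * n⁻¹) * n⁻¹⁻¹ = k by group] at this⟩
  have hTn : T.Normal := by
    refine ⟨fun x hx g => ?_⟩
    rcases hcomm g with e | e
    · rw [← e]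
      exact ⟨x, hx, rfl⟩
    · refine absurd e (hkey _ fun hs => hTns ?_)
      haveI := hs
      exact Group.isSolvable_of_isSolvable_injective
        (f := (T.equivMapOfInjective (MulAut.conj g).toMonoidHom (MulAut.conj g).injective).toMonoidHom)
        (MulEquiv.injective _)
  have hTeq : T = N := le_antisymm hTN (hN.2 ⟨hTn, hT0⟩ hTN)
  refine ⟨T, hTn, ?_, fun hc => hTab fun x hx y hy =>
    congrArg Subtype.val (hc.is_comm.comm ⟨x, hx⟩ ⟨y, hy⟩), hTns, ?_⟩
  · haveI : Nontrivial ↥T := (Subgroup.nontrivial_iff_ne_bot T).2 hT0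
    refine ⟨fun M hM => ?_⟩
    rcases eq_or_ne M ⊥ with e | e
    · exact Or.inl e
    refine Or.inr (map_injective T.subtype_injective ?_)
    rw [← MonoidHom.range_eq_map, range_subtype]
    refine hmin _ (map_subtype_le M) ((map_eq_bot_iff_of_injective M T.subtype_injective).not.2 e) ?_
    intro n hn
    rw [← hTeq] at hn
    rw [Subgroup.mem_normalizer_iff]
    intro x
    have key : ∀ m ∈ T, ∀ z ∈ M.map T.subtype, m * z * m⁻¹ ∈ M.map T.subtype := by
      rintro m hm _ ⟨z, hz, rfl⟩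
      exact ⟨_, hM.conj_mem z hz ⟨m, hm⟩, rfl⟩
    refine ⟨key n hn x, fun hx => ?_⟩
    have := key n⁻¹ (inv_mem hn) _ hx
    rwa [show n⁻¹ * (n * x * n⁻¹) * n⁻¹⁻¹ = x by group] at this
  · haveI := hTn
    by_contra hC
    refine hkey (centralizer (T : Set G)) (fun hs => hC (hss _ normal_centralizer hs)) fun x hx y hy => ?_
    exact mem_centralizer_iff.1 hy x hx

end Cfsg.Lib.Partition.Data
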